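import Cfsg.Agent.H96.EvenMax.Proper
import Cfsg.Agent.H46.SympExpFour
import Mathlib.FieldTheory.IsAlgClosed.AlgebraicClosure

/-!
Structures that force an even-dimensional quadratic space to be of plus type: a form defined over
the subfield of index two, and an absolutely irreducible group of symplectic type.
-/

set_option autoImplicit false
set_option linter.unusedSectionVars false

namespace Cfsg.Agent.H96.EvenMax

open scoped MatrixGroups Matrix
open Cfsg.Geo Module
open QuadraticMap (polar polar_comm polar_add_left polar_add_right)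
open Cfsg.Agent.Orthogonal

/-- The quadratic extension of a finite field contains the roots of its quadratics. -/
theorem exists_root_quadratic {F : Type*} [Field F] [Fintype F] (F₀ : Subfield F)
    (hF : Fintype.card F = Nat.card F₀ ^ 2) (c : F₀) : ∃ t : F, t ^ 2 + t + (c : F) = 0 := by
  classical
  haveI : Fintype F₀ := Fintype.ofFinite F₀
  rw [Nat.card_eq_fintype_card] at hF
  set K := AlgebraicClosure F
  letI : Algebra F₀ K := ((algebraMap F K).comp F₀.subtype).toAlgebra
  obtain ⟨t, ht⟩ := IsAlgClosed.exists_root (Polynomial.X ^ 2 + Polynomial.X + Polynomial.C (algebraMap F₀ K c))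
    (by
      intro h
      have hd : (Polynomial.X ^ 2 + Polynomial.X + Polynomial.C (algebraMap F₀ K c)).degree = 2 := by
        compute_degree!
      rw [h] at hd
      exact absurd hd (by decide))
  simp only [Polynomial.IsRoot, Polynomial.eval_add, Polynomial.eval_pow, Polynomial.eval_X, Polynomial.eval_C] at ht
  let φ := FiniteField.frobeniusAlgHom F₀ K
  have hφ : ∀ s : K, φ s = s ^ Fintype.card F₀ := fun s => rfl
  have h1 : φ t ^ 2 + φ t + algebraMap F₀ K c = 0 := by
    have := congrArg φ ht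
    rwa [map_add, map_add, map_pow, AlgHom.commutes, map_zero] at this
  have h2 : φ (φ t) = t := by
    have h3 : (φ t - t) * (φ t + t + 1) = 0 := by linear_combination h1 - ht
    rcases mul_eq_zero.1 h3 with h | h
    · rw [sub_eq_zero.1 h, sub_eq_zero.1 h]
    · have e : φ t = -t - 1 := by linear_combination h
      rw [e, map_sub, map_neg, map_one, e]; ring
  have h3 : t ^ Fintype.card F = t := by rw [hF, pow_two, pow_mul, ← hφ, ← hφ, h2]
  obtain ⟨a, ha⟩ : ∃ a : F, algebraMap F K a = t := by
    by_contra hn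
    push Not at hn
    have hq := Fintype.one_lt_card (α := F)
    have hle := Polynomial.card_le_degree_of_subset_roots
      (p := (Polynomial.X ^ Fintype.card F - Polynomial.X : Polynomial K))
      (Z := insert t (Finset.univ.image (algebraMap F K))) (by
        intro s hs
        rw [Finset.mem_val, Finset.mem_insert, Finset.mem_image] at hs
        rw [Polynomial.mem_roots (FiniteField.X_pow_card_sub_X_ne_zero K hq)]
        rcases hs with rfl | ⟨a, -, rfl⟩
        · simp [Polynomial.IsRoot, h3]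
        · simp [Polynomial.IsRoot, ← map_pow, FiniteField.pow_card])
    rw [FiniteField.X_pow_card_sub_X_natDegree_eq K hq, Finset.card_insert_of_notMem (by simpa using hn),
      Finset.card_image_of_injective _ (algebraMap F K).injective, Finset.card_univ] at hle
    omega
  refine ⟨a, (algebraMap F K).injective ?_⟩
  rw [map_add, map_add, map_pow, ha, map_zero]
  exact ht

variable {ι : Type} [Fintype ι] [DecidableEq ι] {F : Type*} [Field F] [Fintype F]
  {Q : QuadraticForm F (ι → F)}

/-- Transport of a quadratic form over a subfield to the whole field. -/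
theorem exists_extend (F₀ : Subfield F) (P : GL ι F) (Q₁ : QuadraticForm F (ι → F))
    (Q₀ : QuadraticForm F₀ (ι → F₀))
    (hQ₀ : ∀ u, (Q₀ u : F) = Q₁ ((P : Matrix ι ι F) *ᵥ fun i => (u i : F)))
    {κ : Type} [Fintype κ] [DecidableEq κ] (E : (κ → F₀) ≃ₗ[F₀] (ι → F₀))
    (S₀ : QuadraticForm F₀ (κ → F₀)) (hE : ∀ x, Q₀ (E x) = S₀ x) (S : QuadraticForm F (κ → F))
    (hS : ∀ x : κ → F₀, S (fun s => (x s : F)) = (S₀ x : F)) :
    ∃ e : (κ → F) ≃ₗ[F] (ι → F), ∀ x, Q₁ (e x) = S x := by
  classical
  let coe' : (ι → F₀) → ι → F := fun u i => (u i : F)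
  let v : κ → ι → F := fun s => (P : Matrix ι ι F) *ᵥ coe' (E (Pi.single s 1))
  have hspan : ⊤ ≤ Submodule.span F (Set.range v) := by
    intro y _
    have key : ∀ u : ι → F₀, (P : Matrix ι ι F) *ᵥ coe' u ∈ Submodule.span F (Set.range v) := fun u => by
      obtain ⟨x, rfl⟩ := E.surjective u
      have e1 : coe' (E x) = ∑ s, (x s : F) • coe' (E (Pi.single s 1)) := by
        conv_lhs => rw [pi_eq_sum_univ' x]
        funext i
        simp [coe', Finset.sum_apply]
      rw [e1, Matrix.mulVec_sum]
      refine Submodule.sum_mem _ fun s _ => ?_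
      rw [Matrix.mulVec_smul]
      exact Submodule.smul_mem _ _ (Submodule.subset_span ⟨s, rfl⟩)
    have hy : y = (P : Matrix ι ι F) *ᵥ (((P⁻¹ : GL ι F) : Matrix ι ι F) *ᵥ y) := by
      rw [Matrix.mulVec_mulVec, Units.mul_inv, Matrix.one_mulVec]
    rw [hy, pi_eq_sum_univ' (((P⁻¹ : GL ι F) : Matrix ι ι F) *ᵥ y), Matrix.mulVec_sum]
    refine Submodule.sum_mem _ fun i _ => ?_
    rw [Matrix.mulVec_smul]
    refine Submodule.smul_mem _ _ ?_
    convert key (Pi.single i 1) using 2
    funext j
    by_cases hj : j = i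
    · subst hj; simp [coe']
    · simp [coe', Pi.single_eq_of_ne hj]
  have hcard : Fintype.card κ = finrank F (ι → F) := by
    rw [finrank_fintype_fun_eq_card, ← finrank_fintype_fun_eq_card (R := F₀), E.finrank_eq,
      finrank_fintype_fun_eq_card]
  let b := basisOfTopLeSpanOfCardEqFinrank v hspan hcard
  have hb : ∀ s, b s = v s := fun s => by simp [b]
  have hval : ∀ x : κ → F₀, Q₁ ((P : Matrix ι ι F) *ᵥ coe' (E x)) = S (fun s => (x s : F)) := fun x => by
    rw [hS, ← hE, hQ₀]
  have hsingle : ∀ s, (fun k => ((Pi.single s 1 : κ → F₀) k : F)) = (Pi.single s 1 : κ → F) := fun s => by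
    funext k
    by_cases hk : k = s
    · subst hk; simp
    · simp [Pi.single_eq_of_ne hk]
  obtain ⟨e, -, he⟩ := Orthogonal.equiv_of_bases (Pi.basisFun F κ) b (Q := S) (Q' := Q₁)
    (fun s => by rw [hb, Pi.basisFun_apply, ← hsingle]; exact hval _)
    (fun s s' _ => by
      rw [hb, hb, Pi.basisFun_apply, Pi.basisFun_apply, ← hsingle, ← hsingle]
      simp only [QuadraticMap.polar, v, ← Matrix.mulVec_add]
      have e1 : coe' (E (Pi.single s 1)) + coe' (E (Pi.single s' 1)) = coe' (E (Pi.single s 1 + Pi.single s' 1)) := by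
        rw [map_add]; funext i; simp [coe']
      have e2 : ∀ a b : κ → F₀, (fun k => (a k : F)) + (fun k => (b k : F)) = fun k => ((a + b) k : F) :=
        fun a b => by funext k; simp
      rw [e1, hval, hval, hval, e2])
  exact ⟨e, he⟩

/-- A form with a rational structure over the subfield of index two is of plus type. -/
theorem plus_of_rational_two (hQ : Nondeg Q) (hev : Even (Fintype.card ι)) (h2n : 2 ≤ Fintype.card ι)
    {F₀ : Subfield F} (hF : Fintype.card F = Nat.card F₀ ^ 2) {P : GL ι F} {ζ : F} (hζ : ζ ≠ 0)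
    (hrat : IsQuadFormRationalStructure (fun v => ζ * Q v) F₀ P) : Plus Q ⊤ := by
  classical
  haveI : Fintype F₀ := Fintype.ofFinite F₀
  let Q₁ : QuadraticForm F (ι → F) := ζ • Q
  have hQ₁ : ∀ v, Q₁ v = ζ * Q v := fun v => rfl
  let coe' : (ι → F₀) → ι → F := fun u i => (u i : F)
  have hmem : ∀ u, Q₁ ((P : Matrix ι ι F) *ᵥ coe' u) ∈ F₀ := fun u => hrat _ fun i => (u i).2
  let f : (ι → F₀) → F₀ := fun u => ⟨_, hmem u⟩
  have hc_add : ∀ x y : ι → F₀, coe' (x + y) = coe' x + coe' y := fun x y => by funext i; simp [coe']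
  have hc_smul : ∀ (a : F₀) (x : ι → F₀), coe' (a • x) = (a : F) • coe' x := fun a x => by funext i; simp [coe']
  have hpolF : ∀ x y, ((polar f x y : F₀) : F) =
      polar Q₁ ((P : Matrix ι ι F) *ᵥ coe' x) ((P : Matrix ι ι F) *ᵥ coe' y) := fun x y => by
    simp [polar, f, hc_add, Matrix.mulVec_add]
  let Q₀ : QuadraticForm F₀ (ι → F₀) := QuadraticMap.ofPolar f
    (fun a x => Subtype.ext (by simp [f, hc_smul, Matrix.mulVec_smul, qmap_smul, pow_two]))
    (fun x y z => Subtype.ext (by
      push_cast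
      rw [hpolF, hpolF, hpolF, hc_add, Matrix.mulVec_add, polar_add_left]))
    (fun a x y => Subtype.ext (by
      push_cast
      rw [hpolF, smul_eq_mul]
      push_cast
      rw [hpolF, hc_smul, Matrix.mulVec_smul, polar_smul_left']))
  have hN : Nondeg Q₀ := by
    intro x hx
    have h0 : (P : Matrix ι ι F) *ᵥ coe' x = 0 := by
      refine hQ _ fun y => mul_left_cancel₀ hζ ?_
      have hy : y = (P : Matrix ι ι F) *ᵥ (((P⁻¹ : GL ι F) : Matrix ι ι F) *ᵥ y) := by
        rw [Matrix.mulVec_mulVec, Units.mul_inv, Matrix.one_mulVec]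
      rw [hy, pi_eq_sum_univ' (((P⁻¹ : GL ι F) : Matrix ι ι F) *ᵥ y), Matrix.mulVec_sum, mul_zero,
        ← polarBilin_apply', map_sum, Finset.mul_sum]
      refine Finset.sum_eq_zero fun i _ => ?_
      rw [Matrix.mulVec_smul, map_smul, polarBilin_apply', smul_eq_mul, mul_left_comm]
      have hi := congrArg (Subtype.val) (hx (Pi.single i 1))
      rw [show (polar Q₀ x (Pi.single i 1) : F₀) = polar f x (Pi.single i 1) from rfl, hpolF] at hi
      have hs : coe' (Pi.single i 1) = (Pi.single i 1 : ι → F) := by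
        funext k
        by_cases hk : k = i
        · subst hk; simp [coe']
        · simp [coe', Pi.single_eq_of_ne hk]
      rw [hs] at hi
      have : ζ * polar Q ((P : Matrix ι ι F) *ᵥ coe' x) ((P : Matrix ι ι F) *ᵥ Pi.single i 1) = 0 := by
        simp only [polar, hQ₁] at hi ⊢
        simp only [ZeroMemClass.coe_zero] at hi
        linear_combination hi
      rw [this, mul_zero]
    have := Matrix.mulVec_injective_iff_isUnit.2 P.isUnit (h0.trans (Matrix.mulVec_zero _).symm)
    funext i
    exact Subtype.ext (congrFun this i)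
  obtain ⟨j, hj⟩ := hev
  obtain ⟨m, rfl⟩ : ∃ m, j = m + 1 := ⟨j - 1, by omega⟩
  have hdim : finrank F₀ (ι → F₀) = 2 * (m + 1) := by rw [finrank_fintype_fun_eq_card]; omega
  have hcl : ∀ {κ : Type} [Fintype κ] [DecidableEq κ] (e : (κ → F) ≃ₗ[F] (ι → F)) (S : QuadraticForm F (κ → F)),
      (∀ x, Q₁ (e x) = S x) → ∀ (J : (Fin (m + 1) → F) →ₗ[F] (κ → F)), Function.Injective J →
        (∀ a, S (J a) = 0) → Plus Q ⊤ := by
    intro κ _ _ e S he J hJ hS
    refine ⟨LinearMap.range (e.toLinearMap.comp J), le_top, ?_, ?_⟩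
    · rintro _ ⟨a, rfl⟩
      refine (mul_eq_zero.1 (?_ : ζ * Q _ = 0)).resolve_left hζ
      rw [← hQ₁, LinearMap.comp_apply, LinearEquiv.coe_coe, he, hS]
    · rw [LinearMap.finrank_range_of_inj (f := e.toLinearMap.comp J) (e.injective.comp hJ), finrank_top,
        finrank_fintype_fun_eq_card, finrank_fintype_fun_eq_card, Fintype.card_fin]
      omega
  rcases hN.classify_even hdim with ⟨E, hE⟩ | ⟨ζ₀, E, -, hE⟩
  · obtain ⟨e, he⟩ := exists_extend F₀ P Q₁ Q₀ (fun u => rfl) E _ hE (formPlus F (m + 1))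
      (fun x => by simp [formPlus_coe, Cfsg.quadFormPlus])
    refine hcl e _ he
      { toFun := fun a => Sum.elim a 0
        map_add' := fun a b => by funext s; rcases s with s | s <;> simp
        map_smul' := fun c a => by funext s; rcases s with s | s <;> simp }
      (fun a b hab => funext fun i => congrFun hab (.inl i)) (fun a => ?_)
    simp [formPlus_coe, Cfsg.quadFormPlus]
  · obtain ⟨e, he⟩ := exists_extend F₀ P Q₁ Q₀ (fun u => rfl) E _ hE (formMinus F m 1 (ζ₀ : F))
      (fun x => by simp [formMinus_coe, Cfsg.quadFormMinus])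
    obtain ⟨t, ht⟩ := exists_root_quadratic F₀ hF ζ₀
    refine hcl e _ he
      { toFun := fun a => Sum.elim (Sum.elim (fun i => a i.castSucc) 0) ![t * a (Fin.last m), a (Fin.last m)]
        map_add' := fun a b => by
          funext s; rcases s with (s | s) | s
          · simp
          · simp
          · fin_cases s <;> simp; ring
        map_smul' := fun c a => by
          funext s; rcases s with (s | s) | s
          · simp
          · simp
          · fin_cases s <;> simp; ring }
      (fun a b hab => funext fun i => by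
        induction i using Fin.lastCases with
        | last => exact congrFun hab (.inr 1)
        | cast i => exact congrFun hab (.inl (.inl i))) (fun a => ?_)
    simp [formMinus_coe, Cfsg.quadFormMinus]
    linear_combination (a (Fin.last m)) ^ 2 * ht

/-- A group of symplectic type and exponent four has a non-central involution inverted to its
negative. -/
theorem exists_swap_involution {R : Subgroup (GL ι F)} (hR : IsSymplecticTypeGroup 2 R)
    (h16 : 16 ≤ Nat.card R) (hc : Nat.card (Subgroup.center R) = 2) :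
    ∃ z a b : R, z ∈ Subgroup.center R ∧ z ≠ 1 ∧ z ^ 2 = 1 ∧ a ^ 2 = 1 ∧ b * a * b⁻¹ = z * a := by
  classical
  haveI : Finite R := Nat.finite_of_card_ne_zero (by omega)
  have h4 : ∀ x : R, x ^ 4 = 1 := fun x => by
    have := Monoid.pow_exponent_eq_one x
    rwa [hR.exponent_eq] at this
  obtain ⟨z, hz, hz1, huniq⟩ : ∃ z ∈ Subgroup.center R, z ≠ 1 ∧ ∀ w ∈ Subgroup.center R, w = 1 ∨ w = z := by
    haveI : Nontrivial (Subgroup.center R) := Finite.one_lt_card_iff_nontrivial.1 (by omega)
    obtain ⟨z, hz1⟩ := exists_ne (1 : Subgroup.center R)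
    refine ⟨z, z.2, fun h => hz1 (Subtype.ext h), fun w hw => ?_⟩
    by_contra hcon
    push Not at hcon
    haveI := Fintype.ofFinite (Subgroup.center R)
    have := Finset.card_le_univ ({1, z, ⟨w, hw⟩} : Finset (Subgroup.center R))
    rw [Finset.card_insert_of_notMem, Finset.card_insert_of_notMem, Finset.card_singleton,
      ← Nat.card_eq_fintype_card, hc] at this
    · omega
    · rw [Finset.mem_singleton]; exact fun h => hcon.2 (congrArg Subtype.val h).symm
    · simp only [Finset.mem_insert, Finset.mem_singleton, not_or]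
      exact ⟨fun h => hz1 h.symm, fun h => hcon.1 (congrArg Subtype.val h).symm⟩
  have hz2 : z ^ 2 = 1 := by
    rcases huniq _ (pow_mem hz 2) with h | h
    · exact h
    · exact absurd (mul_eq_left.1 (by rw [← pow_two]; exact h : z * z = z)) hz1
  have hsq : H46.SmallPhi R z := (H46.symp_exp_four
    ⟨hR.pGroup, fun A hA hA' => hR.cyclic_of_characteristic A hA hA'⟩ h4 hz hz2 hz1).1
  have hzc : ∀ w : R, w * z = z * w := fun w => Subgroup.mem_center_iff.1 hz w
  -- a non-central element
  obtain ⟨x, hx⟩ : ∃ x : R, x ∉ Subgroup.center R := by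
    by_contra hcon
    push Not at hcon
    rw [Subgroup.eq_top_iff' (Subgroup.center R) |>.2 hcon, Subgroup.card_top] at hc
    omega
  let φ : R →* Subgroup.center R :=
    { toFun := fun r => ⟨r * x * r⁻¹ * x⁻¹, by
        rcases hsq.2 r x with h | h <;> rw [h]
        exacts [one_mem _, hz]⟩
      map_one' := Subtype.ext (by simp)
      map_mul' := fun r s => Subtype.ext (by
        show r * s * x * (r * s)⁻¹ * x⁻¹ = (r * x * r⁻¹ * x⁻¹) * (s * x * s⁻¹ * x⁻¹)
        have hk : ∀ w, w * (s * x * s⁻¹ * x⁻¹) = (s * x * s⁻¹ * x⁻¹) * w := by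
          rcases hsq.2 s x with h | h <;> rw [h]
          exacts [fun w => by simp, hzc]
        calc r * s * x * (r * s)⁻¹ * x⁻¹ = r * (s * x * s⁻¹ * x⁻¹) * (x * r⁻¹ * x⁻¹) := by group
          _ = (s * x * s⁻¹ * x⁻¹) * r * (x * r⁻¹ * x⁻¹) := by rw [hk r]
          _ = (s * x * s⁻¹ * x⁻¹) * (r * x * r⁻¹ * x⁻¹) := by group
          _ = _ := (hk _).symm) }
  have hker : ∀ r, r ∈ φ.ker ↔ r * x = x * r := fun r => by
    rw [MonoidHom.mem_ker, Subtype.ext_iff]
    show r * x * r⁻¹ * x⁻¹ = 1 ↔ _
    rw [mul_inv_eq_one, mul_inv_eq_iff_eq_mul]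
  have h8 : 8 ≤ Nat.card φ.ker := by
    have h1 := φ.ker.card_mul_index
    have h2 : φ.ker.index ≤ 2 := by
      rw [Subgroup.index_ker, ← hc]
      exact Nat.card_le_card_of_injective _ Subtype.val_injective
    nlinarith
  obtain ⟨u, hu, hu'⟩ : ∃ u ∈ φ.ker, u ∉ ({1, z, x, x * z} : Finset R) := by
    by_contra hcon
    push Not at hcon
    have : Nat.card φ.ker ≤ 4 := by
      calc Nat.card φ.ker ≤ Nat.card ({1, z, x, x * z} : Finset R) :=
            Nat.card_le_card_of_injective (fun r => ⟨r.1, hcon r r.2⟩) fun a b h => Subtype.ext (congrArg (fun w => w.1) h :)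
        _ = ({1, z, x, x * z} : Finset R).card := Nat.card_eq_finsetCard _
        _ ≤ 4 := Finset.card_le_four
    omega
  simp only [Finset.mem_insert, Finset.mem_singleton, not_or] at hu'
  have hux : u * x = x * u := (hker u).1 hu
  have hnc : ∀ w : R, w ∉ Subgroup.center R → ∃ b, b * w * b⁻¹ = z * w := fun w hw => by
    rw [Subgroup.mem_center_iff] at hw
    push Not at hw
    obtain ⟨b, hb⟩ := hw
    refine ⟨b, ?_⟩
    rcases hsq.2 b w with h | h
    · rw [mul_inv_eq_one, mul_inv_eq_iff_eq_mul] at h; exact absurd h hb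
    · rwa [mul_inv_eq_iff_eq_mul] at h
  have huc : u ∉ Subgroup.center R := fun h => (huniq u h).elim hu'.1 hu'.2.1
  rcases hsq.1 u with h | h
  · obtain ⟨b, hb⟩ := hnc u huc
    exact ⟨z, u, b, hz, hz1, hz2, h, hb⟩
  rcases hsq.1 x with h' | h'
  · obtain ⟨b, hb⟩ := hnc x hx
    exact ⟨z, x, b, hz, hz1, hz2, h', hb⟩
  have hxu : x * u ∉ Subgroup.center R := fun hmem => by
    have hxi : x⁻¹ = x * z := inv_eq_of_mul_eq_one_right (by
      rw [← mul_assoc, ← pow_two, h', ← pow_two, hz2])
    rcases huniq _ hmem with e | e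
    · exact hu'.2.2.2 (by rw [← hxi]; exact eq_inv_of_mul_eq_one_right e)
    · refine hu'.2.2.1 ?_
      have : u = x⁻¹ * z := eq_inv_mul_of_mul_eq e
      rw [this, hxi, mul_assoc, ← pow_two, hz2, mul_one]
  obtain ⟨b, hb⟩ := hnc _ hxu
  refine ⟨z, x * u, b, hz, hz1, hz2, ?_, hb⟩
  rw [(show Commute x u from hux.symm).mul_pow, h', h, ← pow_two, hz2]

/-- In dimension eight an absolutely irreducible isometry group of symplectic type forces plus type. -/
theorem plus_of_sympType (hQ : Nondeg Q) (h4 : 4 ∣ Fintype.card ι) (h2 : (2 : F) ≠ 0) {R : Subgroup (GL ι F)}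
    (hR : IsSymplecticTypeGroup 2 R) (habs : ActsAbsolutelyIrreducibly (matrixSet R))
    (hfix : FixesQuadForm (matrixSet R) ⇑Q) (h16 : 16 ≤ Nat.card R) (hc : Nat.card (Subgroup.center R) = 2) :
    Plus Q ⊤ := by
  classical
  obtain ⟨z, a, b, hz, hz1, hz2, ha, hb⟩ := exists_swap_involution hR h16 hc
  obtain ⟨c, hcz⟩ := habs.2 ((z : GL ι F) : Matrix ι ι F) (by
    rintro _ ⟨g, hg, rfl⟩
    have := congrArg (fun w : R => ((w : GL ι F) : Matrix ι ι F)) (Subgroup.mem_center_iff.1 hz ⟨g, hg⟩)
    simpa [Subgroup.coe_mul, Units.val_mul] using this.symm)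
  rcases isEmpty_or_nonempty ι with hi | hi
  · exact ⟨⊥, bot_le, fun x hx => by rw [(Submodule.mem_bot F).1 hx]; exact QuadraticMap.map_zero Q,
      by rw [finrank_bot, finrank_top, finrank_fintype_fun_eq_card, Fintype.card_eq_zero]⟩
  have hc2 : c ^ 2 = 1 := by
    have h1 : ((z : GL ι F) : Matrix ι ι F) ^ 2 = 1 := by
      rw [← Units.val_pow_eq_pow_val, ← Subgroup.coe_pow, hz2]; rfl
    rw [hcz, smul_pow, one_pow] at h1
    obtain ⟨i⟩ := hi
    simpa using congrFun (congrFun h1 i) i
  have hc1 : c = -1 := by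
    rcases sq_eq_one_iff.1 hc2 with h | h
    · rw [h, one_smul] at hcz
      exact absurd (Subtype.ext (Units.ext hcz)) hz1
    · exact h
  rw [hc1, neg_one_smul] at hcz
  set A := ((a : GL ι F) : Matrix ι ι F) with hA
  set B := ((b : GL ι F) : Matrix ι ι F) with hB
  have hAA : A * A = 1 := by
    rw [hA, ← Units.val_mul, ← Subgroup.coe_mul, ← pow_two, ha]; rfl
  have hBA : ∀ v, A *ᵥ (B *ᵥ v) = - (B *ᵥ (A *ᵥ v)) := fun v => by
    have h1 : b * a = z * a * b := mul_inv_eq_iff_eq_mul.1 hb
    have h2' := congrArg (fun w : R => ((w : GL ι F) : Matrix ι ι F)) h1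
    simp only [Subgroup.coe_mul, Units.val_mul, hcz, neg_mul, one_mul] at h2'
    rw [Matrix.mulVec_mulVec, Matrix.mulVec_mulVec, h2', Matrix.neg_mulVec, neg_neg]
  have hQA : ∀ v, Q (A *ᵥ v) = Q v := fun v => hfix _ ⟨_, a.2, rfl⟩ v
  have hQB : ∀ v, Q (B *ᵥ v) = Q v := fun v => hfix _ ⟨_, b.2, rfl⟩ v
  let W : F → Submodule F (ι → F) := fun s => LinearMap.ker (Matrix.toLin' A - s • LinearMap.id)
  have hW : ∀ s v, v ∈ W s ↔ A *ᵥ v = s • v := fun s v => by simp [W, sub_eq_zero]
  have horth : Orth Q (W 1) (W (-1)) := fun u hu v hv => by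
    rw [hW] at hu hv
    have h := congrArg id (hQA (u + v))
    simp only [id, Matrix.mulVec_add, hu, hv, map_add_polar, qmap_smul, polar_smul_left', polar_smul_right'] at h
    exact (mul_eq_zero.1 (show (2 : F) * polar Q u v = 0 by linear_combination -h)).resolve_left h2
  have hsup : W 1 ⊔ W (-1) = ⊤ := by
    rw [eq_top_iff]
    intro v _
    refine Submodule.mem_sup.2 ⟨(2 : F)⁻¹ • (v + A *ᵥ v), ?_, (2 : F)⁻¹ • (v - A *ᵥ v), ?_, ?_⟩
    · rw [hW, Matrix.mulVec_smul, Matrix.mulVec_add, Matrix.mulVec_mulVec, hAA, Matrix.one_mulVec, one_smul,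
        add_comm]
    · rw [hW, Matrix.mulVec_smul, Matrix.mulVec_sub, Matrix.mulVec_mulVec, hAA, Matrix.one_mulVec, neg_one_smul,
        ← smul_neg, neg_sub]
    · rw [← smul_add, add_add_sub_cancel, ← two_smul F v, inv_smul_smul₀ h2]
  have hnd : Nondeg (restr Q (W 1)) := fun x hx => by
    refine Subtype.ext (hQ x fun y => ?_)
    obtain ⟨u, hu, v, hv, rfl⟩ := Submodule.mem_sup.1 (hsup.symm ▸ Submodule.mem_top (x := y))
    have := hx ⟨u, hu⟩
    rw [polar_restr] at this
    rw [polar_add_right, this, horth x x.2 v hv, add_zero]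
  have hBinj : Function.Injective (Matrix.toLin' B) := fun u v h => by
    rw [hB] at h
    exact Matrix.mulVec_injective_iff_isUnit.2 (b : GL ι F).isUnit (by simpa using h)
  have hmap : (W 1).map (Matrix.toLin' B) = W (-1) := by
    refine le_antisymm ?_ fun v hv => ?_
    · rintro _ ⟨v, hv, rfl⟩
      rw [SetLike.mem_coe, hW] at hv
      rw [Matrix.toLin'_apply, hW, hBA, hv, one_smul, neg_one_smul]
    · obtain ⟨u, rfl⟩ := (LinearMap.injective_iff_surjective.1 hBinj) v
      rw [Matrix.toLin'_apply, hW, hBA, neg_one_smul, neg_inj] at hv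
      refine ⟨u, ?_, rfl⟩
      rw [SetLike.mem_coe, hW, one_smul]
      exact hBinj (by simpa using hv)
  let φ := (Submodule.equivMapOfInjective _ hBinj (W 1)).trans (LinearEquiv.ofEq _ _ hmap)
  have hd := finrank_sup_orth horth hnd
  rw [hsup, finrank_top, finrank_fintype_fun_eq_card, ← φ.finrank_eq] at hd
  rw [← hsup]
  refine plus_pair horth hnd ?_ φ fun w => hQB w
  obtain ⟨j, hj⟩ := h4
  exact ⟨j, by omega⟩

end Cfsg.Agent.H96.EvenMax
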