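import Cfsg.Agent.Orthogonal.StdForms
import Cfsg.Agent.H51.ClassSplit
import Cfsg.Agent.Orthogonal.MaxTS

/-!
Plus and minus type of orthogonal sums of non-degenerate subspaces over a finite field.
-/

set_option autoImplicit false
set_option linter.unusedSectionVars false
set_option linter.style.haveILetI false

namespace Cfsg.Agent.H96.EvenMax

open QuadraticMap Module Cfsg.Agent.Orthogonal

variable {F V : Type*} [Field F] [AddCommGroup V] [Module F V] [FiniteDimensional F V]
  {Q : QuadraticForm F V}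

/-- Totally singular half. -/
def Plus (Q : QuadraticForm F V) (W : Submodule F V) : Prop :=
  ∃ U : Submodule F V, U ≤ W ∧ TotSing Q U ∧ 2 * finrank F U = finrank F W

/-- Orthogonal subspaces. -/
def Orth (Q : QuadraticForm F V) (W W' : Submodule F V) : Prop := ∀ u ∈ W, ∀ v ∈ W', polar Q u v = 0

omit [FiniteDimensional F V] in
theorem Orth.symm {W W' : Submodule F V} (h : Orth Q W W') : Orth Q W' W :=
  fun u hu v hv => by rw [polar_comm]; exact h v hv u hu

omit [FiniteDimensional F V] in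
theorem Orth.sup_left {W W₁ W' : Submodule F V} (h : Orth Q W W') (h₁ : Orth Q W₁ W') :
    Orth Q (W ⊔ W₁) W' := fun u hu v hv => by
  obtain ⟨a, ha, b, hb, rfl⟩ := Submodule.mem_sup.1 hu
  rw [polar_add_left, h a ha v hv, h₁ b hb v hv, add_zero]

omit [FiniteDimensional F V] in
theorem Orth.disjoint {W W' : Submodule F V} (h : Orth Q W W') (hW : Nondeg (restr Q W)) :
    W ⊓ W' = ⊥ := by
  refine (Submodule.eq_bot_iff _).2 fun x hx => congrArg Subtype.val (hW ⟨x, hx.1⟩ fun y => ?_)
  rw [polar_restr, polar_comm]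
  exact h y y.2 x hx.2

omit [FiniteDimensional F V] in
theorem nondeg_sup {W W' : Submodule F V} (h : Orth Q W W') (hW : Nondeg (restr Q W))
    (hW' : Nondeg (restr Q W')) : Nondeg (restr Q (W ⊔ W')) := by
  rintro ⟨x, hx⟩ hpol
  obtain ⟨a, ha, b, hb, rfl⟩ := Submodule.mem_sup.1 hx
  have h1 : a = 0 := congrArg Subtype.val (hW ⟨a, ha⟩ fun y => by
    have := hpol ⟨y, Submodule.mem_sup_left y.2⟩
    rw [polar_restr, polar_add_left, h.symm b hb y y.2, add_zero] at this
    rw [polar_restr]; exact this)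
  have h2 : b = 0 := congrArg Subtype.val (hW' ⟨b, hb⟩ fun y => by
    have := hpol ⟨y, Submodule.mem_sup_right y.2⟩
    rw [polar_restr, polar_add_left, h a ha y y.2, zero_add] at this
    rw [polar_restr]; exact this)
  exact Subtype.ext (by simp [h1, h2])

theorem finrank_sup_orth {W W' : Submodule F V} (h : Orth Q W W') (hW : Nondeg (restr Q W)) :
    finrank F ↥(W ⊔ W') = finrank F W + finrank F W' := by
  have := Submodule.finrank_sup_add_finrank_inf_eq W W'
  rw [h.disjoint hW, finrank_bot, add_zero] at this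
  exact this

theorem Plus.sup {W W' : Submodule F V} (h : Orth Q W W') (hW : Nondeg (restr Q W)) (hp : Plus Q W)
    (hp' : Plus Q W') : Plus Q (W ⊔ W') := by
  obtain ⟨U, hUW, hU, hUd⟩ := hp
  obtain ⟨U', hUW', hU', hUd'⟩ := hp'
  refine ⟨U ⊔ U', sup_le_sup hUW hUW', fun x hx => ?_, ?_⟩
  · obtain ⟨a, ha, b, hb, rfl⟩ := Submodule.mem_sup.1 hx
    rw [map_add_polar, hU a ha, hU' b hb, h a (hUW ha) b (hUW' hb)]; ring
  · have h1 := Submodule.finrank_sup_add_finrank_inf_eq U U'
    have h2 : U ⊓ U' = ⊥ := eq_bot_iff.2 ((inf_le_inf hUW hUW').trans_eq (h.disjoint hW))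
    rw [h2, finrank_bot, add_zero] at h1
    rw [h1, finrank_sup_orth h hW]; omega

/-- Minus plus plus is minus. -/
theorem not_plus_sup {W W' : Submodule F V} (h : Orth Q W W') (hW : Nondeg (restr Q W))
    (hW' : Nondeg (restr Q W')) (hp : ¬ Plus Q W) (hp' : Plus Q W') : ¬ Plus Q (W ⊔ W') := by
  rintro ⟨U, hUS, hU, hUd⟩
  obtain ⟨U', hUW', hU', hUd'⟩ := hp'
  set S := W ⊔ W' with hS
  have hd := finrank_sup_orth h hW
  rw [← hS] at hd
  have hnS : Nondeg (restr Q S) := nondeg_sup h hW hW'
  have hU'S : U' ≤ S := hUW'.trans le_sup_right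
  have c1 : TotSing (restr Q S) (U.comap S.subtype) := fun x hx => hU _ hx
  have c2 : TotSing (restr Q S) (U'.comap S.subtype) := fun x hx => hU' _ hx
  have f1 := (Submodule.comapSubtypeEquivOfLe hUS).finrank_eq
  have f2 := (Submodule.comapSubtypeEquivOfLe hU'S).finrank_eq
  obtain ⟨T, hle, hT, hTd⟩ := TotSing.exists_max_ge hnS c2 c1 (by omega)
  set T' := T.map S.subtype
  have hT' : TotSing Q T' := by rintro _ ⟨x, hx, rfl⟩; exact hT x hx
  have hT'd : finrank F T' = finrank F T := Submodule.finrank_map_subtype_eq _ _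
  have hU'T : U' ≤ T' := fun x hx => ⟨⟨x, hU'S hx⟩, hle hx, rfl⟩
  -- `T'` lies in `W ⊔ U'`
  have hTle : T' ≤ W ⊔ U' := by
    intro x hx
    obtain ⟨⟨x', hx'⟩, -, rfl⟩ := id hx
    obtain ⟨a, ha, b, hb, rfl⟩ := Submodule.mem_sup.1 (show x' ∈ W ⊔ W' from hx')
    refine Submodule.add_mem _ (Submodule.mem_sup_left ha) (Submodule.mem_sup_right ?_)
    have hperp : perp (restr Q W') (U'.comap W'.subtype) = U'.comap W'.subtype :=
      TotSing.perp_eq_self hW' (m := finrank F U') hUd'.symm (fun z hz => hU' _ hz)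
        (Submodule.comapSubtypeEquivOfLe hUW').finrank_eq
    have hmem : (⟨b, hb⟩ : W') ∈ perp (restr Q W') (U'.comap W'.subtype) := fun w hw => by
      rw [polar_restr]
      have h0 := hT'.polar_eq (hU'T hw) hx
      simp only [Submodule.subtype_apply] at h0
      rw [polar_add_right, h.symm _ w.2 a ha, zero_add] at h0
      exact h0
    rw [hperp] at hmem
    exact hmem
  refine hp ?_
  have hsup : T' = U' ⊔ (T' ⊓ W) := by
    refine le_antisymm (fun x hx => ?_) (sup_le hU'T inf_le_left)
    obtain ⟨a, ha, b, hb, rfl⟩ := Submodule.mem_sup.1 (hTle hx)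
    refine Submodule.mem_sup.2 ⟨b, hb, a, ⟨?_, ha⟩, add_comm b a⟩
    have := T'.sub_mem hx (hU'T hb)
    rwa [add_sub_cancel_right] at this
  have h3 : finrank F T' = finrank F U' + finrank F ↥(T' ⊓ W) := by
    have h4 := Submodule.finrank_sup_add_finrank_inf_eq U' (T' ⊓ W)
    have h5 : U' ⊓ (T' ⊓ W) = ⊥ := eq_bot_iff.2
      ((inf_le_inf hUW' inf_le_right).trans_eq (inf_comm W' W ▸ h.disjoint hW))
    rw [h5, finrank_bot, add_zero, ← hsup] at h4
    exact h4
  exact ⟨T' ⊓ W, inf_le_right, fun x hx => hT' x hx.1, by omega⟩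

/-- Two isometric subspaces one of which has an anti-isometry make a plus sum. -/
theorem plus_of_anti {W W' : Submodule F V} (h : Orth Q W W') (hW : Nondeg (restr Q W)) (φ : W ≃ₗ[F] W')
    (A : W →ₗ[F] W) (hφ : ∀ w, Q (φ w : V) = Q (w : V)) (hA : ∀ w, Q (A w : V) = - Q (w : V)) :
    Plus Q (W ⊔ W') := by
  let L : W →ₗ[F] V := W.subtype + W'.subtype.comp (φ.toLinearMap.comp A)
  have hinj : Function.Injective L := fun a b hab => by
    refine Subtype.ext (sub_eq_zero.1 ?_)
    have : (a : V) - b ∈ W ⊓ W' := ⟨W.sub_mem a.2 b.2, by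
      have h1 : (a : V) - b = ((φ (A b) : W') : V) - (φ (A a) : V) := by
        simp only [L, LinearMap.add_apply, LinearMap.comp_apply, LinearEquiv.coe_coe, Submodule.subtype_apply]
          at hab
        linear_combination (norm := module) hab
      rw [h1]; exact W'.sub_mem (φ _).2 (φ _).2⟩
    rwa [h.disjoint hW, Submodule.mem_bot] at this
  refine ⟨LinearMap.range L, ?_, ?_, ?_⟩
  · rintro _ ⟨w, rfl⟩
    exact Submodule.add_mem _ (Submodule.mem_sup_left w.2) (Submodule.mem_sup_right (φ (A w)).2)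
  · rintro _ ⟨w, rfl⟩
    simp only [L, LinearMap.add_apply, LinearMap.comp_apply, LinearEquiv.coe_coe, Submodule.subtype_apply]
    rw [map_add_polar, hφ, hA, h _ w.2 _ (φ (A w)).2]; ring
  · rw [LinearMap.finrank_range_of_inj hinj, finrank_sup_orth h hW, ← φ.finrank_eq]; omega

variable [Finite F]

theorem not_plus_of_formMinus {W : Submodule F V} (hW : Nondeg (restr Q W)) {m : ℕ} {ζ : F}
    (E : ((Fin m ⊕ Fin m) ⊕ Fin 2 → F) ≃ₗ[F] W) (hζ : ∀ t : F, t ^ 2 + t + ζ ≠ 0)
    (hE : ∀ x, Q (E x : V) = formMinus F m 1 ζ x) : ¬ Plus Q W := by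
  rintro ⟨U, hUW, hU, hUd⟩
  have hd : finrank F W = 2 * (m + 1) := by rw [← E.finrank_eq, finrank_formMinus]
  have hab := aniso_of_no_root hζ
  have hle := H51.finrank_totSing_le (formMinus_nondeg m hab) (formMinus_frame F m 1 ζ)
    (formMinus_aniso F m hab) (W := (U.comap W.subtype).map E.symm.toLinearMap) (by
      rintro _ ⟨x, hx, rfl⟩
      rw [LinearEquiv.coe_coe, ← hE, E.apply_symm_apply]; exact hU _ hx)
  rw [LinearEquiv.finrank_map_eq, (Submodule.comapSubtypeEquivOfLe hUW).finrank_eq] at hle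
  omega

theorem exists_anti {W : Submodule F V} (hW : Nondeg (restr Q W)) (hev : Even (finrank F W)) :
    ∃ A : W →ₗ[F] W, ∀ w, Q (A w : V) = - Q (w : V) := by
  obtain ⟨j, hj⟩ := hev
  rcases j with _ | m
  · haveI : Subsingleton W := Module.finrank_zero_iff.1 (by omega)
    exact ⟨0, fun w => by rw [Subsingleton.elim w 0]; simp⟩
  rcases hW.classify_even (m := m) (by omega) with ⟨E, hE⟩ | ⟨ζ, E, hζ, hE⟩
  · let T : (Fin (m + 1) ⊕ Fin (m + 1) → F) →ₗ[F] (Fin (m + 1) ⊕ Fin (m + 1) → F) :=
      { toFun := fun x => Sum.elim (fun i => - x (.inl i)) fun i => x (.inr i)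
        map_add' := fun x y => by funext s; rcases s with i | i <;> simp; ring
        map_smul' := fun c x => by funext s; rcases s with i | i <;> simp }
    refine ⟨E.toLinearMap.comp (T.comp E.symm.toLinearMap), fun w => ?_⟩
    have h1 := hE (T (E.symm w))
    have h2 := hE (E.symm w)
    rw [restr_apply] at h1 h2
    rw [E.apply_symm_apply] at h2
    simp only [LinearMap.comp_apply, LinearEquiv.coe_coe]
    rw [h1, h2]
    simp [T, formPlus_coe, Cfsg.quadFormPlus, Finset.sum_neg_distrib]
  · have hab := aniso_of_no_root hζ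
    obtain ⟨l, hl⟩ := (formMinus_nondeg 0 hab).exists_value (by simp) (-1)
    simp [formMinus_coe, Cfsg.quadFormMinus] at hl
    let T : ((Fin m ⊕ Fin m) ⊕ Fin 2 → F) →ₗ[F] ((Fin m ⊕ Fin m) ⊕ Fin 2 → F) :=
      { toFun := fun x => Sum.elim (Sum.elim (fun i => - x (.inl (.inl i))) fun i => x (.inl (.inr i)))
          ![l (.inr 0) * x (.inr 0) - ζ * (l (.inr 1) * x (.inr 1)),
            l (.inr 0) * x (.inr 1) + l (.inr 1) * x (.inr 0) + l (.inr 1) * x (.inr 1)]
        map_add' := fun x y => by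
          funext s; rcases s with (i | i) | i
          · simp; ring
          · simp
          · fin_cases i <;> simp <;> ring
        map_smul' := fun c x => by
          funext s; rcases s with (i | i) | i
          · simp
          · simp
          · fin_cases i <;> simp <;> ring }
    refine ⟨E.toLinearMap.comp (T.comp E.symm.toLinearMap), fun w => ?_⟩
    have h1 := hE (T (E.symm w))
    have h2 := hE (E.symm w)
    rw [restr_apply] at h1 h2
    rw [E.apply_symm_apply] at h2
    simp only [LinearMap.comp_apply, LinearEquiv.coe_coe]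
    rw [h1, h2]
    set x := E.symm w
    simp [T, formMinus_coe, Cfsg.quadFormMinus, Finset.sum_neg_distrib]
    linear_combination (x (.inr 0) ^ 2 + x (.inr 0) * x (.inr 1) + ζ * x (.inr 1) ^ 2) * hl

/-- Two isometric even-dimensional subspaces make a plus sum. -/
theorem plus_pair {W W' : Submodule F V} (h : Orth Q W W') (hW : Nondeg (restr Q W))
    (hev : Even (finrank F W)) (φ : W ≃ₗ[F] W') (hφ : ∀ w, Q (φ w : V) = Q (w : V)) : Plus Q (W ⊔ W') := by
  obtain ⟨A, hA⟩ := exists_anti hW hev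
  exact plus_of_anti h hW φ A hφ hA

omit [Finite F] in
theorem exists_isometry_sup {W₁ W₂ W₁' W₂' : Submodule F V} (h : Orth Q W₁ W₂) (h' : Orth Q W₁' W₂')
    (hW : Nondeg (restr Q W₁)) (hW' : Nondeg (restr Q W₁')) (φ₁ : W₁ ≃ₗ[F] W₁') (φ₂ : W₂ ≃ₗ[F] W₂')
    (h₁ : ∀ w, Q (φ₁ w : V) = Q (w : V)) (h₂ : ∀ w, Q (φ₂ w : V) = Q (w : V)) :
    ∃ e : ↥(W₁ ⊔ W₂) ≃ₗ[F] ↥(W₁' ⊔ W₂'), ∀ w, Q (e w : V) = Q (w : V) := by
  have hmk : ∀ (A B : Submodule F V), Orth Q A B → Nondeg (restr Q A) →
      ∃ c : (A × B) ≃ₗ[F] ↥(A ⊔ B), ∀ a b, (c (a, b) : V) = (a : V) + b := fun A B hAB hA => by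
    have hinj : Function.Injective (A.subtype.coprod B.subtype) := by
      rw [← LinearMap.ker_eq_bot, LinearMap.ker_coprod_of_disjoint_range, Submodule.ker_subtype,
        Submodule.ker_subtype, Submodule.prod_bot]
      rw [Submodule.range_subtype, Submodule.range_subtype, disjoint_iff]
      exact hAB.disjoint hA
    refine ⟨(LinearEquiv.ofInjective _ hinj).trans (LinearEquiv.ofEq _ _ (by
      rw [LinearMap.range_coprod, Submodule.range_subtype, Submodule.range_subtype])), fun a b => rfl⟩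
  obtain ⟨c, hc⟩ := hmk _ _ h hW
  obtain ⟨c', hc'⟩ := hmk _ _ h' hW'
  refine ⟨c.symm.trans ((φ₁.prodCongr φ₂).trans c'), fun w => ?_⟩
  obtain ⟨⟨a, b⟩, rfl⟩ := c.surjective w
  rw [LinearEquiv.trans_apply, LinearEquiv.trans_apply, c.symm_apply_apply, LinearEquiv.prodCongr_apply, hc', hc,
    map_add_polar, map_add_polar, h₁, h₂, h _ a.2 _ b.2, h' _ (φ₁ a).2 _ (φ₂ b).2]

/-- A pairwise orthogonal family of pairwise isometric non-degenerate subspaces. -/
structure Fam (Q : QuadraticForm F V) {κ : Type} (D : κ → Submodule F V) : Prop where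
  nd : ∀ i, Nondeg (restr Q (D i))
  orth : ∀ i j, i ≠ j → Orth Q (D i) (D j)
  iso : ∀ i j, ∃ e : D i ≃ₗ[F] D j, ∀ w, Q (e w : V) = Q (w : V)

omit [Finite F] [FiniteDimensional F V] in
theorem Fam.orth_sup {κ : Type} {D : κ → Submodule F V} (hD : Fam Q D) (s : Finset κ) {i : κ}
    (hi : i ∉ s) : Orth Q (D i) (s.sup D) := by
  induction s using Finset.cons_induction with
  | empty =>
    intro u _ v hv
    rw [Finset.sup_empty, Submodule.mem_bot] at hv
    rw [hv, polar_zero_right]
  | cons a s ha ih =>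
    rw [Finset.mem_cons, not_or] at hi
    rw [Finset.sup_cons]
    exact (((hD.orth a i (Ne.symm hi.1))).sup_left (ih hi.2).symm).symm

omit [Finite F] [FiniteDimensional F V] in
theorem Fam.nd_sup {κ : Type} {D : κ → Submodule F V} (hD : Fam Q D) (s : Finset κ) :
    Nondeg (restr Q (s.sup D)) := by
  induction s using Finset.cons_induction with
  | empty =>
    intro x _
    exact Subtype.ext ((Submodule.mem_bot F).1 (Finset.sup_empty (f := D) ▸ x.2))
  | cons a s ha ih =>
    rw [Finset.sup_cons]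
    exact nondeg_sup (hD.orth_sup s ha) (hD.nd a) ih

omit [Finite F] in
theorem Fam.plus_all {κ : Type} {D : κ → Submodule F V} (hD : Fam Q D) (s : Finset κ)
    (hp : ∀ i, Plus Q (D i)) : Plus Q (s.sup D) := by
  induction s using Finset.cons_induction with
  | empty => exact ⟨⊥, bot_le, fun x hx => by rw [(Submodule.mem_bot F).1 hx]; exact QuadraticMap.map_zero Q,
      by rw [Finset.sup_empty, finrank_bot]⟩
  | cons a s ha ih =>
    rw [Finset.sup_cons]
    exact (hp a).sup (hD.orth_sup s ha) (hD.nd a) ih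

/-- An even number of isometric even-dimensional pieces make a plus space. -/
theorem Fam.plus_even {κ : Type} [DecidableEq κ] {D : κ → Submodule F V} (hD : Fam Q D)
    (hev : ∀ i, Even (finrank F (D i))) : ∀ s : Finset κ, Even s.card → Plus Q (s.sup D) := by
  intro s
  induction s using Finset.strongInduction with
  | _ s ih =>
    intro hs
    rcases s.eq_empty_or_nonempty with rfl | ⟨a, ha⟩
    · exact ⟨⊥, bot_le, fun x hx => by rw [(Submodule.mem_bot F).1 hx]; exact QuadraticMap.map_zero Q,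
        by rw [Finset.sup_empty, finrank_bot]⟩
    obtain ⟨b, hb⟩ : (s.erase a).Nonempty := by
      rw [← Finset.card_pos, Finset.card_erase_of_mem ha]
      obtain ⟨j, hj⟩ := hs
      have := Finset.card_pos.2 ⟨a, ha⟩
      omega
    set r := (s.erase a).erase b with hr
    have hsr : s = insert a (insert b r) := by rw [hr, Finset.insert_erase hb, Finset.insert_erase ha]
    have hab : b ≠ a := (Finset.mem_erase.1 hb).1
    have har : a ∉ r := fun h => (Finset.mem_erase.1 (Finset.mem_of_mem_erase h)).1 rfl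
    have hbr : b ∉ r := fun h => (Finset.mem_erase.1 h).1 rfl
    have hcard : r.card + 2 = s.card := by
      rw [hsr, Finset.card_insert_of_notMem (by simp [har, Ne.symm hab]), Finset.card_insert_of_notMem hbr]
    have hr' : Plus Q (r.sup D) := ih r ⟨fun x hx => Finset.mem_of_mem_erase (Finset.mem_of_mem_erase hx),
      fun h => har (h ha)⟩ (by obtain ⟨j, hj⟩ := hs; exact ⟨j - 1, by omega⟩)
    obtain ⟨e, he⟩ := hD.iso a b
    rw [hsr, Finset.sup_insert, Finset.sup_insert, ← sup_assoc]
    exact (plus_pair (hD.orth a b hab.symm) (hD.nd a) (hev a) e he).sup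
      ((hD.orth_sup r har).sup_left (hD.orth_sup r hbr))
      (nondeg_sup (hD.orth a b hab.symm) (hD.nd a) (hD.nd b)) hr'

/-- An odd number of isometric even-dimensional pieces has the type of a piece. -/
theorem Fam.plus_odd_iff {κ : Type} [DecidableEq κ] {D : κ → Submodule F V} (hD : Fam Q D)
    (hev : ∀ i, Even (finrank F (D i))) (s : Finset κ) (hs : Odd s.card) {a : κ} (ha : a ∈ s) :
    Plus Q (s.sup D) ↔ Plus Q (D a) := by
  have hev' : Plus Q ((s.erase a).sup D) := hD.plus_even hev _ (by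
    rw [Finset.card_erase_of_mem ha]; obtain ⟨j, hj⟩ := hs; exact ⟨j, by omega⟩)
  have ho := hD.orth_sup (s.erase a) (Finset.notMem_erase a s)
  have e : s.sup D = D a ⊔ (s.erase a).sup D := by rw [← Finset.sup_insert, Finset.insert_erase ha]
  rw [e]
  exact ⟨fun h => by_contra fun hn => not_plus_sup ho (hD.nd a) (hD.nd_sup _) hn hev' h,
    fun h => h.sup ho (hD.nd a) hev'⟩

omit [Finite F] in
/-- The pairs of a family of even size. -/
theorem Fam.pairs {s : ℕ} {D : Fin (2 * s) → Submodule F V} (hD : Fam Q D) :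
    Fam Q (fun i : Fin s => D ⟨2 * i.1, by omega⟩ ⊔ D ⟨2 * i.1 + 1, by omega⟩) where
  nd i := nondeg_sup (hD.orth _ _ (by simp [Fin.ext_iff])) (hD.nd _) (hD.nd _)
  orth i j hij := by
    have : i.1 ≠ j.1 := fun h => hij (Fin.ext h)
    refine ((Orth.sup_left ?_ ?_).symm.sup_left (Orth.sup_left ?_ ?_).symm).symm <;>
      exact hD.orth _ _ (by simp [Fin.ext_iff]; omega)
  iso i j := by
    obtain ⟨e₁, he₁⟩ := hD.iso ⟨2 * i.1, by omega⟩ ⟨2 * j.1, by omega⟩
    obtain ⟨e₂, he₂⟩ := hD.iso ⟨2 * i.1 + 1, by omega⟩ ⟨2 * j.1 + 1, by omega⟩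
    exact exists_isometry_sup (hD.orth _ _ (by simp [Fin.ext_iff])) (hD.orth _ _ (by simp [Fin.ext_iff]))
      (hD.nd _) (hD.nd _) e₁ e₂ he₁ he₂

omit [Finite F] in
theorem sup_pairs {s : ℕ} (D : Fin (2 * s) → Submodule F V) :
    (Finset.univ.sup fun i : Fin s => D ⟨2 * i.1, by omega⟩ ⊔ D ⟨2 * i.1 + 1, by omega⟩) =
      Finset.univ.sup D := by
  refine le_antisymm (Finset.sup_le fun i _ => sup_le (Finset.le_sup (f := D) (Finset.mem_univ _))
    (Finset.le_sup (f := D) (Finset.mem_univ _))) (Finset.sup_le fun i _ => ?_)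
  refine le_trans ?_ (Finset.le_sup (f := fun i : Fin s => D ⟨2 * i.1, by omega⟩ ⊔ D ⟨2 * i.1 + 1, by omega⟩)
    (Finset.mem_univ ⟨i.1 / 2, by omega⟩))
  rcases Nat.mod_two_eq_zero_or_one i.1 with h | h
  · refine le_trans (le_of_eq ?_) le_sup_left
    congr 1; ext; simp; omega
  · refine le_trans (le_of_eq ?_) le_sup_right
    congr 1; ext; simp; omega

/-- A number of pieces divisible by four makes a plus space. -/
theorem Fam.plus_four {t : ℕ} {D : Fin t → Submodule F V} (hD : Fam Q D) (ht : 4 ∣ t) :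
    Plus Q (Finset.univ.sup D) := by
  obtain ⟨s, rfl⟩ := ht
  have e : 4 * s = 2 * (2 * s) := by ring
  let D' : Fin (2 * (2 * s)) → Submodule F V := fun i => D (Fin.cast e.symm i)
  have hD' : Fam Q D' := ⟨fun i => hD.nd _, fun i j h => hD.orth _ _ (by simpa [Fin.ext_iff] using h),
    fun i j => hD.iso _ _⟩
  have he : Finset.univ.sup D = Finset.univ.sup D' :=
    le_antisymm (Finset.sup_le fun i _ => (le_of_eq (by simp [D'])).trans
      (Finset.le_sup (f := D') (Finset.mem_univ (Fin.cast e i))))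
      (Finset.sup_le fun i _ => Finset.le_sup (f := D) (Finset.mem_univ _))
  rw [he, ← sup_pairs D']
  refine hD'.pairs.plus_even (fun i => ?_) _ (by simp)
  rw [finrank_sup_orth (hD'.orth _ _ (by simp [Fin.ext_iff])) (hD'.nd _)]
  obtain ⟨φ, -⟩ := hD'.iso ⟨2 * i.1, by omega⟩ ⟨2 * i.1 + 1, by omega⟩
  exact ⟨_, by rw [← φ.finrank_eq]⟩

/-- Odd-dimensional isometric pairs: plus if `-1` is a square. -/
theorem plus_pair_of_sqrt {W W' : Submodule F V} (h : Orth Q W W') (hW : Nondeg (restr Q W)) {c : F}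
    (hc : c ^ 2 = -1) (φ : W ≃ₗ[F] W') (hφ : ∀ w, Q (φ w : V) = Q (w : V)) : Plus Q (W ⊔ W') :=
  plus_of_anti h hW φ (c • LinearMap.id) hφ fun w => by
    simp [qmap_smul, hc]

/-- The two halves of an odd-dimensional piece of value `α`. -/
theorem exists_split_odd {W : Submodule F V} (hW : Nondeg (restr Q W)) {m : ℕ}
    (hd : finrank F W = 2 * m + 1) :
    (2 : F) ≠ 0 ∧ ∃ (α : F) (z : V) (H : Submodule F V), α ≠ 0 ∧ z ∈ W ∧ H ≤ W ∧ Q z = α ∧
      Nondeg (restr Q H) ∧ Plus Q H ∧ finrank F H = 2 * m ∧ (∀ h ∈ H, polar Q h z = 0) ∧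
      W = H ⊔ Submodule.span F {z} ∧
      ∃ E : (Unit ⊕ (Fin m ⊕ Fin m) → F) ≃ₗ[F] W, ∀ x, Q (E x : V) = α * formOdd F m x := by
  obtain ⟨h2, α, E, hα, hE⟩ := hW.classify_odd hd
  refine ⟨h2, α, E (Pi.single (.inl ()) 1), ?_⟩
  let g : (Fin m ⊕ Fin m → F) →ₗ[F] (Unit ⊕ (Fin m ⊕ Fin m) → F) :=
    { toFun := fun x => Sum.elim 0 x
      map_add' := fun x y => by funext s; rcases s with s | s <;> simp
      map_smul' := fun c x => by funext s; rcases s with s | s <;> simp }
  let L : (Fin m ⊕ Fin m → F) →ₗ[F] V := W.subtype.comp (E.toLinearMap.comp g)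
  have hL : ∀ x, Q (L x) = α * formPlus F m x := fun x => by
    show restr Q W (E (g x)) = _
    rw [hE]
    simp [g, formOdd_coe, formPlus_coe, Cfsg.quadFormOdd, Cfsg.quadFormPlus]
  have hLinj : Function.Injective L := fun a b hab => by
    have := E.injective (W.injective_subtype hab)
    funext s; exact congrFun this (.inr s)
  have hpol : ∀ x y, polar Q (L x) (L y) = α * polar (formPlus F m) x y := fun x y => by
    simp only [polar, ← map_add, hL]; ring
  have hperp : ∀ h ∈ LinearMap.range L, polar Q h (E (Pi.single (.inl ()) 1) : V) = 0 := by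
    rintro _ ⟨x, rfl⟩
    show polar Q ((E (g x) : W) : V) _ = 0
    rw [← polar_restr, polar, ← map_add, hE, hE, hE]
    simp [g, formOdd_coe, Cfsg.quadFormOdd]
    ring
  refine ⟨LinearMap.range L, hα, (E _).2, ?_, ?_, ?_, ?_, ?_, hperp, ?_, E, hE⟩
  · rintro _ ⟨x, rfl⟩; exact (E (g x)).2
  · show restr Q W (E _) = α
    rw [hE]; simp [formOdd_coe, Cfsg.quadFormOdd]
  · rintro ⟨_, x, rfl⟩ hx
    have h0 : x = 0 := formPlus_nondeg F m x fun y => by
      have := hx ⟨L y, y, rfl⟩
      rw [polar_restr] at this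
      exact (mul_eq_zero.1 ((hpol x y).symm.trans this)).resolve_left hα
    exact Subtype.ext (by simp [h0])
  · let j : (Fin m → F) →ₗ[F] (Fin m ⊕ Fin m → F) :=
      { toFun := fun x => Sum.elim x 0
        map_add' := fun x y => by funext s; rcases s with s | s <;> simp
        map_smul' := fun c x => by funext s; rcases s with s | s <;> simp }
    have hj : Function.Injective j := fun a b hab => funext fun i => congrFun hab (.inl i)
    refine ⟨LinearMap.range (L.comp j), LinearMap.range_comp_le_range j L, ?_, ?_⟩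
    · rintro _ ⟨x, rfl⟩
      rw [LinearMap.comp_apply, hL]
      simp [j, formPlus_coe, Cfsg.quadFormPlus]
    · rw [LinearMap.finrank_range_of_inj (f := L.comp j) (fun a b hab => hj (hLinj hab)), LinearMap.finrank_range_of_inj hLinj]
      simp; omega
  · rw [LinearMap.finrank_range_of_inj hLinj]; simp; omega
  · refine le_antisymm (fun v hv => ?_) (sup_le ?_ ?_)
    · obtain ⟨x, hx⟩ := E.surjective ⟨v, hv⟩
      refine Submodule.mem_sup.2 ⟨L (x ∘ Sum.inr), ⟨_, rfl⟩, x (.inl ()) • (E (Pi.single (.inl ()) 1) : V),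
        Submodule.smul_mem _ _ (Submodule.mem_span_singleton_self _), ?_⟩
      have : x = g (x ∘ Sum.inr) + x (.inl ()) • Pi.single (.inl ()) 1 := by
        funext s; rcases s with s | s <;> simp [g]
      have h2 := congrArg (fun y => ((E y : W) : V)) this
      simp only [map_add, map_smul, Submodule.coe_add, Submodule.coe_smul, hx] at h2
      exact h2.symm
    · rintro _ ⟨x, rfl⟩; exact (E (g x)).2
    · rw [Submodule.span_singleton_le_iff_mem]; exact (E _).2

/-- Two odd-dimensional orthogonal subspaces of the same dimension: the type of the sum, and isometry. -/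
theorem odd_pair {W W' : Submodule F V} (h : Orth Q W W') (hW : Nondeg (restr Q W))
    (hW' : Nondeg (restr Q W')) (ho : Odd (finrank F W)) (hd' : finrank F W' = finrank F W) :
    (Plus Q (W ⊔ W') → IsSquare (-1 : F) → ∃ e : W ≃ₗ[F] W', ∀ w, Q (e w : V) = Q (w : V)) ∧
    (Plus Q (W ⊔ W') → ¬ IsSquare (-1 : F) → ∀ e : W ≃ₗ[F] W', ¬ ∀ w, Q (e w : V) = Q (w : V)) ∧
    (¬ Plus Q (W ⊔ W') → ¬ IsSquare (-1 : F) → ∃ e : W ≃ₗ[F] W', ∀ w, Q (e w : V) = Q (w : V)) ∧
    (¬ Plus Q (W ⊔ W') → IsSquare (-1 : F) → ∀ e : W ≃ₗ[F] W', ¬ ∀ w, Q (e w : V) = Q (w : V)) := by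
  obtain ⟨m, hm⟩ := ho
  obtain ⟨h2, α, z, H, hα, hz, hH, hQz, hHn, hHp, hHd, hHz, hWe, E, hE⟩ := exists_split_odd hW hm
  obtain ⟨-, β, z', H', hβ, hz', hH', hQz', hH'n, hH'p, hH'd, hH'z, hW'e, E', hE'⟩ :=
    exists_split_odd hW' (hd'.trans hm)
  have hz0 : z ≠ 0 := fun e0 => hα (by rw [← hQz, e0, QuadraticMap.map_zero])
  have hzz : polar Q z z' = 0 := h z hz z' hz'
  have hiso : IsSquare (α / β) → ∃ e : W ≃ₗ[F] W', ∀ w, Q (e w : V) = Q (w : V) := by
    rintro ⟨r, hr⟩
    have hr0 : r ≠ 0 := by rintro rfl; exact div_ne_zero hα hβ (by simpa using hr)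
    refine ⟨E.symm.trans ((LinearEquiv.smulOfNeZero F _ r hr0).trans E'), fun w => ?_⟩
    simp only [LinearEquiv.trans_apply, LinearEquiv.smulOfNeZero_apply, hE', qmap_smul]
    have hw := hE (E.symm w)
    rw [E.apply_symm_apply] at hw
    have hr' : α = β * (r * r) := by rw [← hr]; field_simp
    rw [hw, hr']; ring
  have hzn : ∀ (u : V), Q u ≠ 0 → Nondeg (restr Q (Submodule.span F {u})) := fun u hu => by
    rintro ⟨x, hx⟩ hpu
    obtain ⟨r, rfl⟩ := Submodule.mem_span_singleton.1 hx
    have := hpu ⟨u, Submodule.mem_span_singleton_self u⟩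
    rw [polar_restr, polar_smul_left', polar_self'] at this
    exact Subtype.ext (by simp [(mul_eq_zero.1 this).resolve_right (mul_ne_zero h2 hu)])
  have hzo : Orth Q (Submodule.span F {z}) (Submodule.span F {z'}) := fun u hu v hv => h u
    ((Submodule.span_singleton_le_iff_mem _ _).2 hz hu) v ((Submodule.span_singleton_le_iff_mem _ _).2 hz' hv)
  have hza := hzn z (hQz ▸ hα)
  have hplus : IsSquare (-α / β) → Plus Q (W ⊔ W') := by
    rintro ⟨c, hc⟩
    have hc' : -α = β * (c * c) := by rw [← hc]; field_simp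
    have hline : Plus Q (Submodule.span F {z} ⊔ Submodule.span F {z'}) := by
      have hzero : z + c • z' ≠ 0 := fun e0 => by
        have h1 := congrArg (fun y => polar Q z y) e0
        simp only [polar_add_right, polar_smul_right', polar_self', hQz, hzz, mul_zero, add_zero,
          polar_zero_right] at h1
        exact mul_ne_zero h2 hα h1
      refine ⟨Submodule.span F {z + c • z'}, ?_, ?_, ?_⟩
      · rw [Submodule.span_singleton_le_iff_mem]
        exact Submodule.add_mem _ (Submodule.mem_sup_left (Submodule.mem_span_singleton_self z))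
          (Submodule.mem_sup_right (Submodule.smul_mem _ _ (Submodule.mem_span_singleton_self z')))
      · intro x hx
        obtain ⟨r, rfl⟩ := Submodule.mem_span_singleton.1 hx
        rw [qmap_smul, map_add_polar, qmap_smul, polar_smul_right', hQz, hQz', hzz]
        linear_combination -(r ^ 2) * hc'
      · rw [finrank_span_singleton hzero, finrank_sup_orth hzo hza, finrank_span_singleton hz0,
          finrank_span_singleton (fun e0 => hβ (by rw [← hQz', e0, QuadraticMap.map_zero]))]
    have e1 : W ⊔ W' = (H ⊔ H') ⊔ (Submodule.span F {z} ⊔ Submodule.span F {z'}) := by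
      rw [hWe, hW'e]; ac_rfl
    have hHH : Orth Q H H' := fun u hu v hv => h u (hH hu) v (hH' hv)
    rw [e1]
    refine (hHp.sup hHH hHn hH'p).sup ?_ (nondeg_sup hHH hHn hH'n) hline
    intro u hu v hv
    obtain ⟨a, ha, b, hb, rfl⟩ := Submodule.mem_sup.1 hu
    obtain ⟨x, hx, y, hy, rfl⟩ := Submodule.mem_sup.1 hv
    obtain ⟨r, rfl⟩ := Submodule.mem_span_singleton.1 hx
    obtain ⟨r', rfl⟩ := Submodule.mem_span_singleton.1 hy
    simp only [polar_add_left, polar_add_right, polar_smul_right', hHz a ha, hH'z b hb,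
      h a (hH ha) z' hz', h.symm b (hH' hb) z hz]
    ring
  have hnplus : ¬ IsSquare (-α / β) → ¬ Plus Q (W ⊔ W') := by
    intro hns
    have hline : ¬ Plus Q (Submodule.span F {z} ⊔ Submodule.span F {z'}) := by
      rintro ⟨U, hUW, hU, hUd⟩
      rw [finrank_sup_orth hzo hza, finrank_span_singleton hz0,
        finrank_span_singleton (fun e0 => hβ (by rw [← hQz', e0, QuadraticMap.map_zero]))] at hUd
      obtain ⟨u, hu, hu0⟩ := Submodule.exists_mem_ne_zero_of_ne_bot (p := U)
        (fun e0 => by rw [e0, finrank_bot] at hUd; omega)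
      obtain ⟨x, hx, y, hy, rfl⟩ := Submodule.mem_sup.1 (hUW hu)
      obtain ⟨a, rfl⟩ := Submodule.mem_span_singleton.1 hx
      obtain ⟨b, rfl⟩ := Submodule.mem_span_singleton.1 hy
      have h0 := hU _ hu
      rw [map_add_polar, qmap_smul, qmap_smul, polar_smul_left', polar_smul_right', hQz, hQz', hzz] at h0
      have ha : a ≠ 0 := fun e0 => by
        subst e0
        have hb : b = 0 := by simpa [hβ] using h0
        simp [hb] at hu0
      exact hns ⟨b / a, by field_simp; linear_combination -h0⟩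
    have e1 : W ⊔ W' = (Submodule.span F {z} ⊔ Submodule.span F {z'}) ⊔ (H ⊔ H') := by
      rw [hWe, hW'e]; ac_rfl
    have hHH : Orth Q H H' := fun u hu v hv => h u (hH hu) v (hH' hv)
    rw [e1]
    refine not_plus_sup ?_ (nondeg_sup hzo hza (hzn z' (hQz' ▸ hβ))) (nondeg_sup hHH hHn hH'n) hline
      (hHp.sup hHH hHn hH'p)
    intro u hu v hv
    obtain ⟨x, hx, y, hy, rfl⟩ := Submodule.mem_sup.1 hu
    obtain ⟨r, rfl⟩ := Submodule.mem_span_singleton.1 hx
    obtain ⟨r', rfl⟩ := Submodule.mem_span_singleton.1 hy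
    obtain ⟨a, ha, b, hb, rfl⟩ := Submodule.mem_sup.1 hv
    simp only [polar_add_left, polar_add_right, polar_smul_left', h z hz b (hH' hb), h.symm z' hz' a (hH ha),
      polar_comm (⇑Q) z a, polar_comm (⇑Q) z' b, hHz a ha, hH'z b hb]
    ring
  haveI := Fintype.ofFinite F
  classical
  have hprod : ∀ a b : F, a ≠ 0 → b ≠ 0 → ¬ IsSquare a → ¬ IsSquare b → IsSquare (a * b) := by
    intro a b ha hb hna hnb
    rw [← quadraticChar_one_iff_isSquare (mul_ne_zero ha hb), map_mul]
    rw [← quadraticChar_neg_one_iff_not_isSquare] at hna hnb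
    rw [hna, hnb]; norm_num
  have hm1 : (-1 : F) ≠ 0 := by simp
  have hαβ : α / β ≠ 0 := div_ne_zero hα hβ
  have hmul : -α / β = -1 * (α / β) := by ring
  have hnalpha : -α / β ≠ 0 := div_ne_zero (neg_ne_zero.2 hα) hβ
  refine ⟨fun hp hs => hiso ?_, fun hp hs e he => ?_, fun hp hs => hiso ?_, fun hp hs e he => ?_⟩
  · by_contra hn
    refine hnplus (fun hsq => hn ?_) hp
    have := hs.mul hsq
    rwa [show (-1 : F) * (-α / β) = α / β by ring] at this
  · have hsq : IsSquare (-α / β) := by_contra fun hn => hnplus hn hp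
    have hns : ¬ IsSquare (α / β) := fun hh => hs (by
      have := hsq.div hh; rwa [show (-α / β) / (α / β) = -1 by field_simp] at this)
    -- an isometry carries the discriminant
    exact hns (iso_square h2 E E' hE hE' e he)
  · have hns : ¬ IsSquare (-α / β) := fun hh => hp (hplus hh)
    have := hprod _ _ hm1 hnalpha hs hns
    rwa [show (-1 : F) * (-α / β) = α / β by ring] at this
  · have hns : ¬ IsSquare (-α / β) := fun hh => hp (hplus hh)
    exact hns (hmul ▸ hs.mul (iso_square h2 E E' hE hE' e he))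
where
  iso_square {W W' : Submodule F V} {α β : F} {m : ℕ} (h2 : (2 : F) ≠ 0)
    (E : (Unit ⊕ (Fin m ⊕ Fin m) → F) ≃ₗ[F] W) (E' : (Unit ⊕ (Fin m ⊕ Fin m) → F) ≃ₗ[F] W')
    (hE : ∀ x, Q (E x : V) = α * formOdd F m x) (hE' : ∀ x, Q (E' x : V) = β * formOdd F m x)
    (e : W ≃ₗ[F] W') (he : ∀ w, Q (e w : V) = Q (w : V)) : IsSquare (α / β) := by
    classical
    let T := (E.trans e).trans E'.symm
    let M := LinearMap.toMatrix' T.toLinearMap
    have hT : ∀ x, β * formOdd F m (T x) = α * formOdd F m x := fun x => by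
      rw [← hE', show E' (T x) = e (E x) from E'.apply_symm_apply _, he, hE]
    have hb : β ≠ 0 → True := fun _ => trivial
    let G : Matrix (Unit ⊕ (Fin m ⊕ Fin m)) (Unit ⊕ (Fin m ⊕ Fin m)) F :=
      Matrix.of fun i j => polar (formOdd F m) (Pi.single i 1) (Pi.single j 1)
    have hG : G = LinearMap.toMatrix₂' F (formOdd F m).polarBilin := by
      ext i j; simp [G]
    have hGd : G.det ≠ 0 := by
      rw [hG]
      have := (LinearMap.separatingLeft_toLinearMap₂'_iff_det_ne_zero (M := LinearMap.toMatrix₂' F (formOdd F m).polarBilin)).1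
      rw [Matrix.toLinearMap₂'_toMatrix'] at this
      exact this fun x hx => formOdd_nondeg F m h2 x hx
    have key : β • (M.transpose * G * M) = α • G := by
      rw [hG, ← LinearMap.toMatrix₂'_compl₁₂, ← map_smul, ← map_smul]
      congr 1
      refine LinearMap.ext₂ fun x y => ?_
      simp only [LinearMap.smul_apply, LinearMap.compl₁₂_apply, polarBilin_apply', smul_eq_mul,
        LinearEquiv.coe_coe]
      simp only [polar, ← map_add]
      linear_combination hT (x + y) - hT x - hT y
    have hd := congrArg Matrix.det key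
    rw [Matrix.det_smul, Matrix.det_smul, Matrix.det_mul, Matrix.det_mul, Matrix.det_transpose] at hd
    have hcard : Fintype.card (Unit ⊕ (Fin m ⊕ Fin m)) = 2 * m + 1 := by simp; omega
    rw [hcard] at hd
    have hd' : β ^ (2 * m + 1) * M.det ^ 2 = α ^ (2 * m + 1) := mul_right_cancel₀ hGd (by linear_combination hd)
    by_cases hα : α = 0
    · rw [hα, zero_div]; exact IsSquare.zero
    by_cases hβ : β = 0
    · rw [hβ, div_zero]; exact IsSquare.zero
    refine ⟨M.det * (β / α) ^ m, ?_⟩
    field_simp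
    rw [div_pow]
    field_simp
    linear_combination -hd'

/-- Same dimension and same type: isometric. -/
theorem iso_of_type {W W' : Submodule F V} (hW : Nondeg (restr Q W)) (hW' : Nondeg (restr Q W'))
    (hev : Even (finrank F W)) (hd' : finrank F W' = finrank F W) (ht : Plus Q W ↔ Plus Q W') :
    ∃ e : W ≃ₗ[F] W', ∀ w, Q (e w : V) = Q (w : V) := by
  obtain ⟨j, hj⟩ := hev
  rcases j with _ | m
  · haveI : Subsingleton W := Module.finrank_zero_iff.1 (by omega)
    refine ⟨LinearEquiv.ofFinrankEq W W' hd'.symm, fun w => ?_⟩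
    rw [Subsingleton.elim w 0]; simp
  have hp : ∀ {U : Submodule F V}, (E : (Fin (m + 1) ⊕ Fin (m + 1) → F) ≃ₗ[F] U) →
      (∀ x, restr Q U (E x) = formPlus F (m + 1) x) → Plus Q U := by
    intro U E hE
    let j : (Fin (m + 1) → F) →ₗ[F] (Fin (m + 1) ⊕ Fin (m + 1) → F) :=
      { toFun := fun x => Sum.elim x 0
        map_add' := fun x y => by funext s; rcases s with s | s <;> simp
        map_smul' := fun c x => by funext s; rcases s with s | s <;> simp }
    have hj : Function.Injective j := fun a b hab => funext fun i => congrFun hab (.inl i)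
    refine ⟨LinearMap.range (U.subtype.comp (E.toLinearMap.comp j)), ?_, ?_, ?_⟩
    · rintro _ ⟨x, rfl⟩; exact (E (j x)).2
    · rintro _ ⟨x, rfl⟩
      show restr Q U (E (j x)) = 0
      rw [hE]; simp [j, formPlus_coe, Cfsg.quadFormPlus]
    · rw [LinearMap.finrank_range_of_inj (f := U.subtype.comp (E.toLinearMap.comp j)) (fun a b hab => hj (E.injective (U.injective_subtype hab))), ← E.finrank_eq]
      simp; omega
  rcases hW.classify_even (m := m) (by omega) with ⟨E, hE⟩ | ⟨ζ, E, hζ, hE⟩ <;>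
    rcases hW'.classify_even (m := m) (by omega) with ⟨E', hE'⟩ | ⟨ζ', E', hζ', hE'⟩
  · exact ⟨E.symm.trans E', fun w => by
      have h1 := hE' (E.symm w); have h2 := hE (E.symm w)
      rw [E.apply_symm_apply] at h2
      exact h1.trans h2.symm⟩
  · exact absurd (ht.1 (hp E hE)) (not_plus_of_formMinus hW' E' hζ' hE')
  · exact absurd (ht.2 (hp E' hE')) (not_plus_of_formMinus hW E hζ hE)
  · obtain ⟨s, hs1, hs⟩ := exists_shift hζ hζ'
    let T : ((Fin m ⊕ Fin m) ⊕ Fin 2 → F) →ₗ[F] ((Fin m ⊕ Fin m) ⊕ Fin 2 → F) :=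
      { toFun := fun x => Sum.elim (fun i => x (.inl i))
          ![x (.inr 0) + s * x (.inr 1), (1 - 2 * s) * x (.inr 1)]
        map_add' := fun x y => by
          funext i; rcases i with i | i
          · simp
          · fin_cases i <;> simp <;> ring
        map_smul' := fun c x => by
          funext i; rcases i with i | i
          · simp
          · fin_cases i <;> simp <;> ring }
    have hTinj : Function.Injective T := fun a b hab => by
      funext i; rcases i with i | i
      · exact congrFun hab (.inl i)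
      · have e1 : a (.inr 0) + s * a (.inr 1) = b (.inr 0) + s * b (.inr 1) := congrFun hab (.inr 0)
        have e2 : (1 - 2 * s) * a (.inr 1) = (1 - 2 * s) * b (.inr 1) := congrFun hab (.inr 1)
        have e3 := mul_left_cancel₀ hs1 e2
        fin_cases i
        · show a (.inr 0) = b (.inr 0)
          linear_combination e1 - s * e3
        · exact e3
    refine ⟨(E'.symm.trans ((LinearEquiv.ofInjectiveEndo T hTinj).trans E)).symm, fun w => ?_⟩
    obtain ⟨v, rfl⟩ : ∃ v, (E'.symm.trans ((LinearEquiv.ofInjectiveEndo T hTinj).trans E)) v = w :=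
      LinearEquiv.surjective _ w
    rw [LinearEquiv.symm_apply_apply]
    simp only [LinearEquiv.trans_apply, LinearEquiv.coe_ofInjectiveEndo]
    have h1 := hE (T (E'.symm v)); have h2 := hE' (E'.symm v)
    rw [E'.apply_symm_apply] at h2
    refine (h2.trans ?_).trans h1.symm
    simp [T, formMinus_coe, Cfsg.quadFormMinus]
    linear_combination -(E'.symm v (.inr 1) ^ 2) * hs
where
  exists_shift {ζ ζ' : F} (hζ : ∀ t : F, t ^ 2 + t + ζ ≠ 0) (hζ' : ∀ t : F, t ^ 2 + t + ζ' ≠ 0) :
      ∃ s : F, 1 - 2 * s ≠ 0 ∧ ζ + (s - s ^ 2) * (1 - 4 * ζ) = ζ' := by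
    haveI := Fintype.ofFinite F
    classical
    have hfin : ∀ s, ζ + (s - s ^ 2) * (1 - 4 * ζ) = ζ' → 1 - 2 * s ≠ 0 := fun s hs h0 =>
      hζ' (-s) (by linear_combination ζ * (1 - 2 * s) * h0 - hs)
    suffices h : ∃ s, ζ + (s - s ^ 2) * (1 - 4 * ζ) = ζ' from h.imp fun s hs => ⟨hfin s hs, hs⟩
    by_cases h2 : (2 : F) = 0
    · let f : F →+ F :=
        { toFun := fun t => t ^ 2 + t
          map_zero' := by ring
          map_add' := fun a b => by linear_combination a * b * h2 }
      have hker : Nat.card f.ker ≤ 2 := by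
        have hsub : (f.ker : Set F) ⊆ {0, -1} := fun t ht => by
          have h0' : t ^ 2 + t = 0 := AddMonoidHom.mem_ker.1 ht
          have h0 : t * (t + 1) = 0 := by linear_combination h0'
          rcases mul_eq_zero.1 h0 with h | h
          · exact Or.inl h
          · exact Or.inr (eq_neg_of_add_eq_zero_left h)
        calc Nat.card f.ker = (f.ker : Set F).ncard := (Nat.card_coe_set_eq (f.ker : Set F))
          _ ≤ ({0, -1} : Set F).ncard := Set.ncard_le_ncard hsub (Set.toFinite _)
          _ ≤ 2 := (Set.ncard_insert_le _ _).trans (by simp)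
      have hidx : f.range.index ≤ 2 := by
        have h1 := f.range.card_mul_index
        have h3 := f.ker.card_mul_index
        rw [AddSubgroup.index_ker] at h3
        have hpos : 0 < Nat.card f.range := Nat.card_pos
        nlinarith
      have hmem : ζ - ζ' ∈ f.range := by
        by_contra hn
        have hz : -ζ ∉ f.range := fun ⟨t, ht⟩ => hζ t (by simp [f] at ht; linear_combination ht)
        have hz' : -ζ' ∉ f.range := fun ⟨t, ht⟩ => hζ' t (by simp [f] at ht; linear_combination ht)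
        have hi : f.range.index = 2 := by
          have : f.range.index ≠ 1 := fun h1 => hz (by rw [AddSubgroup.index_eq_one.1 h1]; trivial)
          have : f.range.index ≠ 0 := AddSubgroup.index_ne_zero_of_finite
          omega
        have := (AddSubgroup.add_mem_iff_of_index_two hi (a := ζ) (b := -ζ')).2
          (iff_of_false (fun h => hz (neg_mem h)) hz')
        exact hn (by rwa [← sub_eq_add_neg] at this)
      obtain ⟨s, hs⟩ := hmem
      have hs' : s ^ 2 + s = ζ - ζ' := hs
      exact ⟨s, by linear_combination -hs' + (s - 2 * ζ * (s - s ^ 2)) * h2⟩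
    · have hd : ∀ {z : F}, (∀ t : F, t ^ 2 + t + z ≠ 0) → ¬ IsSquare (1 - 4 * z) := by
        rintro z hz ⟨r, hr⟩
        exact hz ((r - 1) / 2) (by field_simp; linear_combination -hr)
      have hn0 : ∀ {z : F}, (∀ t : F, t ^ 2 + t + z ≠ 0) → 1 - 4 * z ≠ 0 := fun hz h =>
        hd hz (h ▸ IsSquare.zero)
      have hsq : IsSquare ((1 - 4 * ζ') * (1 - 4 * ζ)) := by
        rw [← quadraticChar_one_iff_isSquare (mul_ne_zero (hn0 hζ') (hn0 hζ)), map_mul,
          quadraticChar_neg_one_iff_not_isSquare.2 (hd hζ'), quadraticChar_neg_one_iff_not_isSquare.2 (hd hζ)]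
        norm_num
      obtain ⟨r, hr⟩ := hsq
      have h14 := hn0 hζ
      refine ⟨(1 + r / (1 - 4 * ζ)) / 2, ?_⟩
      obtain ⟨d, hd0⟩ : ∃ d, d = 1 - 4 * ζ := ⟨_, rfl⟩
      rw [← hd0] at h14 hr ⊢
      field_simp
      linear_combination hr + d * hd0

end Cfsg.Agent.H96.EvenMax
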