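import Cfsg.Agent.Aschbacher.OrthProper
import Cfsg.Agent.H96.TensorCoords
import Cfsg.Agent.H96.EvenMax.Type

/-!
In any characteristic the commutator subgroup of an orthogonal group lies in no geometric member.
-/

set_option autoImplicit false
set_option linter.unusedSectionVars false

namespace Cfsg.Agent.H96.EvenMax

open scoped MatrixGroups Matrix
open Cfsg.Geo Module
open QuadraticMap (polar polar_comm polar_add_left polar_add_right)
open Cfsg.Agent.Orthogonal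

variable {ι : Type} [Fintype ι] [DecidableEq ι] {F : Type*} [Field F] [Finite F]
  {Q : QuadraticForm F (ι → F)}

theorem nd_restr {W : Submodule F (ι → F)} (h : IsNondegenerateOn (polar ⇑Q) W) : Nondeg (restr Q W) :=
  H98.OrthMax.nondeg_restr_of_nondegenerateOn h

/-- An element of Ω moves one singular point to any other. -/
theorem exists_omega_point (hQ : Nondeg Q) (hn : 5 ≤ finrank F (ι → F)) {u v : ι → F} (hu0 : u ≠ 0)
    (hv0 : v ≠ 0) (hu : Q u = 0) (hv : Q v = 0) :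
    ∃ g ∈ omegaGL ⇑Q, ∃ s : F, s ≠ 0 ∧ (g : Matrix ι ι F) *ᵥ u = s • v := by
  obtain ⟨g, hg, s, hs, e⟩ := exists_sie_point hQ (by omega) hu0 hv0 hu hv
  exact ⟨_, Aschbacher.om_mem_omega_of_sieGroup hQ hn hg, s, hs, by rw [om_mulVec, e]⟩

/-- Ω is irreducible. -/
theorem not_le_subspace (hQ : Nondeg Q) (hn : 5 ≤ finrank F (ι → F))
    {W : Submodule F (ι → F)} (h0 : W ≠ ⊥) (h1 : W ≠ ⊤) : ¬ omegaGL ⇑Q ≤ subspaceStabilizer W := by
  intro hc
  obtain ⟨u, huW, hu0, hu⟩ : ∃ u ∈ W, u ≠ 0 ∧ Q u = 0 := by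
    obtain ⟨a, ha, ha0⟩ := (Submodule.ne_bot_iff W).1 h0
    by_cases hQa : Q a = 0
    · exact ⟨a, ha, ha0, hQa⟩
    obtain ⟨v, hv0, hv⟩ := hQ.exists_singular (by omega)
    obtain ⟨f, hf, hvf⟩ := hQ.exists_partner hv0 hv
    obtain ⟨g, hg, e⟩ := exists_omega_map hQ hn (x := a) (y := Q a • v + f)
      (by rw [map_add_polar, qmap_smul, polar_smul_left', hv, hf, hvf]; ring) hQa
    have hP : finrank F (perp Q (Submodule.span F {v, f})) + 2 = finrank F (ι → F) :=
      hQ.finrank_hyperbolic_perp hv hf hvf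
    obtain ⟨w, hw0, hw⟩ := (hQ.nondeg_hyperbolic_perp hv hf hvf).exists_singular (by omega)
    rw [restr_apply] at hw
    have hwv : polar Q v (w : ι → F) = 0 := ((mem_perp_span_pair Q).1 w.2).1
    have hwf : polar Q f (w : ι → F) = 0 := ((mem_perp_span_pair Q).1 w.2).2
    obtain ⟨g', hg', e'⟩ := exists_omega_map hQ hn (x := a) (y := Q a • v + f + (w : ι → F))
      (by simp only [map_add_polar, qmap_smul, polar_add_left, polar_smul_left', hv, hf, hw, hvf, hwv, hwf]; ring) hQa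
    have m1 := ((hc ((mem_omegaGL_iff Q _).2 ⟨g, hg, rfl⟩)) a).1 ha
    have m2 := ((hc ((mem_omegaGL_iff Q _).2 ⟨g', hg', rfl⟩)) a).1 ha
    have f1 : Cfsg.glToMat ι F (om Q g) *ᵥ a = Q a • v + f := (om_mulVec Q g a).trans e
    have f2 : Cfsg.glToMat ι F (om Q g') *ᵥ a = Q a • v + f + (w : ι → F) := (om_mulVec Q g' a).trans e'
    rw [f1] at m1
    rw [f2] at m2
    refine ⟨w, ?_, fun h => hw0 (Subtype.ext h), hw⟩
    simpa using W.sub_mem m2 m1
  refine h1 (span_singular hQ (by omega) W fun x hx => ?_)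
  by_cases hx0 : x = 0
  · rw [hx0]; exact W.zero_mem
  obtain ⟨g, hg, s, hs, e⟩ := exists_omega_point hQ hn hu0 hx0 hu hx
  have := ((hc hg) u).1 huW
  rw [show Cfsg.glToMat ι F g *ᵥ u = s • x from e] at this
  exact (Submodule.smul_mem_iff _ hs).1 this

/-- Ω does not permute two complementary totally singular subspaces. -/
theorem not_le_tsPair (hQ : Nondeg Q) (hn : 5 ≤ finrank F (ι → F)) {k : ℕ}
    {D : Fin 2 → Submodule F (ι → F)} (hD : IsMDecomposition k D) (hk : 2 * k = Fintype.card ι)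
    (hts : ∀ i, IsTotallySingularQuad (⇑Q) (D i)) : ¬ omegaGL ⇑Q ≤ decompositionStabilizer D := by
  intro hc
  rw [finrank_fintype_fun_eq_card] at hn
  obtain ⟨a, ha, ha0⟩ := (D 0).exists_mem_ne_zero_of_ne_bot fun h => by
    have := hD.finrank_eq 0; rw [h, finrank_bot] at this; omega
  obtain ⟨b, hb, hb0, hab⟩ : ∃ b ∈ D 1, b ≠ 0 ∧ polar Q a b = 0 := by
    let φ : D 1 →ₗ[F] F := (Q.polarBilin a).comp (D 1).subtype
    obtain ⟨b, hb, hb0⟩ := (LinearMap.ker φ).exists_mem_ne_zero_of_ne_bot fun h => by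
      have := LinearMap.finrank_le_finrank_of_injective (LinearMap.ker_eq_bot.1 h)
      rw [hD.finrank_eq, finrank_self] at this; omega
    exact ⟨b, b.2, fun h => hb0 (Subtype.ext h), LinearMap.mem_ker.1 hb⟩
  have hdis : Disjoint (D 0) (D 1) := hD.indep.pairwiseDisjoint (show (0 : Fin 2) ≠ 1 by decide)
  have hsum0 : a + b ∉ D 0 := fun h => hb0 (Submodule.disjoint_def.1 hdis b
    (by simpa using (D 0).sub_mem h ha) hb)
  have hsum1 : a + b ∉ D 1 := fun h => ha0 (Submodule.disjoint_def.1 hdis a ha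
    (by simpa using (D 1).sub_mem h hb))
  obtain ⟨g, hg, s, hs, e⟩ := exists_omega_point hQ (by rw [finrank_fintype_fun_eq_card]; omega) ha0
    (v := a + b) (fun h => hsum0 (h ▸ (D 0).zero_mem)) (hts 0 a ha)
    (by rw [map_add_polar, hts 0 a ha, hts 1 b hb, hab]; ring)
  obtain ⟨σ, hσ⟩ := hc hg
  have hm : s • (a + b) ∈ D (σ 0) := by
    rw [← hσ 0, ← e, ← Matrix.toLin'_apply]; exact Submodule.mem_map_of_mem ha
  rw [Submodule.smul_mem_iff _ hs] at hm
  rcases (by omega : σ 0 = 0 ∨ σ 0 = 1) with h | h <;> rw [h] at hm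
  exacts [hsum0 hm, hsum1 hm]

/-- Ω does not permute the members of an orthogonal decomposition into pieces of dimension at least two. -/
theorem not_le_decomp (hQ : Nondeg Q) (hn : 5 ≤ finrank F (ι → F))
    {t k : ℕ} {D : Fin t → Submodule F (ι → F)} (hD : IsOrthogonalMDecomposition (⇑Q) k D)
    (hk : (2 ≤ k ∧ 3 ≤ t) ∨ 3 ≤ k) : ¬ omegaGL ⇑Q ≤ decompositionStabilizer D := by
  intro hc
  have ht := hD.decomp.decomp.two_le
  have horth : ∀ i j, i ≠ j → ∀ u ∈ D i, ∀ v ∈ D j, polar Q u v = 0 := fun i j hij =>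
    hD.decomp.orthogonal i j hij
  have hval : ∀ i (c : F), ∃ x ∈ D i, Q x = c := fun i c => by
    obtain ⟨x, hx⟩ := (nd_restr (hD.decomp.nondegenerate i)).exists_value
      (by rw [hD.decomp.decomp.finrank_eq]; omega) c
    exact ⟨x, x.2, hx⟩
  have hwit : ∀ i (x : ι → F), x ∈ D i → x ≠ 0 → ∃ w ∈ D i, polar Q x w ≠ 0 := fun i x hx hx0 => by
    obtain ⟨w, hw⟩ := (nd_restr (hD.decomp.nondegenerate i)).exists_polar_ne (x := ⟨x, hx⟩)
      fun h => hx0 (congrArg Subtype.val h)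
    exact ⟨w, w.2, by rwa [polar_restr] at hw⟩
  let a : Fin t := ⟨0, by omega⟩
  let b : Fin t := ⟨1, by omega⟩
  have hab : a ≠ b := by simp [a, b]
  obtain ⟨xb, hxb, hQb⟩ := hval b 1
  obtain ⟨y, hQy, hy⟩ : ∃ y, Q y = 1 ∧ ∀ i, y ∉ D i := by
    have hxb0 : xb ≠ 0 := fun h => by rw [h, QuadraticMap.map_zero] at hQb; exact zero_ne_one hQb
    obtain ⟨wb, hwb, hwb'⟩ := hwit b xb hxb hxb0
    rcases hk with ⟨hk2, ht3⟩ | hk3
    · let d : Fin t := ⟨2, by omega⟩
      have had : a ≠ d := by simp [a, d]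
      have hbd : b ≠ d := by simp [b, d]
      obtain ⟨xa, hxa, hQa⟩ := hval a 1
      obtain ⟨xd, hxd, hQd⟩ := hval d (-1)
      obtain ⟨wa, hwa, hwa'⟩ := hwit a xa hxa fun h => by
        rw [h, QuadraticMap.map_zero] at hQa; exact zero_ne_one hQa
      refine ⟨xa + xb + xd, ?_, not_mem_pieces horth hab hwa hwb ?_ ?_⟩
      · simp only [map_add_polar, polar_add_left, horth a b hab _ hxa _ hxb, horth a d had _ hxa _ hxd,
          horth b d hbd _ hxb _ hxd, hQa, hQb, hQd]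
        ring
      · rw [polar_add_left, polar_add_left, horth b a hab.symm _ hxb _ hwa, horth d a had.symm _ hxd _ hwa]
        simpa using hwa'
      · rw [polar_add_left, polar_add_left, horth a b hab _ hxa _ hwb, horth d b hbd.symm _ hxd _ hwb]
        simpa using hwb'
    · obtain ⟨z, hz0, hz⟩ := (nd_restr (hD.decomp.nondegenerate a)).exists_singular
        (by rw [hD.decomp.decomp.finrank_eq]; omega)
      rw [restr_apply] at hz
      obtain ⟨wa, hwa, hwa'⟩ := hwit a z z.2 fun h => hz0 (Subtype.ext h)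
      refine ⟨(z : ι → F) + xb, ?_, not_mem_pieces horth hab hwa hwb ?_ ?_⟩
      · rw [map_add_polar, hz, hQb, horth a b hab _ z.2 _ hxb]; ring
      · rw [polar_add_left, horth b a hab.symm _ hxb _ hwa, add_zero]; exact hwa'
      · rw [polar_add_left, horth a b hab _ z.2 _ hwb, zero_add]; exact hwb'
  obtain ⟨g, hg, e⟩ := exists_omega_map hQ hn (hQb.trans hQy.symm) (by rw [hQb]; exact one_ne_zero)
  obtain ⟨σ, hσ⟩ := hc ((mem_omegaGL_iff Q _).2 ⟨g, hg, rfl⟩)
  refine hy (σ b) ?_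
  rw [← hσ b, om_toLin']
  exact ⟨xb, hxb, e⟩

section Tensor

variable {n₁ n₂ : ℕ} {e : ι ≃ Fin n₁ × Fin n₂} {P : GL ι F}
  {f₁ : (Fin n₁ → F) → (Fin n₁ → F) → F} {f₂ : (Fin n₂ → F) → (Fin n₂ → F) → F}

/-- A pure tensor. -/
noncomputable def pure (e : ι ≃ Fin n₁ × Fin n₂) (P : GL ι F) (x : Fin n₁ → F) (y : Fin n₂ → F) : ι → F :=
  tensorIso e P fun i => x i • y

theorem polar_pure (h₁ : IsBilinearForm f₁) (h₂ : IsBilinearForm f₂)
    (hT : IsTensorFormStructure id (polar ⇑Q) f₁ f₂ e P) :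
    ∃ c : F, c ≠ 0 ∧ ∀ x y x' y', polar Q (pure e P x y) (pure e P x' y') = c * (f₁ x x' * f₂ y y') := by
  obtain ⟨c, hc, h⟩ := tensor_polar h₂ hT
  refine ⟨c, hc, fun x y x' y' => ?_⟩
  rw [pure, pure, h, ← sum_gram h₁ x x', Finset.sum_mul]
  congr 1
  refine Finset.sum_congr rfl fun i _ => ?_
  rw [Finset.sum_mul]
  refine Finset.sum_congr rfl fun j _ => ?_
  rw [h₂.smul_left, h₂.smul_right]
  ring

/-- A tensor product group does not contain Ω, given two orthogonal singular pure tensors. -/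
theorem not_le_tensor_aux (hQ : Nondeg Q) (hn : 5 ≤ finrank F (ι → F)) {x₁ x₂ : Fin n₁ → F}
    {y₁ y₂ : Fin n₂ → F} (hx : LinearIndependent F ![x₁, x₂]) (hy : LinearIndependent F ![y₁, y₂])
    (h1 : Q (pure e P x₁ y₁) = 0) (h2 : Q (pure e P x₂ y₂) = 0)
    (h12 : polar Q (pure e P x₁ y₁) (pure e P x₂ y₂) = 0) :
    ¬ omegaGL ⇑Q ≤ tensorProductSubgroup n₁ n₂ e P := by
  intro hc
  have hx1 : x₁ ≠ 0 := hx.ne_zero 0
  have hy1 : y₁ ≠ 0 := hy.ne_zero 0
  have hz : ∀ x y, pure e P x₁ y₁ + pure e P x₂ y₂ ≠ pure e P x y := by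
    intro x y he
    rw [pure, pure, pure, ← map_add] at he
    have hrow : ∀ i, x₁ i • y₁ + x₂ i • y₂ = x i • y := fun i => congrFun ((tensorIso e P).injective he) i
    have hmem : ∀ u v : Fin n₁ → F, LinearIndependent F ![u, v] → ∀ p q : Fin n₂ → F,
        (∀ i, u i • p + v i • q = x i • y) → p ∈ Submodule.span F {y} := by
      intro u v huv p q h
      have hu : u ∉ Submodule.span F {v} := fun hm => by
        obtain ⟨r, hr⟩ := Submodule.mem_span_singleton.1 hm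
        exact one_ne_zero (LinearIndependent.pair_iff.1 huv 1 (-r) (by rw [← hr]; module)).1
      obtain ⟨l, hlu, hlv⟩ := Submodule.exists_dual_map_eq_bot_of_notMem hu inferInstance
      have hv0 : l v = 0 := (Submodule.mem_bot F).1 (by
        rw [← hlv]; exact ⟨v, Submodule.mem_span_singleton_self v, rfl⟩)
      have key : ∀ (w : Fin n₁ → F) (r : Fin n₂ → F), l w • r = ∑ i, l (Pi.single i 1) • (w i • r) := fun w r => by
        conv_lhs => rw [pi_eq_sum_univ' w]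
        rw [map_sum, Finset.sum_smul]
        refine Finset.sum_congr rfl fun i _ => ?_
        rw [map_smul, smul_eq_mul, mul_smul, smul_comm]
      refine (Submodule.smul_mem_iff _ hlu).1 (Submodule.mem_span_singleton.2 ⟨l x, ?_⟩)
      rw [key x y, key u p]
      have : (0 : Fin n₂ → F) = ∑ i, l (Pi.single i 1) • (v i • q) := by rw [← key v q, hv0, zero_smul]
      rw [← add_zero (∑ i, l (Pi.single i 1) • (u i • p)), this, ← Finset.sum_add_distrib]
      exact Finset.sum_congr rfl fun i _ => by rw [← smul_add, h i]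
    have hp1 := hmem x₁ x₂ hx y₁ y₂ hrow
    have hp2 := hmem x₂ x₁ (LinearIndependent.pair_iff.2 fun r r' hr =>
      (LinearIndependent.pair_iff.1 hx r' r (by rw [← hr]; abel)).symm) y₂ y₁
      (fun i => by rw [← hrow i, add_comm])
    obtain ⟨r, hr⟩ := Submodule.mem_span_singleton.1 hp1
    obtain ⟨r', hr'⟩ := Submodule.mem_span_singleton.1 hp2
    have := (LinearIndependent.pair_iff.1 hy r' (-r) (by rw [← hr, ← hr']; module)).2
    exact hy1 (by rw [← hr, neg_eq_zero.1 this, zero_smul])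
  have hne1 : pure e P x₁ y₁ ≠ 0 := by
    intro h
    rw [pure, LinearEquiv.map_eq_zero_iff] at h
    obtain ⟨i, hi⟩ := Function.ne_iff.1 hx1
    exact smul_ne_zero hi hy1 (congrFun h i)
  have hne : pure e P x₁ y₁ + pure e P x₂ y₂ ≠ 0 := fun h => hz 0 0 (h.trans (by
    simp [pure]
    exact ((tensorIso e P).map_zero).symm))
  obtain ⟨g, hg, r, hr, eg⟩ := exists_omega_point hQ hn hne1 hne h1
    (v := pure e P x₁ y₁ + pure e P x₂ y₂) (by rw [map_add_polar, h1, h2, h12]; ring)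
  obtain ⟨A, B, hAB⟩ := exists_tensor_action (hc hg)
  refine hz (r⁻¹ • ((A : Matrix (Fin n₁) (Fin n₁) F) *ᵥ x₁)) ((B : Matrix (Fin n₂) (Fin n₂) F) *ᵥ y₁) ?_
  have e2 : (g : Matrix ι ι F) *ᵥ pure e P x₁ y₁ =
      pure e P ((A : Matrix (Fin n₁) (Fin n₁) F) *ᵥ x₁) ((B : Matrix (Fin n₂) (Fin n₂) F) *ᵥ y₁) := by
    rw [pure, hAB, pure]
    congr 1
    funext i
    simp only [Matrix.mulVec_smul, smul_smul, ← Finset.sum_smul]
    rfl
  rw [← inv_smul_smul₀ hr (pure e P x₁ y₁ + pure e P x₂ y₂), ← eg, e2, pure, pure, ← map_smul]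
  congr 1
  funext i
  simp [smul_smul]

theorem exists_indep_ker {n : ℕ} (hn : 3 ≤ n) (l : (Fin n → F) →ₗ[F] F) {x : Fin n → F} (hx : x ≠ 0) :
    ∃ y, l y = 0 ∧ LinearIndependent F ![x, y] := by
  obtain ⟨y, hy, hyx⟩ : ∃ y ∈ LinearMap.ker l, y ∉ Submodule.span F {x} := SetLike.not_le_iff_exists.1 fun h => by
    have h1 := Submodule.finrank_mono h
    rw [finrank_span_singleton hx] at h1
    have h2 := LinearMap.finrank_range_add_finrank_ker l
    have h3 := Submodule.finrank_le (LinearMap.range l)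
    rw [finrank_fintype_fun_eq_card, Fintype.card_fin] at h2
    rw [finrank_self] at h3
    omega
  refine ⟨y, hy, LinearIndependent.pair_iff.2 fun r r' hr => ?_⟩
  by_cases h0 : r' = 0
  · subst h0
    rw [zero_smul, add_zero, smul_eq_zero] at hr
    exact ⟨hr.resolve_right hx, rfl⟩
  · exact absurd (Submodule.mem_span_singleton.2 ⟨-(r'⁻¹ * r), by
      rw [neg_smul, mul_smul, eq_neg_of_add_eq_zero_left hr, smul_neg, inv_smul_smul₀ h0, neg_neg]⟩) hyx

/-- Ω is in no symplectic tensor product group. -/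
theorem not_le_tensorSymp (hQ : Nondeg Q) (hn : 5 ≤ finrank F (ι → F)) (h1 : 2 ≤ n₁) (h2 : 3 ≤ n₂)
    (hf₁ : IsSymplecticForm f₁) (hf₂ : IsSymplecticForm f₂)
    (hT : IsTensorFormStructure id (polar ⇑Q) f₁ f₂ e P)
    (hQ0 : ∀ (x : Fin n₁ → F) (y : Fin n₂ → F),
      Q ((P : Matrix ι ι F) *ᵥ ((fun a : Fin n₁ × Fin n₂ => x a.1 * y a.2) ∘ e)) = 0) :
    ¬ omegaGL ⇑Q ≤ tensorProductSubgroup n₁ n₂ e P := by
  have hp : ∀ x y, Q (pure e P x y) = 0 := fun x y => hQ0 x y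
  obtain ⟨c, -, hpol⟩ := polar_pure hf₁.bilinear hf₂.bilinear hT
  have hy1 : (Pi.single (⟨0, by omega⟩ : Fin n₂) 1 : Fin n₂ → F) ≠ 0 := by simp
  obtain ⟨y₂, hy₂, hy⟩ := exists_indep_ker h2
    (LinearMap.mk₂ F f₂ hf₂.bilinear.add_left hf₂.bilinear.smul_left hf₂.bilinear.add_right
      hf₂.bilinear.smul_right (Pi.single ⟨0, by omega⟩ 1)) hy1
  have hx : LinearIndependent F ![(Pi.single (⟨0, by omega⟩ : Fin n₁) 1 : Fin n₁ → F),
      Pi.single ⟨1, by omega⟩ 1] := LinearIndependent.pair_iff.2 fun r r' h => by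
    have e0 := congrFun h ⟨0, by omega⟩
    have e1 := congrFun h ⟨1, by omega⟩
    simp [Fin.ext_iff] at e0 e1
    exact ⟨e0, e1⟩
  refine not_le_tensor_aux hQ hn hx hy (hp _ _) (hp _ _) ?_
  rw [hpol, show f₂ (Pi.single ⟨0, by omega⟩ 1) y₂ = 0 from hy₂, mul_zero, mul_zero]

/-- Ω is in no symmetric tensor product group. -/
theorem not_le_tensorSym (hQ : Nondeg Q) (hn : 5 ≤ finrank F (ι → F)) (hc2 : (2 : F) ≠ 0) (h1 : 3 ≤ n₁)
    (h2 : 3 ≤ n₂) (hf₁ : IsSymmetricForm f₁) (hf₂ : IsSymmetricForm f₂)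
    (hT : IsTensorFormStructure id (polar ⇑Q) f₁ f₂ e P) :
    ¬ omegaGL ⇑Q ≤ tensorProductSubgroup n₁ n₂ e P := by
  obtain ⟨c, -, hpol⟩ := polar_pure hf₁.bilinear hf₂.bilinear hT
  let β : (Fin n₂ → F) →ₗ[F] (Fin n₂ → F) →ₗ[F] F := LinearMap.mk₂ F f₂ hf₂.bilinear.add_left
    hf₂.bilinear.smul_left hf₂.bilinear.add_right hf₂.bilinear.smul_right
  let q : QuadraticForm F (Fin n₂ → F) := LinearMap.BilinMap.toQuadraticMap β
  have hqp : ∀ a b, polar q a b = 2 * f₂ a b := fun a b => by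
    rw [LinearMap.BilinMap.polar_toQuadraticMap]
    show f₂ a b + f₂ b a = _
    rw [hf₂.symm b a]; ring
  have hq : Nondeg q := fun x hx => by
    by_contra hne
    obtain ⟨b, hb⟩ := (hf₂.nondegenerate x hne).2
    have := hx b
    rw [hqp, mul_eq_zero] at this
    exact hb (this.resolve_left hc2)
  obtain ⟨y₁, hy0, hy1⟩ := hq.exists_singular (by simpa using h2)
  obtain ⟨y₂, hy2, hy12⟩ := hq.exists_partner hy0 hy1
  have hy : LinearIndependent F ![y₁, y₂] := linearIndependent_hyperbolic_pair hy1 hy2 hy12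
  have hx0 : (Pi.single (⟨0, by omega⟩ : Fin n₁) 1 : Fin n₁ → F) ≠ 0 := by simp
  obtain ⟨x₂, hx₂, hx⟩ := exists_indep_ker h1
    (LinearMap.mk₂ F f₁ hf₁.bilinear.add_left hf₁.bilinear.smul_left hf₁.bilinear.add_right
      hf₁.bilinear.smul_right (Pi.single ⟨0, by omega⟩ 1)) hx0
  have hz : ∀ x y, q y = 0 → Q (pure e P x y) = 0 := fun x y hy => by
    refine mul_left_cancel₀ hc2 ?_
    rw [← polar_self', hpol, show f₂ y y = q y from rfl, hy]; ring
  refine not_le_tensor_aux hQ hn hx hy (hz _ _ hy1) (hz _ _ hy2) ?_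
  rw [hpol, show f₁ (Pi.single ⟨0, by omega⟩ 1) x₂ = 0 from hx₂, zero_mul, mul_zero]

end Tensor

end Cfsg.Agent.H96.EvenMax
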