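import Cfsg.Agent.H96.EvenMax.Proper
import Cfsg.Agent.H96.SwapFree
import Cfsg.Agent.Orthogonal.MaxTSFamily
import Cfsg.Agent.Aschbacher.EvenOrthTheorem

/-!
Elementary reductions between the geometric classes of an even-dimensional orthogonal group.
-/

set_option autoImplicit false
set_option linter.unusedSectionVars false

namespace Cfsg.Agent.H96.EvenMax

open scoped MatrixGroups Matrix
open Cfsg.Geo Module
open QuadraticMap (polar polar_comm polar_add_left polar_add_right)
open Cfsg.Agent.Orthogonal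

variable {ι : Type} [Fintype ι] [DecidableEq ι] {F : Type*} [Field F] [Fintype F]
  {Q : QuadraticForm F (ι → F)}

/-- An element of the orthogonal group stabilises a subspace when it maps it onto itself. -/
theorem om_mem_stab_iff (W : Submodule F (ι → F)) (x : O Q) :
    om Q x ∈ subspaceStabilizer W ↔
      W.map ((x : (ι → F) ≃ₗ[F] (ι → F)) : (ι → F) →ₗ[F] (ι → F)) = W := by
  rw [mem_subspaceStabilizer_om]
  constructor
  · intro h
    refine le_antisymm ?_ fun v hv => ?_
    · rintro _ ⟨v, hv, rfl⟩; exact (h v).1 hv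
    · refine ⟨(x : (ι → F) ≃ₗ[F] (ι → F)).symm v, (h _).2 ?_, ?_⟩ <;> simp [hv]
  · intro h v
    refine ⟨fun hv => h ▸ Submodule.mem_map_of_mem hv, fun hv => ?_⟩
    rw [← h] at hv
    obtain ⟨w, hw, hwv⟩ := hv
    exact (x : (ι → F) ≃ₗ[F] (ι → F)).injective hwv ▸ hw

theorem plus_top_of_totSing {U : Submodule F (ι → F)} (hU : IsTotallySingularQuad (⇑Q) U)
    (hd : 2 * finrank F U = Fintype.card ι) : Plus Q ⊤ :=
  ⟨U, le_top, fun x hx => hU x hx, by rw [finrank_top, finrank_fintype_fun_eq_card, hd]⟩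

/-- A symplectic tensor product with a two-dimensional factor is of plus type. -/
theorem plus_tensorSymp_two {n₁ n₂ : ℕ} (hn₁ : n₁ = 2) (e : ι ≃ Fin n₁ × Fin n₂) (P : GL ι F)
    (hcard : n₁ * n₂ = Fintype.card ι)
    (hQ0 : ∀ (x₁ : Fin n₁ → F) (x₂ : Fin n₂ → F),
      Q ((P : Matrix ι ι F) *ᵥ ((fun a : Fin n₁ × Fin n₂ => x₁ a.1 * x₂ a.2) ∘ e)) = 0) :
    Plus Q ⊤ := by
  subst hn₁
  let x₀ : Fin 2 → F := Pi.single 0 1
  let L : (Fin n₂ → F) →ₗ[F] (ι → F) := (tensorIso e P).toLinearMap ∘ₗ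
    LinearMap.pi (fun i : Fin 2 => x₀ i • LinearMap.id)
  have hL : ∀ y, L y = pure e P x₀ y := fun y => rfl
  have hinj : Function.Injective L := fun a b hab => by
    have := congrFun ((tensorIso e P).injective hab) 0
    simpa [x₀] using this
  refine plus_top_of_totSing (U := LinearMap.range L) ?_ ?_
  · rintro _ ⟨y, rfl⟩
    exact (congrArg Q (hL y)).trans (hQ0 x₀ y)
  · rw [LinearMap.finrank_range_of_inj hinj, finrank_fin_fun, ← hcard]

/-- A cube of two-dimensional symplectic spaces is of plus type. -/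
theorem plus_powerSymp_cube {k t : ℕ} (hk : k = 2) (ht : t = 3) (e : ι ≃ (Fin t → Fin k)) (P : GL ι F)
    {f₁ : (Fin k → F) → (Fin k → F) → F} (hf₁ : IsSymplecticForm f₁)
    (hs : IsTensorPowerFormStructure id (polar ⇑Q) f₁ e P)
    (hQ0 : ∀ u : Fin t → Fin k → F, Q ((P : Matrix ι ι F) *ᵥ (Aschbacher.pureVec u ∘ e)) = 0) :
    Plus Q ⊤ := by
  subst hk ht
  classical
  obtain ⟨c, -, hc⟩ := hs
  let L : ((Fin 3 → Fin 2) → F) ≃ₗ[F] (ι → F) :=
    (LinearEquiv.funCongrLeft F F e).trans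
      (LinearEquiv.ofBijective (Matrix.toLin' (P : Matrix ι ι F))
        ⟨fun a b hab => Matrix.mulVec_injective_iff_isUnit.2 P.isUnit (by simpa using hab),
          fun a => ⟨((P⁻¹ : GL ι F) : Matrix ι ι F) *ᵥ a, by
            rw [Matrix.toLin'_apply, Matrix.mulVec_mulVec, Units.mul_inv, Matrix.one_mulVec]⟩⟩)
  have hL : ∀ x, L x = (P : Matrix ι ι F) *ᵥ (x ∘ e) := fun x => rfl
  let J : Set (Fin 3 → Fin 2) := {a | a 0 = 0}
  let b : J → ι → F := fun a => L (Pi.single a.1 1)
  have hb : LinearIndependent F b :=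
    ((Pi.linearIndependent_single_one _ F).comp _ Subtype.val_injective).map' L.toLinearMap L.ker
  have hsing : ∀ a : Fin 3 → Fin 2, Q (L (Pi.single a 1)) = 0 := fun a => by
    rw [hL, ← Aschbacher.pureVec_single]; exact hQ0 _
  have hpol : ∀ a a' : J, polar Q (b a) (b a') = 0 := fun a a' => by
    show polar Q (L _) (L _) = 0
    rw [hL, hL, hc, Finset.sum_eq_single a.1, Finset.sum_eq_single a'.1]
    · have h00 : gramMatrix f₁ (a.1 0) (a'.1 0) = 0 := by
        rw [show a.1 0 = 0 from a.2, show a'.1 0 = 0 from a'.2]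
        exact hf₁.alternating _
      rw [Finset.prod_eq_zero (Finset.mem_univ 0) h00]; simp
    · intro b' _ hb'; rw [Pi.single_eq_of_ne hb']; simp
    · simp
    · intro b' _ hb'; rw [Pi.single_eq_of_ne hb']; simp
    · simp
  refine plus_top_of_totSing (U := Submodule.span F (Set.range b)) ?_ ?_
  · intro x hx
    refine Submodule.span_induction (p := fun x _ => Q x = 0 ∧ ∀ a, polar Q x (b a) = 0) ?_ ?_ ?_ ?_ hx |>.1
    · rintro _ ⟨a, rfl⟩; exact ⟨hsing _, hpol a⟩
    · exact ⟨QuadraticMap.map_zero Q, fun a => QuadraticMap.polar_zero_left _ _⟩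
    · intro x y hx' hy' hxa hya
      refine ⟨?_, fun a => by rw [polar_add_left, hxa.2, hya.2, add_zero]⟩
      have : polar Q x y = 0 := by
        refine Submodule.span_induction (p := fun y _ => polar Q x y = 0) ?_ ?_ ?_ ?_ hy'
        · rintro _ ⟨a, rfl⟩; exact hxa.2 a
        · exact QuadraticMap.polar_zero_right _ _
        · intro u v _ _ hu hv; rw [polar_add_right, hu, hv, add_zero]
        · intro r u _ hu; rw [polar_smul_right', hu, mul_zero]
      rw [map_add_polar, hxa.1, hya.1, this]; ring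
    · intro r x _ hxa
      exact ⟨by rw [qmap_smul, hxa.1, mul_zero], fun a => by rw [polar_smul_left', hxa.2, mul_zero]⟩
  · rw [finrank_span_eq_card hb, ← Fintype.card_congr e.symm]
    decide

/-- An element of Ω fixing a totally singular subspace of dimension `m - 1` fixes a maximal one above it. -/
theorem exists_ts_lift (hQ : Nondeg Q) {m : ℕ} (hm : Fintype.card ι = 2 * m) (hp : Plus Q ⊤)
    {H : Subgroup (GL ι F)} (hH : H ≤ omegaGL ⇑Q) {W : Submodule F (ι → F)}
    (hW : IsTotallySingularQuad (⇑Q) W) (hd : finrank F W + 1 = m) (hle : H ≤ subspaceStabilizer W) :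
    ∃ W₁ : Submodule F (ι → F), IsTotallySingularQuad (⇑Q) W₁ ∧ finrank F W₁ = m ∧
      H ≤ subspaceStabilizer W₁ := by
  obtain ⟨U, -, hU, hUd⟩ := hp
  rw [finrank_top, finrank_fintype_fun_eq_card] at hUd
  obtain ⟨W₁, hWW, hW₁, hd₁⟩ := TotSing.exists_max_ge hQ (W₀ := U) (U := W) (fun x hx => hW x hx) hU (by omega)
  have hd₁' : finrank F W₁ = m := by omega
  refine ⟨W₁, fun x hx => hW₁ x hx, hd₁', fun g hg => ?_⟩
  obtain ⟨x, hx, rfl⟩ := (mem_omegaGL_iff Q _).1 (hH hg)
  have hfix : W.map ((x : (ι → F) ≃ₗ[F] (ι → F)) : (ι → F) →ₗ[F] (ι → F)) = W :=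
    (om_mem_stab_iff W x).1 (hle hg)
  exact (om_mem_stab_iff W₁ x).2
    (map_eq_of_hyperplane hQ (by rw [finrank_fintype_fun_eq_card, hm]) hd hW₁ hd₁' hWW hx hfix)

/-- In dimension `2k`, `k` odd, a pair of complementary totally singular halves is fixed by Ω. -/
theorem tsPair_fix (hQ : Nondeg Q) {k : ℕ} (hk : Odd k) (hn : 2 * k = Fintype.card ι) (h5 : 5 ≤ Fintype.card ι)
    {D : Fin 2 → Submodule F (ι → F)} (hD : IsMDecomposition k D)
    (hts : ∀ i, IsTotallySingularQuad (⇑Q) (D i)) {H : Subgroup (GL ι F)} (hH : H ≤ omegaGL ⇑Q)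
    (hle : H ≤ decompositionStabilizer D) : H ≤ subspaceStabilizer (D 0) := by
  intro g hg
  obtain ⟨x, hx, rfl⟩ := (mem_omegaGL_iff Q _).1 (hH hg)
  obtain ⟨σ, hσ⟩ := hle hg
  have h0 := hσ 0
  rw [om_toLin'] at h0
  rcases (by omega : σ 0 = 0 ∨ σ 0 = 1) with h | h <;> rw [h] at h0
  · exact (om_mem_stab_iff _ x).2 h0
  · refine absurd h0 (map_ne_of_disjoint hQ (k := k) (by rw [finrank_fintype_fun_eq_card, hn]) hk
      (by rw [finrank_fintype_fun_eq_card]; omega) (fun v hv => hts 0 v hv) (hD.finrank_eq 0) ?_ hx)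
    exact (hD.indep.pairwiseDisjoint (show (0 : Fin 2) ≠ 1 by decide)).eq_bot

/-- Over two elements a hyperbolic plane has a single non-singular vector. -/
theorem point_of_plus_plane_two (hq : Fintype.card F = 2) {W : Submodule F (ι → F)}
    (hdim : finrank F W = 2) (hW : IsNondegenerateOn (polar ⇑Q) W) (hplus : Plus Q W)
    {H : Subgroup (GL ι F)} (hHQ : FixesQuadForm (matrixSet H) ⇑Q) (hH : H ≤ subspaceStabilizer W) :
    ∃ v : ι → F, Q v ≠ 0 ∧ H ≤ subspaceStabilizer (F ∙ v) := by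
  classical
  have hF : ∀ r : F, r = 0 ∨ r = 1 := fun r => by
    rcases eq_or_ne r 0 with h | h
    · exact Or.inl h
    · have := FiniteField.pow_card_sub_one_eq_one r h
      rw [hq] at this
      exact Or.inr (by simpa using this)
  obtain ⟨U, hUW, hU, hUd⟩ := hplus
  obtain ⟨e, heU, he0⟩ := U.exists_mem_ne_zero_of_ne_bot fun h => by
    rw [h, finrank_bot, hdim] at hUd; omega
  obtain ⟨f, hf, hef⟩ := (nd_restr hW).exists_partner (u := ⟨e, hUW heU⟩)
    (fun h => he0 (congrArg Subtype.val h)) (hU e heU)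
  rw [restr_apply] at hf
  rw [polar_restr] at hef
  have he : Q e = 0 := hU e heU
  have hWeq : Submodule.span F {e, (f : ι → F)} = W := by
    refine Submodule.eq_of_le_of_finrank_eq ?_ ?_
    · rw [Submodule.span_le]
      rintro x (rfl | rfl)
      · exact hUW heU
      · exact f.2
    · rw [hdim, finrank_hyperbolic_plane he hf hef]
  refine ⟨e + f, by rw [map_add_polar, he, hf, hef]; simp, Aschbacher.le_subspaceStabilizer fun g hg w hw => ?_⟩
  obtain ⟨c, rfl⟩ := Submodule.mem_span_singleton.1 hw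
  rw [Matrix.mulVec_smul]
  refine Submodule.smul_mem _ _ ?_
  have hgW : (g : Matrix ι ι F) *ᵥ (e + (f : ι → F)) ∈ W := (hH hg _).1 (W.add_mem (hUW heU) f.2)
  replace hgW := (SetLike.ext_iff.1 hWeq _).2 hgW
  obtain ⟨a, b, hab⟩ := Submodule.mem_span_pair.1 hgW
  have h1 : Q (a • e + b • (f : ι → F)) = 1 := by
    rw [hab, hHQ _ (Aschbacher.mem_matrixSet hg), map_add_polar, he, hf, hef]; simp
  rw [map_add_polar, qmap_smul, qmap_smul, polar_smul_left', polar_smul_right', he, hf, hef] at h1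
  rcases hF a with rfl | rfl <;> rcases hF b with rfl | rfl <;> simp at h1
  rw [← hab, one_smul, one_smul]
  exact Submodule.mem_span_singleton_self _

/-- Ω does not permute two orthogonal non-isometric subspaces. -/
theorem not_le_pair (hQ : Nondeg Q) (hn : 5 ≤ finrank F (ι → F)) {k : ℕ} {D : Fin 2 → Submodule F (ι → F)}
    (hD : IsNondegenerateMDecomposition (polar ⇑Q) k D) (hniso : ¬ AreIsometricFor (⇑Q) (D 0) (D 1))
    (hk : 0 < k) (hkn : k < finrank F (ι → F)) : ¬ omegaGL ⇑Q ≤ decompositionStabilizer D := by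
  intro hc
  refine not_le_subspace hQ hn (W := D 0) (fun h => ?_) (fun h => ?_) fun g hg => ?_
  · have := hD.decomp.finrank_eq 0; rw [h, finrank_bot] at this; omega
  · have := hD.decomp.finrank_eq 0; rw [h, finrank_top] at this; omega
  obtain ⟨x, -, rfl⟩ := (mem_omegaGL_iff Q _).1 hg
  obtain ⟨σ, hσ⟩ := hc hg
  have h0 := hσ 0
  rw [om_toLin'] at h0
  rcases (by omega : σ 0 = 0 ∨ σ 0 = 1) with h | h <;> rw [h] at h0
  · exact (om_mem_stab_iff _ x).2 h0
  · refine absurd ⟨((x : (ι → F) ≃ₗ[F] (ι → F)).submoduleMap (D 0)).trans (LinearEquiv.ofEq _ _ h0), fun w => ?_⟩ hniso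
    exact O.map_app x w

end Cfsg.Agent.H96.EvenMax
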