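import Cfsg.Agent.Aschbacher.EvenOrthTheorem
import Cfsg.Agent.H96.EvenMax.Special
import Cfsg.Agent.H96.EvenMax.Small

/-!
Common steps of the case analyses for maximal subgroups of Ω in small even dimensions.
-/

set_option autoImplicit false
set_option linter.unusedSectionVars false

namespace Cfsg.Agent.H96.EvenMax

open scoped MatrixGroups Matrix
open Cfsg.Geo Module
open QuadraticMap (polar polar_comm)
open Cfsg.Agent.Orthogonal

variable {n : ℕ} {F : Type*} [Field F] [Fintype F] {Q : QuadraticForm F (Fin n → F)}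
  {H : Subgroup (GL (Fin n) F)}

/-- A maximal subgroup is not the trace of a member whose trace is not maximal. -/
theorem false_of_between (hH : IsMaximalIn (omegaGL ⇑Q) H) {X : Subgroup (GL (Fin n) F)}
    (hX : H = X ⊓ omegaGL ⇑Q)
    (hK : ∃ K : Subgroup (GL (Fin n) F), X ⊓ omegaGL ⇑Q < K ∧ K < omegaGL ⇑Q) : False := by
  obtain ⟨K, h1, h2⟩ := hK
  rw [← hX] at h1
  rcases hH.2 K h1.le h2.le with h | h
  · exact h1.ne h.symm
  · exact h2.ne h

theorem five_le (hn : 5 ≤ n) : 5 ≤ finrank F (Fin n → F) := by rwa [finrank_fin_fun]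

theorem ts_eq (hQ : Nondeg Q) (hn : 5 ≤ n) (hH : IsMaximalIn (omegaGL ⇑Q) H) {W : Submodule F (Fin n → F)}
    (h0 : W ≠ ⊥) (hts : IsTotallySingularQuad (⇑Q) W) (hle : H ≤ subspaceStabilizer W) :
    H = subspaceStabilizer W ⊓ omegaGL ⇑Q := by
  refine Aschbacher.eq_inf_of_isMaximalIn hH hle (not_le_subspace hQ (five_le hn) h0 fun h1 => ?_)
  obtain ⟨v, hv, hv'⟩ := hQ.exists_partner (u := Pi.single ⟨0, by omega⟩ 1) (by simp)
    (hts _ (h1 ▸ Submodule.mem_top))
  rw [QuadraticMap.polar, hts _ (h1 ▸ Submodule.mem_top), hts _ (h1 ▸ Submodule.mem_top),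
    hts _ (h1 ▸ Submodule.mem_top)] at hv'
  simp at hv'

theorem point_eq (hQ : Nondeg Q) (hn : 5 ≤ n) (hH : IsMaximalIn (omegaGL ⇑Q) H) {v : Fin n → F}
    (hv : Q v ≠ 0) (hle : H ≤ subspaceStabilizer (F ∙ v)) :
    H = subspaceStabilizer (Submodule.span F {v}) ⊓ omegaGL ⇑Q := by
  have hv0 : v ≠ 0 := fun h => hv (by rw [h, QuadraticMap.map_zero])
  refine Aschbacher.eq_inf_of_isMaximalIn hH hle (not_le_subspace hQ (five_le hn) (by simpa using hv0) fun h1 => ?_)
  have := finrank_span_singleton (K := F) hv0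
  rw [h1, finrank_top, finrank_fin_fun] at this
  omega

theorem not_odd_card (h2 : (2 : F) = 0) : ¬ Odd (Fintype.card F) := fun h =>
  Aschbacher.odd_card_iff.1 h h2

/-- The possibilities for a stabilised non-degenerate subspace of less than half the dimension. -/
theorem nd_cases (hQ : Nondeg Q) (hQ' : IsNondegenerateQuadraticForm ⇑Q) (hn : 5 ≤ n)
    (hH : IsMaximalIn (omegaGL ⇑Q) H) {W : Submodule F (Fin n → F)} (h0 : W ≠ ⊥) (htop : W ≠ ⊤)
    (hW : IsNondegenerateOn (polar ⇑Q) W) (hk : 2 * finrank F W < n) (hle : H ≤ subspaceStabilizer W) :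
    (Odd (Fintype.card F) ∧ ∃ W : Submodule F (Fin n → F), W ≠ ⊥ ∧ W ≠ ⊤ ∧ Odd (finrank F W) ∧
      2 * finrank F W < n ∧ IsNondegenerateOn (polar ⇑Q) W ∧ H = subspaceStabilizer W ⊓ omegaGL ⇑Q) ∨
    (∃ W : Submodule F (Fin n → F), finrank F W = 2 ∧ IsNondegenerateOn (polar ⇑Q) W ∧
      ¬ IsPlusTypeOn (⇑Q) W ∧ H = subspaceStabilizer W ⊓ omegaGL ⇑Q) ∨
    (4 ≤ Fintype.card F ∧ ∃ W : Submodule F (Fin n → F), finrank F W = 2 ∧
      IsNondegenerateOn (polar ⇑Q) W ∧ IsPlusTypeOn (⇑Q) W ∧ H = subspaceStabilizer W ⊓ omegaGL ⇑Q) ∨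
    (∃ W : Submodule F (Fin n → F), finrank F W % 2 = 0 ∧ 4 ≤ finrank F W ∧ 2 * finrank F W < n ∧
      IsNondegenerateOn (polar ⇑Q) W ∧ H = subspaceStabilizer W ⊓ omegaGL ⇑Q) ∨
    (¬ Odd (Fintype.card F) ∧ ∃ v : Fin n → F, Q v ≠ 0 ∧
      H = subspaceStabilizer (Submodule.span F {v}) ⊓ omegaGL ⇑Q) := by
  have heq := Aschbacher.eq_inf_of_isMaximalIn hH hle (not_le_subspace hQ (five_le hn) h0 htop)
  rcases Nat.even_or_odd (finrank F W) with hev | hodd
  swap
  · refine Or.inl ⟨Aschbacher.odd_card_iff.2 fun h2 => ?_, W, h0, htop, hodd, hk, hW, heq⟩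
    exact Nat.not_even_iff_odd.2 hodd (Aschbacher.even_finrank_of_char_two hQ' h2 hW)
  have hpos : finrank F W ≠ 0 := fun h => h0 (Submodule.finrank_eq_zero.1 h)
  by_cases hd : finrank F W = 2
  swap
  · obtain ⟨j, hj⟩ := hev
    exact Or.inr <| Or.inr <| Or.inr <| Or.inl ⟨W, by omega, by omega, hk, hW, heq⟩
  by_cases hp : IsPlusTypeOn (⇑Q) W
  swap
  · exact Or.inr <| Or.inl ⟨W, hd, hW, hp, heq⟩
  by_cases hq : 4 ≤ Fintype.card F
  · exact Or.inr <| Or.inr <| Or.inl ⟨hq, W, hd, hW, hp, heq⟩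
  have hHQ := Aschbacher.fixesQuadForm_of_le_omegaGL hH.1.le
  have := Fintype.one_lt_card (α := F)
  rcases (by omega : Fintype.card F = 2 ∨ Fintype.card F = 3) with hq' | hq'
  · obtain ⟨v, hv, hle'⟩ := point_of_plus_plane_two hq' hd hW hp hHQ hle
    refine Or.inr <| Or.inr <| Or.inr <| Or.inr ⟨by rw [hq']; decide, v, hv, point_eq hQ hn hH hv hle'⟩
  · obtain ⟨v, hv, hle'⟩ := Aschbacher.point_of_plus_plane hq' hd hW hp hHQ hle
    have h2 : (2 : F) ≠ 0 := Aschbacher.odd_card_iff.1 (by rw [hq']; decide)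
    have hv0 : v ≠ 0 := fun h => hv (by rw [h, QuadraticMap.map_zero])
    refine Or.inl ⟨by rw [hq']; decide, F ∙ v, by simpa using hv0, fun h => ?_, ?_, ?_, ?_, ?_⟩
    · have := finrank_span_singleton (K := F) hv0
      rw [h, finrank_top, finrank_fin_fun] at this
      omega
    · rw [finrank_span_singleton hv0]; exact odd_one
    · rw [finrank_span_singleton hv0]; omega
    · intro x hx hx0
      obtain ⟨c, rfl⟩ := Submodule.mem_span_singleton.1 hx
      have hne : polar (⇑Q) (c • v) v ≠ 0 := by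
        rw [polar_smul_left', polar_self']
        exact mul_ne_zero (fun h => hx0 (by rw [h, zero_smul])) (mul_ne_zero h2 hv)
      exact ⟨⟨v, Submodule.mem_span_singleton_self v, by rwa [polar_comm]⟩,
        ⟨v, Submodule.mem_span_singleton_self v, hne⟩⟩
    · exact point_eq hQ hn hH hv hle'

/-- The family of an orthogonal decomposition. -/
theorem fam_of_decomp {t k : ℕ} {D : Fin t → Submodule F (Fin n → F)}
    (hD : IsOrthogonalMDecomposition (⇑Q) k D) : Fam Q D where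
  nd i := nd_restr (hD.decomp.nondegenerate i)
  orth i j hij := fun u hu v hv => hD.decomp.orthogonal i j hij u hu v hv
  iso i j := hD.isometric i j

theorem sup_of_decomp {t k : ℕ} {D : Fin t → Submodule F (Fin n → F)}
    (hD : IsOrthogonalMDecomposition (⇑Q) k D) : Finset.univ.sup D = ⊤ :=
  (Finset.sup_univ_eq_iSup D).trans hD.decomp.decomp.iSup_eq_top

theorem decomp_plus_of_even {t k : ℕ} {D : Fin t → Submodule F (Fin n → F)}
    (hD : IsOrthogonalMDecomposition (⇑Q) k D) (hk : Even k) (ht : Even t) : Plus Q ⊤ := by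
  classical
  rw [← sup_of_decomp hD]
  exact (fam_of_decomp hD).plus_even (fun i => by rw [hD.decomp.decomp.finrank_eq]; exact hk) _ (by simpa using ht)

theorem decomp_plus_of_four {t k : ℕ} {D : Fin t → Submodule F (Fin n → F)}
    (hD : IsOrthogonalMDecomposition (⇑Q) k D) (ht : 4 ∣ t) : Plus Q ⊤ := by
  rw [← sup_of_decomp hD]; exact (fam_of_decomp hD).plus_four ht

theorem decomp_plus_iff {t k : ℕ} {D : Fin t → Submodule F (Fin n → F)}
    (hD : IsOrthogonalMDecomposition (⇑Q) k D) (hk : Even k) (ht : Odd t) (i : Fin t) :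
    Plus Q ⊤ ↔ Plus Q (D i) := by
  classical
  rw [← sup_of_decomp hD]
  exact (fam_of_decomp hD).plus_odd_iff (fun j => by rw [hD.decomp.decomp.finrank_eq]; exact hk) _
    (by simpa using ht) (Finset.mem_univ i)

theorem decomp_eq (hQ : Nondeg Q) (hn : 5 ≤ n) (hH : IsMaximalIn (omegaGL ⇑Q) H) {t k : ℕ}
    {D : Fin t → Submodule F (Fin n → F)} (hD : IsOrthogonalMDecomposition (⇑Q) k D) (hk : 1 < k)
    (hcard : t * k = Fintype.card (Fin n)) (hle : H ≤ decompositionStabilizer D) :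
    H = decompositionStabilizer D ⊓ omegaGL ⇑Q := by
  refine Aschbacher.eq_inf_of_isMaximalIn hH hle (not_le_decomp hQ (five_le hn) hD ?_)
  rw [Fintype.card_fin] at hcard
  by_cases h3 : 3 ≤ k
  · exact Or.inr h3
  · obtain rfl : k = 2 := by omega
    exact Or.inl ⟨le_rfl, by omega⟩

theorem frame_eq (hQ : Nondeg Q) (hn : 5 ≤ n) (h2 : (2 : F) ≠ 0) (hH : IsMaximalIn (omegaGL ⇑Q) H)
    {D : Fin (Fintype.card (Fin n)) → Submodule F (Fin n → F)} (hD : IsOrthogonalMDecomposition (⇑Q) 1 D)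
    (hle : H ≤ decompositionStabilizer D) :
    ∃ D' : Fin n → Submodule F (Fin n → F), IsOrthogonalMDecomposition (⇑Q) 1 D' ∧
      H = decompositionStabilizer D' ⊓ omegaGL ⇑Q := by
  obtain ⟨D', hD', heq⟩ := Aschbacher.exists_decomp_cast (Fintype.card_fin n) D hD
  exact ⟨D', hD', Aschbacher.eq_inf_of_isMaximalIn hH (heq ▸ hle)
    (Aschbacher.omega_not_le_decomp hQ (five_le hn) h2 hD' (Or.inl ⟨rfl, by omega⟩))⟩

/-- The square class of `-1` from two orthogonal isometric odd-dimensional halves. -/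
theorem square_iff_of_pair {W W' : Submodule F (Fin n → F)} (h : Orth Q W W') (hW : Nondeg (restr Q W))
    (hW' : Nondeg (restr Q W')) (ho : Odd (finrank F W)) (e : W ≃ₗ[F] W')
    (he : ∀ w, Q (e w : Fin n → F) = Q (w : Fin n → F)) : Plus Q (W ⊔ W') ↔ IsSquare (-1 : F) := by
  obtain ⟨-, c2, -, c4⟩ := odd_pair h hW hW' ho e.finrank_eq.symm
  exact ⟨fun hp => by_contra fun hs => c2 hp hs e he, fun hs => by_contra fun hp => c4 hp hs e he⟩

/-- For two isometric halves of odd dimension the type records the class of `-1`. -/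
theorem square_iff_of_decomp_two {k : ℕ} {D : Fin 2 → Submodule F (Fin n → F)}
    (hD : IsOrthogonalMDecomposition (⇑Q) k D) (hk : Odd k) : Plus Q ⊤ ↔ IsSquare (-1 : F) := by
  have hF := fam_of_decomp hD
  obtain ⟨e, he⟩ := hF.iso 0 1
  have hs : D 0 ⊔ D 1 = ⊤ := by
    rw [← sup_of_decomp hD]
    exact le_antisymm (sup_le (Finset.le_sup (Finset.mem_univ _)) (Finset.le_sup (Finset.mem_univ _)))
      (Finset.sup_le fun i _ => by fin_cases i <;> simp)
  rw [← hs]
  exact square_iff_of_pair (hF.orth 0 1 (by decide)) (hF.nd 0) (hF.nd 1)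
    (by rw [hD.decomp.decomp.finrank_eq]; exact hk) e he

/-- For a frame of twice an odd number of lines the type records the class of `-1`. -/
theorem square_iff_of_frame {s : ℕ} {D : Fin (2 * s) → Submodule F (Fin n → F)}
    (hD : IsOrthogonalMDecomposition (⇑Q) 1 D) (hs : Odd s) : Plus Q ⊤ ↔ IsSquare (-1 : F) := by
  classical
  have hF := fam_of_decomp hD
  have hpos : 0 < s := hs.pos
  obtain ⟨e, he⟩ := hF.iso ⟨2 * 0, by omega⟩ ⟨2 * 0 + 1, by omega⟩
  rw [← sup_of_decomp hD, ← sup_pairs D, hF.pairs.plus_odd_iff (fun i => ?_) Finset.univ (by simpa using hs)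
    (a := ⟨0, hpos⟩) (Finset.mem_univ _)]
  · exact square_iff_of_pair (hF.orth _ _ (by simp [Fin.ext_iff])) (hF.nd _) (hF.nd _)
      (by rw [hD.decomp.decomp.finrank_eq]; exact odd_one) e he
  · rw [finrank_sup_orth (hF.orth _ _ (by simp [Fin.ext_iff])) (hF.nd _), hD.decomp.decomp.finrank_eq,
      hD.decomp.decomp.finrank_eq]
    exact even_two

theorem mod_four_of_square (hodd : Odd (Fintype.card F)) (h : IsSquare (-1 : F)) :
    Fintype.card F % 4 = 1 := by
  have := FiniteField.isSquare_neg_one_iff.1 h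
  obtain ⟨j, hj⟩ := hodd
  omega

theorem mod_four_of_not_square (h : ¬ IsSquare (-1 : F)) : Fintype.card F % 4 = 3 := by
  by_contra hn
  exact h (FiniteField.isSquare_neg_one_iff.2 hn)

/-- A stabilised pair of non-isometric halves. -/
theorem pair_facts (hQ : Nondeg Q) (hn : 5 ≤ n) (hH : IsMaximalIn (omegaGL ⇑Q) H) {k : ℕ}
    {D : Fin 2 → Submodule F (Fin n → F)} (hD : IsNondegenerateMDecomposition (polar ⇑Q) k D)
    (hk : 2 * k = n) (hle : H ≤ subspaceStabilizer (D 0)) :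
    H = subspaceStabilizer (D 0) ⊓ omegaGL ⇑Q ∧ finrank F (D 0) = k ∧ IsNondegenerateOn (polar ⇑Q) (D 0) := by
  have hd := hD.decomp.finrank_eq 0
  refine ⟨Aschbacher.eq_inf_of_isMaximalIn hH hle (not_le_subspace hQ (five_le hn) (fun h => ?_) fun h => ?_),
    hd, hD.nondegenerate 0⟩
  · rw [h, finrank_bot] at hd; omega
  · rw [h, finrank_top, finrank_fin_fun] at hd; omega

theorem pair_sup {k : ℕ} {D : Fin 2 → Submodule F (Fin n → F)}
    (hD : IsNondegenerateMDecomposition (polar ⇑Q) k D) :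
    D 0 ⊔ D 1 = ⊤ ∧ Orth Q (D 0) (D 1) ∧ Nondeg (restr Q (D 0)) ∧ Nondeg (restr Q (D 1)) := by
  refine ⟨?_, fun u hu v hv => hD.orthogonal 0 1 (by decide) u hu v hv, nd_restr (hD.nondegenerate 0),
    nd_restr (hD.nondegenerate 1)⟩
  rw [← hD.decomp.iSup_eq_top]
  exact le_antisymm (sup_le (le_iSup D 0) (le_iSup D 1)) (iSup_le fun i => by fin_cases i <;> simp)

theorem subfield_eq (hQ : Nondeg Q) (hn : 5 ≤ n) (hH : IsMaximalIn (omegaGL ⇑Q) H) {F₀ : Subfield F} {r : ℕ}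
    (hr : r.Prime) (hF : Fintype.card F = Nat.card F₀ ^ r) {P : GL (Fin n) F} (hle : H ≤ subfieldSubgroup F₀ P) :
    H = subfieldSubgroup F₀ P ⊓ omegaGL ⇑Q :=
  Aschbacher.eq_inf_of_isMaximalIn hH hle
    (Aschbacher.omega_not_le_subfield hQ (five_le hn) (Aschbacher.subfield_ne_top_odd hr hF) P)

theorem subfield_odd (hQ : Nondeg Q) (hev : Even n) (hn : 5 ≤ n) (hminus : ¬ Plus Q ⊤) {F₀ : Subfield F} {r : ℕ}
    (hr : r.Prime) (hF : Fintype.card F = Nat.card F₀ ^ r) {P : GL (Fin n) F} {ζ : F} (hζ : ζ ≠ 0)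
    (hrat : IsQuadFormRationalStructure (fun v => ζ * Q v) F₀ P) : Odd r := by
  refine hr.odd_of_ne_two fun h => hminus ?_
  subst h
  exact plus_of_rational_two hQ (by simpa using hev) (by simp; omega) hF hζ hrat

theorem field_eq (hQ : Nondeg Q) (hn : 5 ≤ n) (hH : IsMaximalIn (omegaGL ⇑Q) H) {r : ℕ}
    {K : Subalgebra F (Matrix (Fin n) (Fin n) F)} (hK : IsFieldSubalgebra r K) (hr : 2 ≤ r)
    (hle : H ≤ subalgebraNormalizer K) : H = subalgebraNormalizer K ⊓ omegaGL ⇑Q :=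
  Aschbacher.eq_inf_of_isMaximalIn hH hle (Aschbacher.omega_not_le_fieldNormalizer hQ (five_le hn) hK hr)

theorem tensor_factors {a b m : ℕ} (ha : 2 ≤ a) (hab : a ≤ b) (h : a * b = m) (hm : m ≤ 12) :
    (a = 2 ∧ 2 * b = m) ∨ (a = 3 ∧ 3 * b = m) := by
  have h2 : a * a ≤ a * b := Nat.mul_le_mul_left a hab
  have : a ≤ 3 := by
    by_contra hc
    have : 4 * 4 ≤ a * a := Nat.mul_le_mul (by omega) (by omega)
    omega
  interval_cases a <;> omega

theorem power_factors {k t m : ℕ} (hk : 2 ≤ k) (hkev : Even k) (ht : 2 ≤ t) (h : k ^ t = m) (hm : m ≤ 12)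
    (hm4 : 4 < m) : k = 2 ∧ t = 3 ∧ m = 8 := by
  obtain ⟨j, hj⟩ := hkev
  have hk2 : k = 2 := by
    by_contra hc
    have : 4 ^ 2 ≤ k ^ t := le_trans (Nat.pow_le_pow_left (by omega) 2) (Nat.pow_le_pow_right (by omega) ht)
    omega
  subst hk2
  have : t ≤ 3 := by
    by_contra hc
    have : 2 ^ 4 ≤ 2 ^ t := Nat.pow_le_pow_right (by omega) (by omega)
    omega
  interval_cases t
  · omega
  · exact ⟨rfl, rfl, h.symm⟩

end Cfsg.Agent.H96.EvenMax
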