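import Cfsg.Agent.H96.EvenMax.Small
import Cfsg.Agent.Aschbacher.EvenOrthBase

/-!
A self-adjoint field of degree five in dimension ten: its normaliser in Ω fixes a totally singular
5-space or normalises a quadratic field of similarities.
-/

set_option autoImplicit false
set_option linter.unusedSectionVars false

namespace Cfsg.Agent.H96.EvenMax

open scoped MatrixGroups Matrix
open Cfsg.Geo Module
open QuadraticMap (polar polar_comm polar_add_left polar_add_right)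
open Cfsg.Agent.Orthogonal

variable {ι : Type} [Fintype ι] [DecidableEq ι] {F : Type*} [Field F] [Fintype F]
  {Q : QuadraticForm F (ι → F)} {H : Subgroup (GL ι F)}

theorem matrix_ext {X Y : Matrix ι ι F} (h : ∀ x, X *ᵥ x = Y *ᵥ x) : X = Y :=
  Matrix.toLin'.injective (LinearMap.ext fun x => by rw [Matrix.toLin'_apply, Matrix.toLin'_apply, h])

/-- An element satisfying a quadratic equation without roots spans a field of similarities. -/
theorem quadratic_field_of_elem (hQ : Nondeg Q) [Nonempty ι] {τ e : F} {J : Matrix ι ι F}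
    (hJ : J * J = τ • J + e • (1 : Matrix ι ι F)) (hroot : ∀ t : F, t ^ 2 ≠ τ * t + e)
    (hadj : ∀ u v, polar Q (J *ᵥ u) v = polar Q u ((τ • (1 : Matrix ι ι F) - J) *ᵥ v))
    (hvJ : ∀ v, polar Q v (J *ᵥ v) = τ * Q v) (hQJ : ∀ v, Q (J *ᵥ v) = -e * Q v)
    (hns : ∃ u v, polar Q (J *ᵥ u) v ≠ polar Q u (J *ᵥ v))
    (hconj : ∀ g ∈ H, ∃ a b : F, (g : Matrix ι ι F) * J * ((g⁻¹ : GL ι F) : Matrix ι ι F) =
      a • (1 : Matrix ι ι F) + b • J) :
    ∃ K : Subalgebra F (Matrix ι ι F), IsFieldSubalgebra 2 K ∧ IsAdjointClosedFor (polar ⇑Q) K ∧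
      ¬ IsSelfAdjointFor (polar ⇑Q) K ∧ (∀ k ∈ K, ∃ c : F, ∀ v, Q (k *ᵥ v) = c * Q v) ∧
      H ≤ subalgebraNormalizer K := by
  classical
  let K : Subalgebra F (Matrix ι ι F) :=
    { carrier := {X | ∃ a b : F, X = a • (1 : Matrix ι ι F) + b • J}
      mul_mem' := by
        rintro _ _ ⟨a, b, rfl⟩ ⟨c, d, rfl⟩
        refine ⟨a * c + b * d * e, a * d + b * c + b * d * τ, ?_⟩
        simp only [add_mul, mul_add, Matrix.smul_mul, Matrix.mul_smul, one_mul, mul_one, smul_smul, hJ, smul_add]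
        module
      add_mem' := by
        rintro _ _ ⟨a, b, rfl⟩ ⟨c, d, rfl⟩
        exact ⟨a + c, b + d, by module⟩
      algebraMap_mem' := fun c => ⟨c, 0, by rw [Algebra.algebraMap_eq_smul_one, zero_smul, add_zero]⟩ }
  have hmem : ∀ X, X ∈ K ↔ ∃ a b : F, X = a • (1 : Matrix ι ι F) + b • J := fun X => Iff.rfl
  have hN : ∀ a b : F, ¬ (a = 0 ∧ b = 0) → a ^ 2 + a * b * τ - b ^ 2 * e ≠ 0 := by
    intro a b hab h
    by_cases hb : b = 0
    · subst hb
      exact hab ⟨pow_eq_zero_iff (two_ne_zero) |>.1 (by linear_combination h), rfl⟩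
    · exact hroot (-a / b) (by field_simp; linear_combination h)
  have hli : ∀ a b : F, a • (1 : Matrix ι ι F) + b • J = 0 → a = 0 ∧ b = 0 := by
    intro a b h
    by_contra hab
    refine hN a b hab ?_
    have h2 : (a ^ 2 + a * b * τ - b ^ 2 * e) • (1 : Matrix ι ι F) = 0 := by
      have : ((a + b * τ) • (1 : Matrix ι ι F) - b • J) * (a • (1 : Matrix ι ι F) + b • J) = 0 := by
        rw [h, mul_zero]
      rw [← this]
      simp only [sub_mul, mul_add, Matrix.smul_mul, Matrix.mul_smul, one_mul, mul_one, smul_smul, hJ, smul_add]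
      module
    exact (smul_eq_zero.1 h2).resolve_right one_ne_zero
  refine ⟨K, ⟨?_, ?_, ?_⟩, ?_, ?_, ?_, ?_⟩
  · rintro _ ⟨a, b, rfl⟩ _ ⟨c, d, rfl⟩
    simp only [add_mul, mul_add, Matrix.smul_mul, Matrix.mul_smul, one_mul, mul_one, smul_smul]
    module
  · rintro _ ⟨a, b, rfl⟩ hne
    have hn := hN a b fun hab => hne (by simp [hab.1, hab.2])
    refine ⟨(a ^ 2 + a * b * τ - b ^ 2 * e)⁻¹ • ((a + b * τ) • (1 : Matrix ι ι F) - b • J),
      K.smul_mem ((hmem _).2 ⟨a + b * τ, -b, by module⟩) _, ?_⟩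
    rw [Matrix.mul_smul]
    conv_rhs => rw [← one_smul F (1 : Matrix ι ι F), ← inv_mul_cancel₀ hn, mul_smul]
    congr 1
    simp only [mul_sub, add_mul, Matrix.smul_mul, Matrix.mul_smul, one_mul, mul_one, smul_smul, hJ, smul_add]
    module
  · let φ : (F × F) →ₗ[F] Matrix ι ι F :=
      (LinearMap.id.smulRight (1 : Matrix ι ι F)).coprod (LinearMap.id.smulRight J)
    have hφ : ∀ p : F × F, φ p = p.1 • (1 : Matrix ι ι F) + p.2 • J := fun p => rfl
    have hinj : Function.Injective φ := by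
      rw [← LinearMap.ker_eq_bot, LinearMap.ker_eq_bot']
      intro p hp
      obtain ⟨h1, h2⟩ := hli p.1 p.2 (hp ▸ (hφ p).symm)
      exact Prod.ext h1 h2
    have hr : Subalgebra.toSubmodule K = LinearMap.range φ := by
      ext X
      exact ⟨fun ⟨a, b, h⟩ => ⟨(a, b), h.symm⟩, fun ⟨p, h⟩ => ⟨p.1, p.2, h.symm⟩⟩
    rw [← Subalgebra.finrank_toSubmodule, hr, LinearMap.finrank_range_of_inj hinj, finrank_prod, finrank_self]
  · rintro _ ⟨a, b, rfl⟩
    refine ⟨(a + b * τ) • (1 : Matrix ι ι F) - b • J, (hmem _).2 ⟨a + b * τ, -b, by module⟩, fun u v => ?_⟩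
    simp only [Matrix.add_mulVec, Matrix.sub_mulVec, Matrix.smul_mulVec, Matrix.one_mulVec,
      QuadraticMap.polar_add_left, QuadraticMap.polar_sub_right, polar_smul_left', polar_smul_right', hadj]
    ring
  · intro hsa
    obtain ⟨u, v, huv⟩ := hns
    exact huv (hsa J ((hmem _).2 ⟨0, 1, by module⟩) u v)
  · rintro _ ⟨a, b, rfl⟩
    refine ⟨a ^ 2 + a * b * τ - b ^ 2 * e, fun v => ?_⟩
    simp only [Matrix.add_mulVec, Matrix.smul_mulVec, Matrix.one_mulVec, map_add_polar, qmap_smul,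
      polar_smul_left', polar_smul_right', hQJ, hvJ]
    ring
  · refine Aschbacher.le_subalgebraNormalizer fun g hg X hX => ?_
    obtain ⟨a, b, rfl⟩ := (hmem X).1 hX
    obtain ⟨c, d, hcd⟩ := hconj g hg
    refine (hmem _).2 ⟨a + b * c, b * d, ?_⟩
    simp only [Aschbacher.cj_apply, mul_add, add_mul, Matrix.smul_mul, Matrix.mul_smul, mul_one, Units.mul_inv,
      hcd, smul_add, smul_smul]
    module

variable {r : ℕ} {L : Subalgebra F (Matrix ι ι F)}

/-- The subspace spanned by the translates of a vector. -/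
noncomputable def evalMap (L : Subalgebra F (Matrix ι ι F)) (v : ι → F) : L →ₗ[F] (ι → F) where
  toFun k := (k : Matrix ι ι F) *ᵥ v
  map_add' x y := Matrix.add_mulVec _ _ v
  map_smul' c x := Matrix.smul_mulVec c (x : Matrix ι ι F) v

theorem evalMap_apply (v : ι → F) (k : L) : evalMap L v k = (k : Matrix ι ι F) *ᵥ v := rfl

theorem evalMap_injective (hL : IsFieldSubalgebra r L) {v : ι → F} (hv : v ≠ 0) :
    Function.Injective (evalMap L v) := by
  rw [← LinearMap.ker_eq_bot, LinearMap.ker_eq_bot']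
  intro k hk
  by_contra hk0
  obtain ⟨y, hy, hky⟩ := hL.inv k k.2 fun h => hk0 (Subtype.ext h)
  refine hv ?_
  rw [← Matrix.one_mulVec v, ← hky, hL.comm _ k.2 _ hy, ← Matrix.mulVec_mulVec,
    show (k : Matrix ι ι F) *ᵥ v = 0 from hk, Matrix.mulVec_zero]

theorem finrank_evalMap (hL : IsFieldSubalgebra r L) {v : ι → F} (hv : v ≠ 0) :
    finrank F (LinearMap.range (evalMap L v)) = r := by
  rw [LinearMap.finrank_range_of_inj (evalMap_injective hL hv), hL.finrank_eq]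

theorem mem_of_normalizer {g : GL ι F} (hg : g ∈ subalgebraNormalizer L) {l : Matrix ι ι F} (hl : l ∈ L) :
    ((g⁻¹ : GL ι F) : Matrix ι ι F) * l * (g : Matrix ι ι F) ∈ L := by
  have := (inv_inv g ▸ ((subalgebraNormalizer L).inv_mem hg l).1 hl :)
  exact this

/-- A totally singular translate space of odd dimension `n/2` is fixed. -/
theorem field_ts_fix (hQ : Nondeg Q) {r : ℕ} (hL : IsFieldSubalgebra r L) (hr : Odd r)
    (hn : Fintype.card ι = 2 * r) (h5 : 5 ≤ Fintype.card ι) {v : ι → F} (hv0 : v ≠ 0)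
    (hv : ∀ l ∈ L, Q (l *ᵥ v) = 0) (hH : H ≤ omegaGL ⇑Q) (hle : H ≤ subalgebraNormalizer L) :
    H ≤ subspaceStabilizer (LinearMap.range (evalMap L v)) := by
  intro g hg
  obtain ⟨x, hx, rfl⟩ := (mem_omegaGL_iff Q _).1 (hH hg)
  rw [om_mem_stab_iff]
  set U := LinearMap.range (evalMap L v) with hU
  set U' := U.map ((x : (ι → F) ≃ₗ[F] (ι → F)) : (ι → F) →ₗ[F] (ι → F))
  have hUts : TotSing Q U := by rintro _ ⟨l, rfl⟩; exact hv l l.2
  have hd := finrank_evalMap hL hv0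
  have hd' : finrank F U' = r := by
    rw [LinearEquiv.finrank_map_eq]; exact hd
  by_cases h0 : U ⊓ U' = ⊥
  · exact absurd rfl (map_ne_of_disjoint hQ (by rw [finrank_fintype_fun_eq_card, hn]) hr
      (by rw [finrank_fintype_fun_eq_card]; omega) hUts hd h0 hx)
  obtain ⟨u, ⟨hu, hu'⟩, hu0⟩ := (U ⊓ U').exists_mem_ne_zero_of_ne_bot h0
  have hstU : ∀ w ∈ U, ∀ l ∈ L, l *ᵥ w ∈ U := by
    rintro _ ⟨k, rfl⟩ l hl
    exact ⟨⟨l, hl⟩ * k, by simp [evalMap_apply, Matrix.mulVec_mulVec]⟩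
  have hle1 : LinearMap.range (evalMap L u) ≤ U := by rintro _ ⟨l, rfl⟩; exact hstU u hu l l.2
  have hle2 : LinearMap.range (evalMap L u) ≤ U' := by
    rintro _ ⟨l, rfl⟩
    obtain ⟨w, hw, hwu⟩ := hu'
    refine ⟨_, hstU w hw _ (mem_of_normalizer (hle hg) l.2), ?_⟩
    rw [LinearEquiv.coe_coe, ← om_mulVec, ← Matrix.mulVec_mulVec, ← Matrix.mulVec_mulVec,
      Matrix.mulVec_mulVec, Units.mul_inv, Matrix.one_mulVec, om_mulVec, evalMap_apply]
    exact congrArg _ hwu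
  have e1 : LinearMap.range (evalMap L u) = U :=
    Submodule.eq_of_le_of_finrank_eq hle1 (by rw [finrank_evalMap hL hu0]; exact hd.symm)
  exact (Submodule.eq_of_le_of_finrank_eq (e1.symm.le.trans hle2) (hd.trans hd'.symm)).symm

/-- Coordinates for a field of half the dimension. -/
theorem exists_coords (hL : IsFieldSubalgebra r L) (hn : Fintype.card ι = 2 * r) {v w : ι → F} (hv : v ≠ 0)
    (hw : w ∉ LinearMap.range (evalMap L v)) :
    ∃ Φ : (L × L) ≃ₗ[F] (ι → F), ∀ a b : L,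
      Φ (a, b) = (a : Matrix ι ι F) *ᵥ v + (b : Matrix ι ι F) *ᵥ w := by
  have hw0 : w ≠ 0 := fun h => hw (h ▸ Submodule.zero_mem _)
  have hdis : Disjoint (LinearMap.range (evalMap L v)) (LinearMap.range (evalMap L w)) := by
    rw [Submodule.disjoint_def]
    rintro _ ⟨a, rfl⟩ ⟨b, hb⟩
    by_contra hne
    have hb0 : (b : Matrix ι ι F) ≠ 0 := fun h => hne (by
      rw [← hb, evalMap_apply, h, Matrix.zero_mulVec])
    obtain ⟨y, hy, hby⟩ := hL.inv b b.2 hb0
    refine hw ⟨⟨y, hy⟩ * a, ?_⟩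
    show (y * (a : Matrix ι ι F)) *ᵥ v = w
    rw [← Matrix.mulVec_mulVec, show (a : Matrix ι ι F) *ᵥ v = (b : Matrix ι ι F) *ᵥ w from hb.symm,
      Matrix.mulVec_mulVec, hL.comm _ hy _ b.2, hby, Matrix.one_mulVec]
  have hinj : Function.Injective ((evalMap L v).coprod (evalMap L w)) := by
    rw [← LinearMap.ker_eq_bot, LinearMap.ker_coprod_of_disjoint_range _ _ hdis,
      LinearMap.ker_eq_bot.2 (evalMap_injective hL hv), LinearMap.ker_eq_bot.2 (evalMap_injective hL hw0),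
      Submodule.prod_bot]
  refine ⟨LinearEquiv.ofBijective _ ⟨hinj, ?_⟩, fun a b => rfl⟩
  refine (LinearMap.injective_iff_surjective_of_finrank_eq_finrank ?_).1 hinj
  rw [finrank_prod, hL.finrank_eq, finrank_fintype_fun_eq_card, hn]; ring

/-- The linear map commuting with the field with prescribed values. -/
theorem exists_commuting (hL : IsFieldSubalgebra r L) {v w : ι → F} (Φ : (L × L) ≃ₗ[F] (ι → F))
    (hΦ : ∀ a b : L, Φ (a, b) = (a : Matrix ι ι F) *ᵥ v + (b : Matrix ι ι F) *ᵥ w) (p q : ι → F) :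
    ∃ J : Matrix ι ι F, (∀ l ∈ L, J * l = l * J) ∧ J *ᵥ v = p ∧ J *ᵥ w = q := by
  let Ψ : (L × L) →ₗ[F] (ι → F) := (evalMap L p).coprod (evalMap L q)
  refine ⟨LinearMap.toMatrix' (Ψ.comp Φ.symm.toLinearMap), fun l hl => matrix_ext fun x => ?_, ?_, ?_⟩
  · obtain ⟨⟨a, b⟩, rfl⟩ := Φ.surjective x
    have e1 : l *ᵥ Φ (a, b) = Φ (⟨l, hl⟩ * a, ⟨l, hl⟩ * b) := by
      rw [hΦ, hΦ, Matrix.mulVec_add, Matrix.mulVec_mulVec, Matrix.mulVec_mulVec]; rfl
    rw [← Matrix.mulVec_mulVec, ← Matrix.mulVec_mulVec, e1, ← Matrix.toLin'_apply, Matrix.toLin'_toMatrix',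
      ← Matrix.toLin'_apply (LinearMap.toMatrix' _), Matrix.toLin'_toMatrix']
    simp [Ψ, evalMap_apply, Matrix.mulVec_add, Matrix.mulVec_mulVec]
  · have e : v = Φ (1, 0) := by rw [hΦ]; simp
    conv_lhs => rw [e, ← Matrix.toLin'_apply, Matrix.toLin'_toMatrix']
    simp [Ψ, evalMap_apply]
  · have e : w = Φ (0, 1) := by rw [hΦ]; simp
    conv_lhs => rw [e, ← Matrix.toLin'_apply, Matrix.toLin'_toMatrix']
    simp [Ψ, evalMap_apply]

/-- Matrices commuting with the field are determined by two values. -/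
theorem eq_of_commuting {v w : ι → F} (Φ : (L × L) ≃ₗ[F] (ι → F))
    (hΦ : ∀ a b : L, Φ (a, b) = (a : Matrix ι ι F) *ᵥ v + (b : Matrix ι ι F) *ᵥ w) {X Y : Matrix ι ι F}
    (hX : ∀ l ∈ L, X * l = l * X) (hY : ∀ l ∈ L, Y * l = l * Y) (h1 : X *ᵥ v = Y *ᵥ v)
    (h2 : X *ᵥ w = Y *ᵥ w) : X = Y := matrix_ext fun x => by
  obtain ⟨⟨a, b⟩, rfl⟩ := Φ.surjective x
  rw [hΦ, Matrix.mulVec_add, Matrix.mulVec_add, Matrix.mulVec_mulVec, Matrix.mulVec_mulVec, Matrix.mulVec_mulVec,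
    Matrix.mulVec_mulVec, hX _ a.2, hX _ b.2, hY _ a.2, hY _ b.2]
  simp only [← Matrix.mulVec_mulVec, h1, h2]

/-- Every functional is the translate of a non-zero one. -/
theorem exists_translate (hL : IsFieldSubalgebra r L) {g₀ : L →ₗ[F] F} (hg : g₀ ≠ 0) (f : L →ₗ[F] F) :
    ∃ c : L, ∀ l, f l = g₀ (l * c) := by
  let T : L →ₗ[F] (L →ₗ[F] F) := LinearMap.mk₂ F (fun c l => g₀ (l * c))
    (fun c c' l => by rw [mul_add, map_add]) (fun a c l => by rw [mul_smul_comm, map_smul])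
    (fun c l l' => by rw [add_mul, map_add]) (fun a c l => by rw [smul_mul_assoc, map_smul])
  have hinj : Function.Injective T := by
    rw [← LinearMap.ker_eq_bot, LinearMap.ker_eq_bot']
    intro c hc
    by_contra hc0
    obtain ⟨y, hy, hcy⟩ := hL.inv c c.2 fun h => hc0 (Subtype.ext h)
    refine hg (LinearMap.ext fun l => ?_)
    have := LinearMap.congr_fun hc (l * ⟨y, hy⟩)
    rw [show l = l * ⟨y, hy⟩ * c from Subtype.ext (by
      show (l : Matrix ι ι F) = (l : Matrix ι ι F) * y * (c : Matrix ι ι F)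
      rw [mul_assoc, hL.comm _ hy _ c.2, hcy, mul_one])]
    exact this
  obtain ⟨c, hc⟩ := (LinearMap.injective_iff_surjective_of_finrank_eq_finrank
    (by simp [Module.finrank_linearMap])).1 hinj f
  exact ⟨c, fun l => by rw [← hc]; rfl⟩

/-- A finite extension of odd degree contains no new roots of quadratics. -/
theorem mem_range_of_quadratic {K E : Type*} [Field K] [Field E] [Algebra K E] [FiniteDimensional K E]
    (hodd : Odd (finrank K E)) {s : E} {a b : K} (hs : s ^ 2 = a • s + algebraMap K E b) :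
    ∃ t : K, algebraMap K E t = s := by
  set p : Polynomial K := Polynomial.X ^ 2 - Polynomial.C a * Polynomial.X - Polynomial.C b with hp
  have hroot : Polynomial.aeval s p = 0 := by
    simp [hp, hs, Algebra.smul_def]
  have hd : p.natDegree = 2 := by rw [hp]; compute_degree!
  have hle : (minpoly K s).natDegree ≤ 2 := hd ▸ Polynomial.natDegree_le_of_dvd (minpoly.dvd K s hroot)
    (fun h => by simp [h] at hd)
  have hpos := minpoly.natDegree_pos (IsIntegral.of_finite K s)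
  have hdvd := minpoly.degree_dvd (IsIntegral.of_finite K s)
  have h1 : (minpoly K s).natDegree = 1 := by
    obtain ⟨c, hc⟩ := hodd
    obtain ⟨d, hd'⟩ := hdvd
    interval_cases h : (minpoly K s).natDegree <;> omega
  exact (minpoly.natDegree_eq_one_iff.1 h1)

set_option maxHeartbeats 800000 in
/-- The quadratic field in odd characteristic. -/
theorem field_five_odd (hQ : Nondeg Q) (hn : Fintype.card ι = 10) (hL : IsFieldSubalgebra 5 L)
    (hsa : IsSelfAdjointFor (polar ⇑Q) L) (h2 : (2 : F) ≠ 0)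
    (hHQ : FixesQuadForm (matrixSet H) ⇑Q) (hle : H ≤ subalgebraNormalizer L)
    (hS : ∀ v : ι → F, v ≠ 0 → ∃ l ∈ L, Q (l *ᵥ v) ≠ 0) :
    ∃ K : Subalgebra F (Matrix ι ι F), IsFieldSubalgebra 2 K ∧ IsAdjointClosedFor (polar ⇑Q) K ∧
      ¬ IsSelfAdjointFor (polar ⇑Q) K ∧ (∀ k ∈ K, ∃ c : F, ∀ v, Q (k *ᵥ v) = c * Q v) ∧
      H ≤ subalgebraNormalizer K := by
  classical
  haveI : Nonempty ι := Fintype.card_pos_iff.1 (by omega)
  have hfield : IsField L :=
    { exists_pair_ne := ⟨0, 1, fun h => zero_ne_one (congrArg Subtype.val h : (0 : Matrix ι ι F) = 1)⟩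
      mul_comm := fun a b => Subtype.ext (hL.comm _ a.2 _ b.2)
      mul_inv_cancel := fun {a} ha => by
        obtain ⟨y, hy, h⟩ := hL.inv a.1 a.2 (fun h => ha (Subtype.ext h))
        exact ⟨⟨y, hy⟩, Subtype.ext h⟩ }
  letI : Field L := hfield.toField
  haveI : Fintype L := Fintype.ofFinite L
  haveI : FiniteDimensional F L := inferInstance
  have hodd : Odd (finrank F L) := by rw [hL.finrank_eq]; decide
  have hmv : ∀ (a b : L) (x : ι → F), ((a * b : L) : Matrix ι ι F) *ᵥ x =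
      (a : Matrix ι ι F) *ᵥ ((b : Matrix ι ι F) *ᵥ x) := fun a b x => (Matrix.mulVec_mulVec _ _ _).symm
  have hmove : ∀ (a b : L) (x y : ι → F), polar Q ((a : Matrix ι ι F) *ᵥ x) ((b : Matrix ι ι F) *ᵥ y) =
      polar Q (((a * b : L) : Matrix ι ι F) *ᵥ x) y := fun a b x y => by
    rw [mul_comm a b, hmv, hsa _ b.2]
  -- a vector with a non-zero value
  obtain ⟨v, hQv⟩ : ∃ v, Q v ≠ 0 := by
    obtain ⟨l, -, hl⟩ := hS (Pi.single (Classical.arbitrary ι) 1) (by simp)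
    exact ⟨_, hl⟩
  have hv0 : v ≠ 0 := fun h => hQv (by rw [h, QuadraticMap.map_zero])
  have hconjcomm : ∀ g ∈ H, ∀ J : Matrix ι ι F, (∀ l ∈ L, J * l = l * J) → ∀ l ∈ L,
      (g : Matrix ι ι F) * J * ((g⁻¹ : GL ι F) : Matrix ι ι F) * l =
        l * ((g : Matrix ι ι F) * J * ((g⁻¹ : GL ι F) : Matrix ι ι F)) := by
    intro g hg J hJ l hl
    set k := ((g⁻¹ : GL ι F) : Matrix ι ι F) * l * (g : Matrix ι ι F)
    have hk : k ∈ L := mem_of_normalizer (hle hg) hl
    calc (g : Matrix ι ι F) * J * ((g⁻¹ : GL ι F) : Matrix ι ι F) * l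
        = (g : Matrix ι ι F) * (J * k) * ((g⁻¹ : GL ι F) : Matrix ι ι F) := by simp [k, mul_assoc]
      _ = (g : Matrix ι ι F) * (k * J) * ((g⁻¹ : GL ι F) : Matrix ι ι F) := by rw [hJ k hk]
      _ = _ := by simp [k, mul_assoc]
  have hconjsq : ∀ (g : GL ι F) (J : Matrix ι ι F),
      ((g : Matrix ι ι F) * J * ((g⁻¹ : GL ι F) : Matrix ι ι F)) *
        ((g : Matrix ι ι F) * J * ((g⁻¹ : GL ι F) : Matrix ι ι F)) =
      (g : Matrix ι ι F) * (J * J) * ((g⁻¹ : GL ι F) : Matrix ι ι F) := fun g J => by simp [mul_assoc]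
  have hconjpol : ∀ g ∈ H, ∀ (J : Matrix ι ι F) (t : F), (∀ x, polar Q x (J *ᵥ x) = t * Q x) → ∀ x,
      polar Q x (((g : Matrix ι ι F) * J * ((g⁻¹ : GL ι F) : Matrix ι ι F)) *ᵥ x) = t * Q x := by
    intro g hg J t hJ x
    obtain ⟨y, rfl⟩ : ∃ y, (g : Matrix ι ι F) *ᵥ y = x :=
      ⟨((g⁻¹ : GL ι F) : Matrix ι ι F) *ᵥ x, by rw [Matrix.mulVec_mulVec, Units.mul_inv, Matrix.one_mulVec]⟩
    have hg' : ∀ z, Q ((g : Matrix ι ι F) *ᵥ z) = Q z := fun z => hHQ _ (Aschbacher.mem_matrixSet hg) z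
    rw [← Matrix.mulVec_mulVec, ← Matrix.mulVec_mulVec, Matrix.mulVec_mulVec y, Units.inv_mul, Matrix.one_mulVec,
      hg', ← hJ y]
    simp only [polar, ← Matrix.mulVec_add, hg']
  obtain ⟨w, hw0, hwperp⟩ : ∃ w, w ≠ 0 ∧ w ∈ perp Q (LinearMap.range (evalMap L v)) := by
    obtain ⟨w, hw, hw0⟩ := (perp Q (LinearMap.range (evalMap L v))).exists_mem_ne_zero_of_ne_bot fun h => by
      have := hQ.finrank_add_perp (LinearMap.range (evalMap L v))
      rw [h, finrank_bot, finrank_evalMap hL hv0, finrank_fintype_fun_eq_card] at this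
      omega
    exact ⟨w, hw0, hw⟩
  have hcross : ∀ a b : L, polar Q ((a : Matrix ι ι F) *ᵥ v) ((b : Matrix ι ι F) *ᵥ w) = 0 := fun a b => by
    rw [hmove]; exact hwperp _ ⟨a * b, rfl⟩
  have hwv : w ∉ LinearMap.range (evalMap L v) := by
    rintro ⟨a, rfl⟩
    have ha : a ≠ 0 := fun h => hw0 (by rw [h, map_zero])
    have := hcross a⁻¹ 1
    rw [OneMemClass.coe_one, Matrix.one_mulVec, evalMap_apply, hmove, inv_mul_cancel₀ ha,
      OneMemClass.coe_one, Matrix.one_mulVec, polar_self'] at this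
    exact mul_ne_zero h2 hQv this
  obtain ⟨Φ, hΦ⟩ := exists_coords (r := 5) hL (by omega) hv0 hwv
  let fv : L →ₗ[F] F := (Q.polarBilin.flip v).comp (evalMap L v)
  let fw : L →ₗ[F] F := (Q.polarBilin.flip w).comp (evalMap L w)
  have hfv : ∀ a b : L, polar Q ((a : Matrix ι ι F) *ᵥ v) ((b : Matrix ι ι F) *ᵥ v) = fv (a * b) :=
    fun a b => hmove a b v v
  have hfw : ∀ a b : L, polar Q ((a : Matrix ι ι F) *ᵥ w) ((b : Matrix ι ι F) *ᵥ w) = fw (a * b) :=
    fun a b => hmove a b w w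
  have hfv0 : fv ≠ 0 := fun h => by
    have := LinearMap.congr_fun h 1
    simp [fv, evalMap_apply, h2, hQv, polar_self'] at this
  obtain ⟨γ₀, hγ₀⟩ := exists_translate hL hfv0 fw
  have hinj : ∀ c : L, (∀ l, fv (l * c) = 0) → c = 0 := fun c hc => by
    by_contra hc0
    exact hfv0 (LinearMap.ext fun l => by
      have := hc (l * c⁻¹); rwa [mul_assoc, inv_mul_cancel₀ hc0, mul_one] at this)
  have hns : ¬ IsSquare (-γ₀) := by
    rintro ⟨s, hs⟩
    have hne : Φ (s, 1) ≠ 0 := by rw [Ne, LinearEquiv.map_eq_zero_iff]; simp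
    obtain ⟨lm, hlm, hQl⟩ := hS _ hne
    obtain ⟨l, rfl⟩ : ∃ l : L, (l : Matrix ι ι F) = lm := ⟨⟨lm, hlm⟩, rfl⟩
    refine hQl (mul_left_cancel₀ h2 ?_)
    have e : (l : Matrix ι ι F) *ᵥ Φ (s, 1) = ((l * s : L) : Matrix ι ι F) *ᵥ v + (l : Matrix ι ι F) *ᵥ w := by
      rw [hΦ, Matrix.mulVec_add, hmv]; simp
    rw [mul_zero, ← polar_self', e]
    simp only [polar_add_left, polar_add_right, hfv, hfw, hcross,
      polar_comm (⇑Q) ((l : Matrix ι ι F) *ᵥ w) (((l * s : L) : Matrix ι ι F) *ᵥ v), add_zero, zero_add, hγ₀]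
    rw [← map_add, show l * s * (l * s) + l * l * γ₀ = (0 : L) by linear_combination -(l * l) * hs, map_zero]
  have h2L : ringChar L ≠ 2 := fun h => h2 (by
    haveI := ringChar.charP L
    haveI : CharP L 2 := h ▸ inferInstance
    haveI : CharP F 2 := (algebraMap F L).charP (algebraMap F L).injective 2
    exact CharTwo.two_eq_zero)
  obtain ⟨e, he⟩ := FiniteField.exists_nonsquare (F := F) (fun h => h2 (by
    haveI := ringChar.charP F
    haveI : CharP F 2 := h ▸ inferInstance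
    exact CharTwo.two_eq_zero))
  have heL : ¬ IsSquare (algebraMap F L e) := by
    rintro ⟨s, hs⟩
    obtain ⟨t, rfl⟩ := mem_range_of_quadratic hodd (s := s) (a := (0 : F)) (b := e) (by
      rw [zero_smul, zero_add, hs, pow_two])
    rw [← map_mul] at hs
    exact he ⟨t, (algebraMap F L).injective hs⟩
  have he0 : e ≠ 0 := fun h => he (h ▸ IsSquare.zero)
  have hγ : -γ₀ ≠ 0 := fun h => hns (h ▸ IsSquare.zero)
  have heL0 : algebraMap F L e ≠ 0 := fun h => heL (by rw [h]; exact IsSquare.zero)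
  obtain ⟨ρ, hρ⟩ : IsSquare (algebraMap F L e * -γ₀) := by
    rw [← quadraticChar_one_iff_isSquare (mul_ne_zero heL0 hγ), map_mul,
      quadraticChar_neg_one_iff_not_isSquare.2 heL, quadraticChar_neg_one_iff_not_isSquare.2 hns]
    norm_num
  set l₀ := ρ / -γ₀ with hl₀
  have hl : l₀ * l₀ * -γ₀ = algebraMap F L e := by
    rw [hl₀, div_mul_div_comm, ← hρ, div_mul_eq_mul_div, mul_assoc, mul_div_assoc,
      div_self (mul_ne_zero hγ hγ), mul_one]
  have hl₀0 : l₀ ≠ 0 := fun h => heL (by rw [← hl, h, zero_mul, zero_mul]; exact IsSquare.zero)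
  obtain ⟨J₀, hJ₀c, hJ₀v, hJ₀w⟩ := exists_commuting hL Φ hΦ w (((-γ₀ : L) : Matrix ι ι F) *ᵥ v)
  have hJ₀x : ∀ a b : L, J₀ *ᵥ Φ (a, b) =
      ((b * -γ₀ : L) : Matrix ι ι F) *ᵥ v + (a : Matrix ι ι F) *ᵥ w := fun a b => by
    rw [hΦ, Matrix.mulVec_add, Matrix.mulVec_mulVec, Matrix.mulVec_mulVec, hJ₀c _ a.2, hJ₀c _ b.2,
      ← Matrix.mulVec_mulVec, ← Matrix.mulVec_mulVec, hJ₀v, hJ₀w, hmv, add_comm]
  obtain ⟨J, hJdef⟩ : ∃ J, J = (l₀ : Matrix ι ι F) * J₀ := ⟨_, rfl⟩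
  have hJc : ∀ l ∈ L, J * l = l * J := fun l hlL => by
    rw [hJdef, mul_assoc, hJ₀c l hlL, ← mul_assoc, ← mul_assoc, hL.comm _ l₀.2 _ hlL]
  have hJ₀sq : J₀ * J₀ = ((-γ₀ : L) : Matrix ι ι F) := by
    refine eq_of_commuting Φ hΦ (fun l hlL => by rw [mul_assoc, hJ₀c l hlL, ← mul_assoc, hJ₀c l hlL, mul_assoc])
      (fun l hlL => hL.comm _ (-γ₀ : L).2 _ hlL) ?_ ?_
    · rw [← Matrix.mulVec_mulVec, hJ₀v, hJ₀w]
    · rw [← Matrix.mulVec_mulVec, hJ₀w, Matrix.mulVec_mulVec, hJ₀c _ (-γ₀ : L).2, ← Matrix.mulVec_mulVec, hJ₀v]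
  have hJsq : J * J = (0 : F) • J + e • (1 : Matrix ι ι F) := by
    rw [zero_smul, zero_add, hJdef, mul_assoc, ← mul_assoc J₀, hJ₀c _ l₀.2, mul_assoc, hJ₀sq, ← mul_assoc,
      ← Algebra.algebraMap_eq_smul_one]
    exact congrArg Subtype.val hl
  have hJ₀p : ∀ x, polar Q x (J₀ *ᵥ x) = 0 := fun x => by
    obtain ⟨⟨a, b⟩, rfl⟩ := Φ.surjective x
    rw [hJ₀x, hΦ]
    simp only [polar_add_left, polar_add_right, hfv, hfw, hcross, polar_comm (⇑Q) ((b : Matrix ι ι F) *ᵥ w),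
      add_zero, hγ₀]
    rw [zero_add, ← map_add, show a * (b * -γ₀) + (b * a) * γ₀ = 0 by ring, map_zero]
  have hskew : ∀ (Y : Matrix ι ι F), (∀ x, polar Q x (Y *ᵥ x) = 0) → ∀ x y,
      polar Q x (Y *ᵥ y) + polar Q y (Y *ᵥ x) = 0 := fun Y hY x y => by
    have := hY (x + y)
    rw [Matrix.mulVec_add, polar_add_left, polar_add_right, polar_add_right, hY x, hY y] at this
    linear_combination this
  have hJp : ∀ x, polar Q x (J *ᵥ x) = 0 := fun x => by
    refine (mul_eq_zero.1 (?_ : (2 : F) * _ = 0)).resolve_left h2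
    have h1 := hskew J₀ hJ₀p x ((l₀ : Matrix ι ι F) *ᵥ x)
    rw [Matrix.mulVec_mulVec, hJ₀c _ l₀.2, ← hJdef, hsa _ l₀.2, Matrix.mulVec_mulVec, ← hJdef] at h1
    linear_combination h1
  refine quadratic_field_of_elem hQ hJsq ?_ ?_ (fun x => by rw [hJp, zero_mul]) ?_ ?_ ?_
  · intro t ht
    exact he ⟨t, by linear_combination -ht⟩
  · intro x y
    rw [zero_smul, zero_sub, Matrix.neg_mulVec, QuadraticMap.polar_neg_right, polar_comm (⇑Q) (J *ᵥ x)]
    linear_combination hskew J hJp x y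
  · intro x
    refine mul_left_cancel₀ h2 ?_
    have h1 := hskew J hJp (J *ᵥ x) x
    rw [Matrix.mulVec_mulVec, hJsq, zero_smul, zero_add, Matrix.smul_mulVec, Matrix.one_mulVec, polar_smul_right',
      polar_self', polar_self'] at h1
    linear_combination h1
  · by_contra hcon
    push Not at hcon
    have hz : ∀ x y, polar Q (J *ᵥ x) y = 0 := fun x y => by
      refine (mul_eq_zero.1 (?_ : (2 : F) * _ = 0)).resolve_left h2
      have h1 := hskew J hJp y x
      rw [polar_comm (⇑Q) y, ← hcon x y] at h1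
      linear_combination h1
    have h1 := hQ _ (hz (J *ᵥ v))
    rw [Matrix.mulVec_mulVec, hJsq, zero_smul, zero_add, Matrix.smul_mulVec, Matrix.one_mulVec, smul_eq_zero] at h1
    exact h1.elim he0 hv0
  · intro g hg
    obtain ⟨Y, hY⟩ : ∃ Y, Y = (g : Matrix ι ι F) * J * ((g⁻¹ : GL ι F) : Matrix ι ι F) := ⟨_, rfl⟩
    rw [← hY]
    have hYc : ∀ l ∈ L, Y * l = l * Y := hY ▸ hconjcomm g hg J hJc
    have hYp : ∀ x, polar Q x (Y *ᵥ x) = 0 := fun x =>
      (hY ▸ hconjpol g hg J 0 (fun x => by rw [hJp, zero_mul]) x).trans (zero_mul _)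
    have hdiag : ∀ (a : L) (x : ι → F), polar Q ((a : Matrix ι ι F) *ᵥ x) (Y *ᵥ x) = 0 := fun a x => by
      refine (mul_eq_zero.1 (?_ : (2 : F) * _ = 0)).resolve_left h2
      have h1 := hskew Y hYp ((a : Matrix ι ι F) *ᵥ x) x
      rw [Matrix.mulVec_mulVec, hYc _ a.2, ← Matrix.mulVec_mulVec, ← hsa _ a.2] at h1
      linear_combination h1
    obtain ⟨⟨a, b⟩, hab⟩ := Φ.surjective (Y *ᵥ v)
    obtain ⟨⟨c, d⟩, hcd⟩ := Φ.surjective (Y *ᵥ w)
    rw [hΦ] at hab hcd
    have ha : a = 0 := hinj a fun l => by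
      have := hdiag l v
      rwa [← hab, polar_add_right, hfv, hcross, add_zero] at this
    have hd : d = 0 := by
      have hdγ : d * γ₀ = 0 := hinj _ fun l => by
        have := hdiag l w
        rw [← hcd, polar_add_right, hfw, polar_comm (⇑Q) ((l : Matrix ι ι F) *ᵥ w), hcross, zero_add, hγ₀,
          mul_assoc] at this
        exact this
      exact (mul_eq_zero.1 hdγ).resolve_right (fun h => hγ (by rw [h, neg_zero]))
    have hc : c = b * -γ₀ := by
      rw [mul_neg, ← add_eq_zero_iff_eq_neg]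
      refine hinj _ fun l => ?_
      have h1 := hskew Y hYp ((l : Matrix ι ι F) *ᵥ v) w
      rw [Matrix.mulVec_mulVec v, hYc _ l.2, ← Matrix.mulVec_mulVec, ← hab, ← hcd, ha, hd, Matrix.mulVec_add] at h1
      simp only [← hmv, mul_zero, ZeroMemClass.coe_zero, Matrix.zero_mulVec, Matrix.mulVec_zero, add_zero, zero_add,
        hfv] at h1
      rw [polar_comm (⇑Q) w, show polar Q (((l * b : L) : Matrix ι ι F) *ᵥ w) w = fw (l * b) from rfl, hγ₀,
        mul_assoc] at h1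
      rw [mul_add, map_add]; exact h1
    have hYJ : Y = (b : Matrix ι ι F) * J₀ := by
      refine eq_of_commuting Φ hΦ hYc (fun l hlL => by
        rw [mul_assoc, hJ₀c l hlL, ← mul_assoc, ← mul_assoc, hL.comm _ b.2 _ hlL]) ?_ ?_
      · rw [← hab, ha, ← Matrix.mulVec_mulVec, hJ₀v]; simp
      · rw [← hcd, hd, hc, ← Matrix.mulVec_mulVec, hJ₀w, hmv]; simp
    have hYsq : Y * Y = e • (1 : Matrix ι ι F) := by
      rw [hY, hconjsq, hJsq, zero_smul, zero_add, Matrix.mul_smul, mul_one, Matrix.smul_mul, Units.mul_inv]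
    have hb : b * b * -γ₀ = algebraMap F L e := Subtype.ext (by
      show (b : Matrix ι ι F) * b * ((-γ₀ : L) : Matrix ι ι F) = algebraMap F (Matrix ι ι F) e
      rw [Algebra.algebraMap_eq_smul_one, ← hYsq, hYJ, mul_assoc (b : Matrix ι ι F) J₀, ← mul_assoc J₀,
        hJ₀c _ b.2, mul_assoc (b : Matrix ι ι F) J₀, hJ₀sq, ← mul_assoc])
    have hbl : (b - l₀) * (b + l₀) = 0 := mul_right_cancel₀ hγ (by linear_combination hb - hl)
    rcases mul_eq_zero.1 hbl with h | h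
    · exact ⟨0, 1, by rw [hYJ, sub_eq_zero.1 h, ← hJdef, zero_smul, one_smul, zero_add]⟩
    · refine ⟨0, -1, ?_⟩
      rw [hYJ, eq_neg_of_add_eq_zero_left h, zero_smul, zero_add, neg_one_smul, hJdef]
      exact neg_mul _ _

set_option maxHeartbeats 800000 in
/-- The quadratic field in characteristic two. -/
theorem field_five_two (hQ : Nondeg Q) (hn : Fintype.card ι = 10) (hL : IsFieldSubalgebra 5 L)
    (hsa : IsSelfAdjointFor (polar ⇑Q) L) (h2 : (2 : F) = 0) (halt : ∀ k ∈ L, ∀ v, polar Q (k *ᵥ v) v = 0)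
    (hHQ : FixesQuadForm (matrixSet H) ⇑Q) (hle : H ≤ subalgebraNormalizer L)
    (hS : ∀ v : ι → F, v ≠ 0 → ∃ l ∈ L, Q (l *ᵥ v) ≠ 0) :
    ∃ K : Subalgebra F (Matrix ι ι F), IsFieldSubalgebra 2 K ∧ IsAdjointClosedFor (polar ⇑Q) K ∧
      ¬ IsSelfAdjointFor (polar ⇑Q) K ∧ (∀ k ∈ K, ∃ c : F, ∀ v, Q (k *ᵥ v) = c * Q v) ∧
      H ≤ subalgebraNormalizer K := by
  classical
  haveI : Nonempty ι := Fintype.card_pos_iff.1 (by omega)
  have hfield : IsField L :=
    { exists_pair_ne := ⟨0, 1, fun h => zero_ne_one (congrArg Subtype.val h : (0 : Matrix ι ι F) = 1)⟩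
      mul_comm := fun a b => Subtype.ext (hL.comm _ a.2 _ b.2)
      mul_inv_cancel := fun {a} ha => by
        obtain ⟨y, hy, h⟩ := hL.inv a.1 a.2 (fun h => ha (Subtype.ext h))
        exact ⟨⟨y, hy⟩, Subtype.ext h⟩ }
  letI : Field L := hfield.toField
  haveI : Fintype L := Fintype.ofFinite L
  haveI : FiniteDimensional F L := inferInstance
  have hodd : Odd (finrank F L) := by rw [hL.finrank_eq]; decide
  have hmv : ∀ (a b : L) (x : ι → F), ((a * b : L) : Matrix ι ι F) *ᵥ x =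
      (a : Matrix ι ι F) *ᵥ ((b : Matrix ι ι F) *ᵥ x) := fun a b x => (Matrix.mulVec_mulVec _ _ _).symm
  have hmove : ∀ (a b : L) (x y : ι → F), polar Q ((a : Matrix ι ι F) *ᵥ x) ((b : Matrix ι ι F) *ᵥ y) =
      polar Q (((a * b : L) : Matrix ι ι F) *ᵥ x) y := fun a b x y => by
    rw [mul_comm a b, hmv, hsa _ b.2]
  -- a vector with a non-zero value
  obtain ⟨v, hQv⟩ : ∃ v, Q v ≠ 0 := by
    obtain ⟨l, -, hl⟩ := hS (Pi.single (Classical.arbitrary ι) 1) (by simp)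
    exact ⟨_, hl⟩
  have hv0 : v ≠ 0 := fun h => hQv (by rw [h, QuadraticMap.map_zero])
  have hconjcomm : ∀ g ∈ H, ∀ J : Matrix ι ι F, (∀ l ∈ L, J * l = l * J) → ∀ l ∈ L,
      (g : Matrix ι ι F) * J * ((g⁻¹ : GL ι F) : Matrix ι ι F) * l =
        l * ((g : Matrix ι ι F) * J * ((g⁻¹ : GL ι F) : Matrix ι ι F)) := by
    intro g hg J hJ l hl
    set k := ((g⁻¹ : GL ι F) : Matrix ι ι F) * l * (g : Matrix ι ι F)
    have hk : k ∈ L := mem_of_normalizer (hle hg) hl
    calc (g : Matrix ι ι F) * J * ((g⁻¹ : GL ι F) : Matrix ι ι F) * l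
        = (g : Matrix ι ι F) * (J * k) * ((g⁻¹ : GL ι F) : Matrix ι ι F) := by simp [k, mul_assoc]
      _ = (g : Matrix ι ι F) * (k * J) * ((g⁻¹ : GL ι F) : Matrix ι ι F) := by rw [hJ k hk]
      _ = _ := by simp [k, mul_assoc]
  have hconjsq : ∀ (g : GL ι F) (J : Matrix ι ι F),
      ((g : Matrix ι ι F) * J * ((g⁻¹ : GL ι F) : Matrix ι ι F)) *
        ((g : Matrix ι ι F) * J * ((g⁻¹ : GL ι F) : Matrix ι ι F)) =
      (g : Matrix ι ι F) * (J * J) * ((g⁻¹ : GL ι F) : Matrix ι ι F) := fun g J => by simp [mul_assoc]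
  have hconjpol : ∀ g ∈ H, ∀ (J : Matrix ι ι F) (t : F), (∀ x, polar Q x (J *ᵥ x) = t * Q x) → ∀ x,
      polar Q x (((g : Matrix ι ι F) * J * ((g⁻¹ : GL ι F) : Matrix ι ι F)) *ᵥ x) = t * Q x := by
    intro g hg J t hJ x
    obtain ⟨y, rfl⟩ : ∃ y, (g : Matrix ι ι F) *ᵥ y = x :=
      ⟨((g⁻¹ : GL ι F) : Matrix ι ι F) *ᵥ x, by rw [Matrix.mulVec_mulVec, Units.mul_inv, Matrix.one_mulVec]⟩
    have hg' : ∀ z, Q ((g : Matrix ι ι F) *ᵥ z) = Q z := fun z => hHQ _ (Aschbacher.mem_matrixSet hg) z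
    rw [← Matrix.mulVec_mulVec, ← Matrix.mulVec_mulVec, Matrix.mulVec_mulVec y, Units.inv_mul, Matrix.one_mulVec,
      hg', ← hJ y]
    simp only [polar, ← Matrix.mulVec_add, hg']
  obtain ⟨w, -, hwv⟩ : ∃ w ∈ (⊤ : Submodule F (ι → F)), w ∉ LinearMap.range (evalMap L v) :=
    SetLike.not_le_iff_exists.1 fun h => by
      have := Submodule.finrank_mono h
      rw [finrank_top, finrank_fintype_fun_eq_card, finrank_evalMap hL hv0] at this
      omega
  obtain ⟨Φ, hΦ⟩ := exists_coords (r := 5) hL (by omega) hv0 hwv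
  have h2L : (2 : L) = 0 := by rw [← map_ofNat (algebraMap F L) 2, h2, map_zero]
  have hzero : ∀ (a b : L) (x : ι → F), polar Q ((a : Matrix ι ι F) *ᵥ x) ((b : Matrix ι ι F) *ᵥ x) = 0 :=
    fun a b x => by rw [hmove]; exact halt _ (a * b).2 x
  let g₀ : L →ₗ[F] F := (Q.polarBilin.flip w).comp (evalMap L v)
  have hg₀ : ∀ a b : L, polar Q ((a : Matrix ι ι F) *ᵥ v) ((b : Matrix ι ι F) *ᵥ w) = g₀ (a * b) :=
    fun a b => hmove a b v w
  have hg00 : g₀ ≠ 0 := fun h => hv0 (hQ v fun x => by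
    obtain ⟨⟨a, b⟩, rfl⟩ := Φ.surjective x
    have e1 := hzero 1 a v
    have e2 := hg₀ 1 b
    rw [OneMemClass.coe_one, Matrix.one_mulVec] at e1 e2
    rw [hΦ, polar_add_right, e1, e2, h, LinearMap.zero_apply, add_zero])
  have hinj : ∀ c : L, (∀ l, g₀ (l * c) = 0) → c = 0 := fun c hc => by
    by_contra hc0
    exact hg00 (LinearMap.ext fun l => by
      have := hc (l * c⁻¹); rwa [mul_assoc, inv_mul_cancel₀ hc0, mul_one] at this)
  choose sq hsq using fun x : L => Aschbacher.exists_sqrt_two h2L x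
  have hsq_uniq : ∀ s x : L, s ^ 2 = x → sq x = s := fun s x hs => by
    have h0 : (sq x - s) ^ 2 = 0 := by linear_combination hsq x + hs + (x - s * sq x) * h2L
    exact sub_eq_zero.1 (pow_eq_zero_iff two_ne_zero |>.1 h0)
  have hμ : ∀ y : ι → F, ∃ μ : L →ₗ[F] F, ∀ m : L, Q ((m : Matrix ι ι F) *ᵥ y) = μ (m * m) := by
    intro y
    refine ⟨{ toFun := fun m => Q ((sq m : Matrix ι ι F) *ᵥ y), map_add' := fun m m' => ?_, map_smul' := fun c m => ?_ },
      fun m => ?_⟩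
    · rw [hsq_uniq (sq m + sq m') (m + m') (by linear_combination hsq m + hsq m' + sq m * sq m' * h2L),
        Subalgebra.coe_add, Matrix.add_mulVec, map_add_polar, hzero, add_zero]
    · obtain ⟨c', hc'⟩ := Aschbacher.exists_sqrt_two h2 c
      rw [hsq_uniq (c' • sq m) (c • m) (by rw [smul_pow, hsq, hc']), Subalgebra.coe_smul, Matrix.smul_mulVec,
        qmap_smul, hc']
      rfl
    · simp only [LinearMap.coe_mk, AddHom.coe_mk]
      rw [hsq_uniq m (m * m) (pow_two m)]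
  obtain ⟨μv, hμv⟩ := hμ v
  obtain ⟨μw, hμw⟩ := hμ w
  obtain ⟨a₀, ha₀⟩ := exists_translate hL hg00 μv
  obtain ⟨b₀, hb₀⟩ := exists_translate hL hg00 μw
  obtain ⟨J₀, hJ₀c, hJ₀v, hJ₀w⟩ := exists_commuting hL Φ hΦ ((a₀ : Matrix ι ι F) *ᵥ w)
    ((b₀ : Matrix ι ι F) *ᵥ v + w)
  have hJ₀x : ∀ a b : L, J₀ *ᵥ Φ (a, b) = Φ (b * b₀, a * a₀ + b) := fun a b => by
    rw [hΦ, hΦ, Matrix.mulVec_add, Matrix.mulVec_mulVec, Matrix.mulVec_mulVec, hJ₀c _ a.2, hJ₀c _ b.2,
      ← Matrix.mulVec_mulVec, ← Matrix.mulVec_mulVec, hJ₀v, hJ₀w, Matrix.mulVec_add, ← hmv, ← hmv,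
      Subalgebra.coe_add, Matrix.add_mulVec]
    abel
  have hJ₀p : ∀ x, polar Q x (J₀ *ᵥ x) = 1 * Q x := fun x => by
    obtain ⟨⟨a, b⟩, rfl⟩ := Φ.surjective x
    rw [hJ₀x, hΦ, hΦ, one_mul, map_add_polar, hμv, hμw, ha₀, hb₀]
    simp only [polar_add_left, polar_add_right, hzero, hg₀, polar_comm (⇑Q) ((b : Matrix ι ι F) *ᵥ w), zero_add,
      add_zero, ← map_add]
    congr 1
    ring
  have hJ₀sq : J₀ * J₀ + J₀ = ((a₀ * b₀ : L) : Matrix ι ι F) := by
    refine eq_of_commuting Φ hΦ (fun l hlL => ?_) (fun l hlL => hL.comm _ (a₀ * b₀).2 _ hlL) ?_ ?_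
    · rw [add_mul, mul_add, mul_assoc, hJ₀c l hlL, ← mul_assoc, hJ₀c l hlL, mul_assoc]
    all_goals rw [Matrix.add_mulVec, ← Matrix.mulVec_mulVec]
    · rw [show v = Φ (1, 0) by rw [hΦ]; simp, hJ₀x, hJ₀x, ← map_add, Prod.mk_add_mk, hΦ, hΦ]
      rw [show ((1 : L) * a₀ + 0) * b₀ + 0 * b₀ = a₀ * b₀ by ring,
        show (0 : L) * b₀ * a₀ + (1 * a₀ + 0) + (1 * a₀ + 0) = 0 by linear_combination a₀ * h2L]
      simp [Matrix.mulVec_add]
    · rw [show w = Φ (0, 1) by rw [hΦ]; simp, hJ₀x, hJ₀x, ← map_add, Prod.mk_add_mk, hΦ, hΦ]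
      rw [show ((0 : L) * a₀ + 1) * b₀ + 1 * b₀ = 0 by linear_combination b₀ * h2L,
        show (1 : L) * b₀ * a₀ + (0 * a₀ + 1) + (0 * a₀ + 1) = a₀ * b₀ by linear_combination h2L]
      simp [Matrix.mulVec_add]
  let AS : L →+ L :=
    { toFun := fun t => t ^ 2 + t
      map_zero' := by ring
      map_add' := fun a b => by linear_combination a * b * h2L }
  have hη : a₀ * b₀ ∉ AS.range := by
    rintro ⟨s, hs⟩
    have hs' : s ^ 2 + s = a₀ * b₀ := hs
    obtain ⟨Y, hY⟩ : ∃ Y, Y = J₀ + (s : Matrix ι ι F) := ⟨_, rfl⟩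
    have hYY : Y * (Y + 1) = 0 := by
      have h22 : (2 : Matrix ι ι F) = 0 := by
        rw [← map_ofNat (algebraMap F (Matrix ι ι F)) 2, h2, map_zero]
      have e1 : Y * (Y + 1) = (J₀ * J₀ + J₀) + ((s ^ 2 + s : L) : Matrix ι ι F) +
          2 * (J₀ * (s : Matrix ι ι F)) := by
        rw [hY, Subalgebra.coe_add, SubmonoidClass.coe_pow, pow_two]
        simp only [mul_add, add_mul, mul_one, ← hJ₀c _ s.2, two_mul]
        abel
      rw [e1, h22, zero_mul, add_zero, hs', hJ₀sq, ← two_mul, h22, zero_mul]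
    obtain ⟨u, δ, hu0, hu⟩ : ∃ (u : ι → F) (δ : F), u ≠ 0 ∧ Y *ᵥ u = δ • u := by
      by_cases h0 : (Y + 1) *ᵥ v = 0
      · refine ⟨v, -1, hv0, ?_⟩
        rw [Matrix.add_mulVec, Matrix.one_mulVec] at h0
        rw [neg_one_smul]; exact eq_neg_of_add_eq_zero_left h0
      · exact ⟨_, 0, h0, by rw [Matrix.mulVec_mulVec, hYY, Matrix.zero_mulVec, zero_smul]⟩
    obtain ⟨l, hl, hQl⟩ := hS u hu0
    refine hQl ?_
    have h1 := hJ₀p (l *ᵥ u)
    rw [one_mul, Matrix.mulVec_mulVec, hJ₀c l hl, ← Matrix.mulVec_mulVec,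
      show J₀ = Y - (s : Matrix ι ι F) by rw [hY, add_sub_cancel_right], Matrix.sub_mulVec, hu, Matrix.mulVec_sub,
      Matrix.mulVec_smul, QuadraticMap.polar_sub_right, polar_smul_right', polar_self', h2, zero_mul, mul_zero] at h1
    rw [← h1, show l *ᵥ ((s : Matrix ι ι F) *ᵥ u) = ((⟨l, hl⟩ * s : L) : Matrix ι ι F) *ᵥ u from
      Matrix.mulVec_mulVec _ _ _]
    have e2 : polar Q (l *ᵥ u) (((⟨l, hl⟩ * s : L) : Matrix ι ι F) *ᵥ u) = 0 := hzero ⟨l, hl⟩ _ u
    rw [Matrix.mulVec_mulVec, show (((⟨l, hl⟩ * s : L) : Matrix ι ι F)) = l * (s : Matrix ι ι F) from rfl] at *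
    rw [e2, sub_zero]
  have hidx : AS.range.index ≤ 2 := by
    have hker : Nat.card AS.ker ≤ 2 := by
      have hsub : (AS.ker : Set L) ⊆ {0, -1} := fun t ht => by
        have h0' : t ^ 2 + t = 0 := AddMonoidHom.mem_ker.1 ht
        have h0 : t * (t + 1) = 0 := by linear_combination h0'
        rcases mul_eq_zero.1 h0 with h | h
        · exact Or.inl h
        · exact Or.inr (eq_neg_of_add_eq_zero_left h)
      calc Nat.card AS.ker = (AS.ker : Set L).ncard := (Nat.card_coe_set_eq (AS.ker : Set L))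
        _ ≤ ({0, -1} : Set L).ncard := Set.ncard_le_ncard hsub (Set.toFinite _)
        _ ≤ 2 := (Set.ncard_insert_le _ _).trans (by simp)
    have h1 := AS.range.card_mul_index
    have h3 := AS.ker.card_mul_index
    rw [AddSubgroup.index_ker] at h3
    have hpos : 0 < Nat.card AS.range := Nat.card_pos
    nlinarith
  obtain ⟨e, he⟩ : ∃ e : F, ∀ t : F, t ^ 2 + t ≠ e := by
    have hns : ¬ Function.Surjective (fun t : F => t ^ 2 + t) := fun h => by
      have h1 := (Finite.injective_iff_surjective.2 h) (a₁ := 0) (a₂ := 1)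
        (by show (0 : F) ^ 2 + 0 = 1 ^ 2 + 1; linear_combination -h2)
      exact zero_ne_one h1
    simpa [Function.Surjective] using hns
  have heR : algebraMap F L e ∉ AS.range := by
    rintro ⟨s, hs⟩
    have hs' : s ^ 2 + s = algebraMap F L e := hs
    obtain ⟨t, rfl⟩ := mem_range_of_quadratic hodd (s := s) (a := (-1 : F)) (b := e) (by
      rw [neg_one_smul]; linear_combination hs')
    rw [← map_pow, ← map_add] at hs'
    exact he t ((algebraMap F L).injective hs')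
  obtain ⟨s₀, hs₀⟩ : a₀ * b₀ + algebraMap F L e ∈ AS.range := by
    have hi : AS.range.index = 2 := by
      have : AS.range.index ≠ 1 := fun h1 => hη (by rw [AddSubgroup.index_eq_one.1 h1]; trivial)
      have : AS.range.index ≠ 0 := AddSubgroup.index_ne_zero_of_finite
      omega
    exact (AddSubgroup.add_mem_iff_of_index_two hi).2 (iff_of_false hη heR)
  have hs₀' : s₀ ^ 2 + s₀ = a₀ * b₀ + algebraMap F L e := hs₀
  obtain ⟨J, hJdef⟩ : ∃ J, J = J₀ + (s₀ : Matrix ι ι F) := ⟨_, rfl⟩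
  have h22 : (2 : Matrix ι ι F) = 0 := by rw [← map_ofNat (algebraMap F (Matrix ι ι F)) 2, h2, map_zero]
  have hneg : ∀ X : Matrix ι ι F, -X = X := fun X => by
    rw [neg_eq_iff_add_eq_zero, ← two_mul, h22, zero_mul]
  have hJsq : J * J = (1 : F) • J + e • (1 : Matrix ι ι F) := by
    have e1 : J * J + J = (J₀ * J₀ + J₀) + ((s₀ ^ 2 + s₀ : L) : Matrix ι ι F) +
        2 * (J₀ * (s₀ : Matrix ι ι F)) := by
      rw [hJdef, Subalgebra.coe_add, SubmonoidClass.coe_pow, pow_two]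
      simp only [mul_add, add_mul, ← hJ₀c _ s₀.2, two_mul]
      abel
    rw [hs₀', hJ₀sq, Subalgebra.coe_add, h22, zero_mul, add_zero, ← add_assoc, ← two_mul, h22, zero_mul, zero_add,
      SubalgebraClass.coe_algebraMap, Algebra.algebraMap_eq_smul_one] at e1
    rw [one_smul, ← e1, add_left_comm, ← two_mul, h22, zero_mul, add_zero]
  have hJc : ∀ l ∈ L, J * l = l * J := fun l hlL => by
    rw [hJdef, add_mul, mul_add, hJ₀c l hlL, hL.comm _ s₀.2 _ hlL]
  have hJp : ∀ x, polar Q x (J *ᵥ x) = 1 * Q x := fun x => by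
    rw [hJdef, Matrix.add_mulVec, polar_add_right, hJ₀p, ← hsa _ s₀.2, halt _ s₀.2, add_zero]
  have hbil : ∀ (Y : Matrix ι ι F) (t : F), (∀ x, polar Q x (Y *ᵥ x) = t * Q x) → ∀ x y,
      polar Q x (Y *ᵥ y) + polar Q y (Y *ᵥ x) = t * polar Q x y := fun Y t hY x y => by
    have := hY (x + y)
    rw [Matrix.mulVec_add, polar_add_left, polar_add_right, polar_add_right, hY x, hY y, map_add_polar] at this
    linear_combination this
  refine quadratic_field_of_elem hQ hJsq ?_ ?_ hJp ?_ ?_ ?_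
  · intro t ht
    exact he t (by linear_combination ht + t * h2)
  · intro x y
    rw [one_smul, Matrix.sub_mulVec, Matrix.one_mulVec, QuadraticMap.polar_sub_right, polar_comm (⇑Q) (J *ᵥ x)]
    linear_combination hbil J 1 hJp x y
  · intro x
    have h1 := hJp (J *ᵥ x)
    rw [Matrix.mulVec_mulVec, hJsq, one_smul, Matrix.add_mulVec, Matrix.smul_mulVec, Matrix.one_mulVec,
      polar_add_right, polar_self', polar_smul_right', polar_comm (⇑Q) (J *ᵥ x), hJp] at h1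
    linear_combination -h1 + (Q (J *ᵥ x) + e * Q x) * h2
  · by_contra hcon
    push Not at hcon
    refine hv0 (hQ v fun x => ?_)
    have h1 := hbil J 1 hJp v x
    rw [polar_comm (⇑Q) x, hcon v x] at h1
    linear_combination -h1 + polar Q v (J *ᵥ x) * h2
  · intro g hg
    obtain ⟨Y, hY⟩ : ∃ Y, Y = (g : Matrix ι ι F) * J * ((g⁻¹ : GL ι F) : Matrix ι ι F) := ⟨_, rfl⟩
    rw [← hY]
    obtain ⟨D, hD⟩ : ∃ D, D = Y - J := ⟨_, rfl⟩
    have hDc : ∀ l ∈ L, D * l = l * D := fun l hlL => by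
      rw [hD, hY, sub_mul, mul_sub, hJc l hlL, hconjcomm g hg J hJc l hlL]
    have hDp : ∀ x, polar Q x (D *ᵥ x) = 0 * Q x := fun x => by
      rw [hD, hY, Matrix.sub_mulVec, QuadraticMap.polar_sub_right, hconjpol g hg J 1 hJp, hJp]; ring
    have hdiag : ∀ (a : L) (x : ι → F), polar Q ((a : Matrix ι ι F) *ᵥ x) (D *ᵥ x) = 0 := fun a x => by
      have e : a = sq a * sq a := by rw [← pow_two, hsq]
      rw [e, hmv, hsa _ (sq a).2, Matrix.mulVec_mulVec, ← hDc _ (sq a).2, ← Matrix.mulVec_mulVec, hDp, zero_mul]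
    obtain ⟨⟨a, b⟩, hab⟩ := Φ.surjective (D *ᵥ v)
    obtain ⟨⟨c, d⟩, hcd⟩ := Φ.surjective (D *ᵥ w)
    rw [hΦ] at hab hcd
    have hb : b = 0 := hinj b fun l => by
      have := hdiag l v
      rwa [← hab, polar_add_right, hzero, hg₀, zero_add] at this
    have hc : c = 0 := hinj c fun l => by
      have := hdiag l w
      rwa [← hcd, polar_add_right, hzero, add_zero, polar_comm, hg₀, mul_comm] at this
    have hda : d = a := by
      refine sub_eq_zero.1 (hinj _ fun l => ?_)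
      have h1 := hbil D 0 hDp ((l : Matrix ι ι F) *ᵥ v) w
      rw [Matrix.mulVec_mulVec v, hDc _ l.2, ← Matrix.mulVec_mulVec, ← hab, ← hcd, hb, hc, zero_mul] at h1
      simp only [ZeroMemClass.coe_zero, Matrix.zero_mulVec, add_zero, zero_add, ← hmv] at h1
      rw [polar_comm (⇑Q) w] at h1
      conv_lhs at h1 => arg 2; rw [← Matrix.one_mulVec w, ← OneMemClass.coe_one L, hg₀, mul_one]
      rw [hg₀] at h1
      rw [mul_sub, map_sub]
      linear_combination h1 - g₀ (l * a) * h2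
    have hDa : D = (a : Matrix ι ι F) := by
      refine eq_of_commuting Φ hΦ hDc (fun l hlL => hL.comm _ a.2 _ hlL) ?_ ?_
      · rw [← hab, hb]; simp
      · rw [← hcd, hc, hda]; simp
    have hYJ : Y = J + (a : Matrix ι ι F) := by rw [← hDa, hD]; abel
    have hYsq : Y * Y = Y + e • (1 : Matrix ι ι F) := by
      rw [hY, hconjsq, hJsq, one_smul, mul_add, add_mul, Matrix.mul_smul, mul_one, Matrix.smul_mul, Units.mul_inv]
    have ha : (a : Matrix ι ι F) * a = a := by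
      rw [hYJ] at hYsq
      have e1 : J * J + (a : Matrix ι ι F) * a + 2 * (J * (a : Matrix ι ι F)) =
          J + a + e • (1 : Matrix ι ι F) := by
        rw [← hYsq]
        simp only [mul_add, add_mul, ← hJc _ a.2, two_mul]
        abel
      rw [h22, zero_mul, add_zero, hJsq, one_smul, add_right_comm J (a : Matrix ι ι F)] at e1
      exact add_left_cancel e1
    have ha' : a * (a - 1) = 0 := by rw [mul_sub, mul_one, sub_eq_zero]; exact Subtype.ext ha
    rcases mul_eq_zero.1 ha' with h | h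
    · exact ⟨0, 1, by rw [hYJ, h, zero_smul, one_smul, zero_add, ZeroMemClass.coe_zero, add_zero]⟩
    · exact ⟨1, 1, by rw [hYJ, sub_eq_zero.1 h, OneMemClass.coe_one, one_smul, one_smul, add_comm]⟩


/-- A self-adjoint field of degree five in dimension ten. -/
theorem field_five (hQ : Nondeg Q) (hn : Fintype.card ι = 10) (hL : IsFieldSubalgebra 5 L)
    (hsa : IsSelfAdjointFor (polar ⇑Q) L) (halt : (2 : F) = 0 → ∀ k ∈ L, ∀ v, polar Q (k *ᵥ v) v = 0)
    (hH : H ≤ omegaGL ⇑Q) (hle : H ≤ subalgebraNormalizer L) :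
    (∃ W : Submodule F (ι → F), IsTotallySingularQuad (⇑Q) W ∧ finrank F W = 5 ∧ H ≤ subspaceStabilizer W) ∨
    ∃ K : Subalgebra F (Matrix ι ι F), IsFieldSubalgebra 2 K ∧ IsAdjointClosedFor (polar ⇑Q) K ∧
      ¬ IsSelfAdjointFor (polar ⇑Q) K ∧ (∀ k ∈ K, ∃ c : F, ∀ v, Q (k *ᵥ v) = c * Q v) ∧
      H ≤ subalgebraNormalizer K := by
  by_cases hS : ∀ v : ι → F, v ≠ 0 → ∃ l ∈ L, Q (l *ᵥ v) ≠ 0
  · refine Or.inr ?_
    have hHQ := Aschbacher.fixesQuadForm_of_le_omegaGL hH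
    by_cases h2 : (2 : F) = 0
    · exact field_five_two hQ hn hL hsa h2 (halt h2) hHQ hle hS
    · exact field_five_odd hQ hn hL hsa h2 hHQ hle hS
  push Not at hS
  obtain ⟨v, hv0, hv⟩ := hS
  refine Or.inl ⟨LinearMap.range (evalMap L v), ?_, finrank_evalMap hL hv0,
    field_ts_fix hQ hL (by decide) (by omega) (by omega) hv0 hv hH hle⟩
  rintro _ ⟨l, rfl⟩; exact hv l l.2

end Cfsg.Agent.H96.EvenMax
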