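import Cfsg.Agent.H96.EvenMax.Type
import Cfsg.Agent.H96.DecompRefine
import Cfsg.Agent.H96.TensorHalf
import Cfsg.Agent.H96.TensorCoords
import Cfsg.Agent.H96.FrameThree
import Cfsg.Agent.H99.FrameThree
import Cfsg.Agent.H98.OrthMax.NondegWrap
import Cfsg.Agent.S5693
import Cfsg.Agent.S5710

/-!
Non-maximal members over very small fields, in any dimension.
-/

set_option autoImplicit false
set_option linter.unusedSectionVars false

namespace Cfsg.Agent.H96.EvenMax

open scoped MatrixGroups Matrix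
open QuadraticMap Module Cfsg.Agent.Orthogonal

variable {F : Type*} [Field F] [Fintype F]

/-- Plus planes over at most five elements. -/
theorem plus_planes_not_maximal {n t : ℕ} (hn : 5 ≤ n) (ht : 3 ≤ t) {R : QuadraticForm F (Fin n → F)} (hR : Nondeg R)
    {D : Fin t → Submodule F (Fin n → F)} (hD : Cfsg.Geo.IsOrthogonalMDecomposition (⇑R) 2 D)
    (hpl : ∀ i, Plus R (D i)) (hq : Fintype.card F = 3 ∨ Fintype.card F = 2 ∨ Fintype.card F = 4 ∨ Fintype.card F = 5) :
    ∃ K : Subgroup (GL (Fin n) F), Cfsg.Geo.decompositionStabilizer D ⊓ Cfsg.Geo.omegaGL (⇑R) < K ∧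
      K < Cfsg.Geo.omegaGL (⇑R) := by
  classical
  have hdim := hD.decomp.decomp.finrank_eq
  have horth : ∀ i j, i ≠ j → ∀ u ∈ D i, ∀ v ∈ D j, polar R u v = 0 :=
    fun i j hij u hu v hv => hD.decomp.orthogonal i j hij u hu v hv
  have hnd : ∀ i, Nondeg (restr R (D i)) := fun i => H98.OrthMax.nondeg_restr_of_nondegenerateOn (hD.decomp.nondegenerate i)
  have hn5 : 5 ≤ finrank F (Fin n → F) := by rw [Module.finrank_fin_fun]; omega
  obtain ⟨i0, i1, i2, h01, h02, h12⟩ : ∃ a b c : Fin t, a ≠ b ∧ a ≠ c ∧ b ≠ c :=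
    ⟨⟨0, by omega⟩, ⟨1, by omega⟩, ⟨2, by omega⟩, by simp, by simp, by simp⟩
  choose e f hmem hfr hspan using fun i => S5693.plus_frame (hnd i) (m := 1) (by rw [hdim]) (hpl i)
  have hef : ∀ i, R (e i 0) = 0 ∧ R (f i 0) = 0 ∧ polar R (e i 0) (f i 0) = 1 := fun i =>
    ⟨(hfr i).qe 0, (hfr i).qf 0, by rw [(hfr i).ef, if_pos rfl]⟩
  have hsp : ∀ i v, v ∈ D i → ∃ a b : F, v = a • e i 0 + b • f i 0 := fun i v hv => by
    obtain ⟨a, b, hab⟩ := hspan i v hv
    exact ⟨a 0, b 0, by simpa using hab⟩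
  have hval : ∀ i (a b : F), R (a • e i 0 + b • f i 0) = a * b := fun i a b => by
    rw [map_add_polar, qmap_smul, qmap_smul, polar_smul_left', polar_smul_right', (hef i).1, (hef i).2.1,
      (hef i).2.2]
    ring
  have hpp : ∀ i (a b c d : F), polar R (a • e i 0 + b • f i 0) (c • e i 0 + d • f i 0) = a * d + b * c := by
    intro i a b c d
    simp only [polar_add_left, polar_add_right, polar_smul_left', polar_smul_right', polar_self', (hef i).1,
      (hef i).2.1, (hef i).2.2, polar_comm (⇑R) (f i 0) (e i 0)]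
    ring
  rcases hq with hq | hq | hq | hq
  · -- three elements
    have h3 : (3 : F) = 0 := by
      have h := FiniteField.cast_card_eq_zero F; rwa [hq] at h
    let e3 := ZMod.ringEquivOfPrime F Nat.prime_three hq
    have hF : ∀ r : F, r = 0 ∨ r = 1 ∨ r = -1 := fun r => by
      obtain ⟨s, rfl⟩ := e3.surjective r
      have hs : ∀ s : ZMod 3, s = 0 ∨ s = 1 ∨ s = -1 := by decide
      rcases hs s with rfl | rfl | rfl <;> simp
    have h2 : (2 : F) ≠ 0 := fun h => one_ne_zero (α := F) (by linear_combination h3 - h)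
    refine Cfsg.Agent.H96.framed_planes_not_maximal hR hn5 h2 horth (fun r => r ≠ 0) ![1, -1]
      (fun l => by fin_cases l <;> simp) (fun l => by fin_cases l <;> simp)
      (fun i => ![(1 : F) • e i 0 + (1 : F) • f i 0, (1 : F) • e i 0 + (-1 : F) • f i 0])
      (fun i l => by
        fin_cases l <;>
          exact (D i).add_mem ((D i).smul_mem _ (hmem i 0).1) ((D i).smul_mem _ (hmem i 0).2))
      (fun i l => by
        fin_cases l
        · exact (hval i 1 1).trans (by simp)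
        · exact (hval i 1 (-1)).trans (by simp))
      (fun i => (hpp i 1 1 1 (-1)).trans (by ring)) ?_ h01 h02 h12
      ((1 + 1 : F) • e i1 0) ?_ ?_ h01.symm ?_
    · intro i v hv hne
      obtain ⟨a, b, rfl⟩ := hsp i v hv
      rw [hval] at hne
      rcases hF a with rfl | rfl | rfl <;> rcases hF b with rfl | rfl | rfl <;> (try simp at hne)
      · exact ⟨0, Or.inl rfl⟩
      · exact ⟨1, Or.inl rfl⟩
      · refine ⟨1, Or.inr ?_⟩; simp; abel
      · refine ⟨0, Or.inr ?_⟩; simp; abel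
    · rw [qmap_smul, (hef i1).1, mul_zero]
    · rw [polar_smul_right', horth i0 i1 h01 _ _ _ (hmem i1 0).1, mul_zero]
      exact (D i0).add_mem ((D i0).smul_mem _ (hmem i0 0).1) ((D i0).smul_mem _ (hmem i0 0).2)
    · show polar R _ ((1 : F) • e i1 0 + (1 : F) • f i1 0) ≠ 0
      rw [show (1 + 1 : F) • e i1 0 = (1 + 1 : F) • e i1 0 + (0 : F) • f i1 0 by simp, hpp]
      intro h; exact h2 (by linear_combination h)
  · -- two elements
    have h20 : (2 : F) = 0 := by have h := FiniteField.cast_card_eq_zero F; rwa [hq] at h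
    have hF : ∀ r : F, r = 0 ∨ r = 1 := fun r => by
      by_contra hr
      push Not at hr
      have hlt : ({0, 1, r} : Finset F).card ≤ Fintype.card F := Finset.card_le_univ _
      rw [Finset.card_insert_of_notMem (by simp [Ne.symm hr.1]),
        Finset.card_insert_of_notMem (by simp [Ne.symm hr.2]), Finset.card_singleton] at hlt
      omega
    exact Cfsg.Agent.H96.two_planes_not_maximal hR hn5 hF h20 horth (fun i => e i 0) (fun i => f i 0)
      (fun i => (hmem i 0).1) (fun i => (hmem i 0).2) hef hsp h01 h02 h12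
  · -- four elements
    have h20 : (2 : F) = 0 := by
      have h := FiniteField.cast_card_eq_zero F
      rw [hq] at h
      exact mul_self_eq_zero.1 (by push_cast at h; linear_combination h)
    obtain ⟨ω, hω0, hω1⟩ : ∃ ω : F, ω ≠ 0 ∧ ω ≠ 1 := by
      by_contra hcon
      push Not at hcon
      have hsub : (Finset.univ : Finset F) ⊆ {0, 1} := fun r _ => by
        by_cases h : r = 0
        · simp [h]
        · simp [hcon r h]
      have := Finset.card_le_card hsub
      rw [Finset.card_univ, hq, Finset.card_pair zero_ne_one] at this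
      omega
    have hω : ω * ω + ω + 1 = 0 := by
      have h := FiniteField.pow_card_sub_one_eq_one ω hω0
      rw [hq] at h
      exact (mul_eq_zero.1 (show (ω - 1) * (ω * ω + ω + 1) = 0 by linear_combination h)).resolve_left
        (sub_ne_zero.2 hω1)
    have hω2 : ω + 1 ≠ 0 := fun h => hω1 (by linear_combination h - h20)
    have hω3 : ω + 1 ≠ 1 := fun h => hω0 (by linear_combination h)
    have hω4 : ω + 1 ≠ ω := fun h => one_ne_zero (α := F) (by linear_combination h)
    have hF : ∀ r : F, r = 0 ∨ r = 1 ∨ r = ω ∨ r = ω + 1 := fun r => by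
      have huniv : ({0, 1, ω, ω + 1} : Finset F) = Finset.univ := by
        refine Finset.eq_univ_of_card _ ?_
        rw [hq, Finset.card_insert_of_notMem (by simp [hω0.symm, hω2.symm]),
          Finset.card_insert_of_notMem (by simp [hω1.symm, hω3.symm]),
          Finset.card_insert_of_notMem (by simp [hω4.symm]), Finset.card_singleton]
      have := huniv.symm ▸ Finset.mem_univ r
      simpa using this
    exact Cfsg.Agent.H96.four_planes_not_maximal hR hn5 hω hF h20 horth (fun i => e i 0) (fun i => f i 0)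
      (fun i => (hmem i 0).1) (fun i => (hmem i 0).2) hef hsp h01 h02 h12
  · -- five elements
    have h5 : (5 : F) = 0 := by have h := FiniteField.cast_card_eq_zero F; rwa [hq] at h
    let e5 := ZMod.ringEquivOfPrime F Nat.prime_five hq
    have hF : ∀ r : F, r = 0 ∨ r = 1 ∨ r = 2 ∨ r = 3 ∨ r = 4 := fun r => by
      obtain ⟨s, rfl⟩ := e5.surjective r
      have hs : ∀ s : ZMod 5, s = 0 ∨ s = 1 ∨ s = 2 ∨ s = 3 ∨ s = 4 := by decide
      rcases hs s with rfl | rfl | rfl | rfl | rfl <;> simp [map_ofNat]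
    have h2 : (2 : F) ≠ 0 := fun h => one_ne_zero (α := F) (by linear_combination h5 - 2 * h)
    refine Cfsg.Agent.H96.framed_planes_not_maximal hR hn5 h2 horth (fun r => r = 1) ![1, 1]
      (fun l => by fin_cases l <;> simp) (fun l => by fin_cases l <;> simp)
      (fun i => ![(1 : F) • e i 0 + (1 : F) • f i 0, (2 : F) • e i 0 + (3 : F) • f i 0])
      (fun i l => by
        fin_cases l <;>
          exact (D i).add_mem ((D i).smul_mem _ (hmem i 0).1) ((D i).smul_mem _ (hmem i 0).2))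
      (fun i l => by
        fin_cases l
        · exact (hval i 1 1).trans (by simp)
        · exact (hval i 2 3).trans (show (2 : F) * 3 = 1 by linear_combination h5))
      (fun i => (hpp i 1 1 2 3).trans (by linear_combination h5)) ?_ h01 h02 h12
      (((1 : F) • e i1 0 + (1 : F) • f i1 0) + (2 : F) • ((1 : F) • e i2 0 + (1 : F) • f i2 0)) ?_ ?_ h01.symm ?_
    · intro i v hv hv1
      obtain ⟨a, b, rfl⟩ := hsp i v hv
      rw [hval] at hv1
      obtain ⟨rfl, rfl⟩ | ⟨rfl, rfl⟩ | ⟨rfl, rfl⟩ | ⟨rfl, rfl⟩ :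
          (a = 1 ∧ b = 1) ∨ (a = 2 ∧ b = 3) ∨ (a = -2 ∧ b = -3) ∨ (a = -1 ∧ b = -1) := by
        rcases hF a with rfl | rfl | rfl | rfl | rfl
        · simp at hv1
        · exact Or.inl ⟨rfl, by linear_combination hv1⟩
        · exact Or.inr (Or.inl ⟨rfl, by linear_combination 3 * hv1 - b * h5⟩)
        · exact Or.inr (Or.inr (Or.inl ⟨by linear_combination h5, by linear_combination 2 * hv1 - b * h5 + h5⟩))
        · exact Or.inr (Or.inr (Or.inr ⟨by linear_combination h5, by linear_combination 4 * hv1 - 3 * b * h5 + h5⟩))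
      · exact ⟨0, Or.inl rfl⟩
      · exact ⟨1, Or.inl rfl⟩
      · refine ⟨1, Or.inr ?_⟩; simp; abel
      · refine ⟨0, Or.inr ?_⟩; simp; abel
    · rw [map_add_polar, qmap_smul, hval, hval, polar_smul_right', horth i1 i2 h12]
      · linear_combination h5
      · exact (D i1).add_mem ((D i1).smul_mem _ (hmem i1 0).1) ((D i1).smul_mem _ (hmem i1 0).2)
      · exact (D i2).add_mem ((D i2).smul_mem _ (hmem i2 0).1) ((D i2).smul_mem _ (hmem i2 0).2)
    · show polar R ((1 : F) • e i0 0 + (1 : F) • f i0 0) _ = 0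
      have m : ∀ i, (1 : F) • e i 0 + (1 : F) • f i 0 ∈ D i := fun i =>
        (D i).add_mem ((D i).smul_mem _ (hmem i 0).1) ((D i).smul_mem _ (hmem i 0).2)
      rw [polar_add_right, polar_smul_right', horth i0 i1 h01 _ (m i0) _ (m i1), horth i0 i2 h02 _ (m i0) _ (m i2),
        mul_zero, add_zero]
    · show polar R _ ((1 : F) • e i1 0 + (1 : F) • f i1 0) ≠ 0
      have m : ∀ i, (1 : F) • e i 0 + (1 : F) • f i 0 ∈ D i := fun i =>
        (D i).add_mem ((D i).smul_mem _ (hmem i 0).1) ((D i).smul_mem _ (hmem i 0).2)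
      rw [polar_add_left, polar_smul_left', horth i2 i1 h12.symm _ (m i2) _ (m i1), hpp]
      intro h; exact h2 (by linear_combination h)

/-- Four-spaces of plus type over two elements. -/
theorem plus_solids_not_maximal {n t : ℕ} (hn : 5 ≤ n) (ht : 3 ≤ t) {R : QuadraticForm F (Fin n → F)} (hR : Nondeg R)
    {D : Fin t → Submodule F (Fin n → F)} (hD : Cfsg.Geo.IsOrthogonalMDecomposition (⇑R) 4 D)
    (hpl : ∀ i, Plus R (D i)) (hq : Fintype.card F = 2) :
    ∃ K : Subgroup (GL (Fin n) F), Cfsg.Geo.decompositionStabilizer D ⊓ Cfsg.Geo.omegaGL (⇑R) < K ∧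
      K < Cfsg.Geo.omegaGL (⇑R) := by
  classical
  have hdim := hD.decomp.decomp.finrank_eq
  have horth : ∀ i j, i ≠ j → ∀ u ∈ D i, ∀ v ∈ D j, polar R u v = 0 :=
    fun i j hij u hu v hv => hD.decomp.orthogonal i j hij u hu v hv
  have hnd : ∀ i, Nondeg (restr R (D i)) := fun i => H98.OrthMax.nondeg_restr_of_nondegenerateOn (hD.decomp.nondegenerate i)
  have hn5 : 5 ≤ finrank F (Fin n → F) := by rw [Module.finrank_fin_fun]; omega
  obtain ⟨i0, i1, i2, h01, h02, h12⟩ : ∃ a b c : Fin t, a ≠ b ∧ a ≠ c ∧ b ≠ c :=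
    ⟨⟨0, by omega⟩, ⟨1, by omega⟩, ⟨2, by omega⟩, by simp, by simp, by simp⟩
  have h20 : (2 : F) = 0 := by have h := FiniteField.cast_card_eq_zero F; rwa [hq] at h
  have hF : ∀ r : F, r = 0 ∨ r = 1 := fun r => by
    by_contra hr
    push Not at hr
    have hlt : ({0, 1, r} : Finset F).card ≤ Fintype.card F := Finset.card_le_univ _
    rw [Finset.card_insert_of_notMem (by simp [Ne.symm hr.1]),
      Finset.card_insert_of_notMem (by simp [Ne.symm hr.2]), Finset.card_singleton] at hlt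
    omega
  choose e f hmem hfr hspan using fun i => S5693.plus_frame (hnd i) (m := 2) (by rw [hdim]) (hpl i)
  refine Cfsg.Agent.H96.four_spaces_not_maximal hR hn5 hF h20 horth (fun i => e i 0 + f i 0)
    (fun i => e i 0 + (e i 1 + f i 1)) (fun i => e i 0 + f i 0 + e i 1) (fun i => e i 0 + f i 0 + f i 1) ?_ ?_ ?_
    h01 h02 h12
  · intro i
    refine ⟨?_, ?_, ?_, ?_⟩ <;>
      repeat' first
        | apply Submodule.add_mem
        | exact (hmem i _).1
        | exact (hmem i _).2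
  · intro i
    simp [map_add_polar, polar_add_left, polar_add_right, polar_self', (hfr i).qe, (hfr i).qf, (hfr i).ef,
      (hfr i).ee, (hfr i).ff, (hfr i).fe, h20, one_add_one_eq_two]
  · intro i v hv
    obtain ⟨a, b, rfl⟩ := hspan i v hv
    refine ⟨b 0 + a 1 + b 1, a 0 + b 0, a 0 + b 0 + a 1, a 0 + b 0 + b 1, ?_⟩
    simp only [Fin.sum_univ_two]
    match_scalars <;> first
      | linear_combination -(a 0 + 2 * b 0 + a 1 + b 1) * h20
      | linear_combination -(a 0 + b 0 + a 1 + b 1) * h20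
      | linear_combination -(a 0 + b 0) * h20

/-- Minus planes over three elements. -/
theorem minus_planes_not_maximal {ι : Type} [Fintype ι] [DecidableEq ι] (hq : Fintype.card F = 3) {t : ℕ}
    (ht : 5 ≤ t) {R : QuadraticForm F (ι → F)} {D : Fin t → Submodule F (ι → F)}
    (hD : Cfsg.Geo.IsOrthogonalMDecomposition (⇑R) 2 D) (hm : ∀ i, ¬ Plus R (D i)) :
    ∃ K : Subgroup (GL ι F), Cfsg.Geo.decompositionStabilizer D ⊓ Cfsg.Geo.omegaGL (⇑R) < K ∧
      K < Cfsg.Geo.omegaGL (⇑R) := by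
  classical
  have hdim := hD.decomp.decomp.finrank_eq
  have hnd : ∀ i, Nondeg (restr R (D i)) := fun i => H98.OrthMax.nondeg_restr_of_nondegenerateOn (hD.decomp.nondegenerate i)
  have hex : ∀ i, ∃ e : Fin 2 → ι → F, (∀ l, e l ∈ D i) ∧ (∀ l, R (e l) = 1) ∧
      ∀ l l', l ≠ l' → polar R (e l) (e l') = 0 := fun i =>
    H99.plane_frame hq (hnd i) (hdim i) fun u hu hQu => by
      by_contra hu0
      refine hm i ⟨Submodule.span F {u}, ?_, ?_, ?_⟩
      · rwa [Submodule.span_singleton_le_iff_mem]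
      · intro w hw
        obtain ⟨r, rfl⟩ := Submodule.mem_span_singleton.1 hw
        rw [qmap_smul, hQu, mul_zero]
      · rw [finrank_span_singleton hu0, hdim]
  choose e hme hQe ho using hex
  exact H99.frames_not_maximal hq ht le_rfl (by omega) D hD.decomp.decomp.indep hdim
    (fun i j hij u hu v hv => hD.decomp.orthogonal i j hij u hu v hv) one_ne_zero e hme hQe ho

/-- A symplectic tensor product with a plane over two elements. -/
theorem tensorSymp_two_not_maximal {n : ℕ} (hn : 5 ≤ n) (Q : (Fin n → F) → F) (hQ : Cfsg.Geo.IsNondegenerateQuadraticForm Q) (hq : Fintype.card F = 2) (n₂ : ℕ) (h2 : 2 < n₂) (e : (Fin n) ≃ Fin 2 × Fin n₂) (P : Matrix.GeneralLinearGroup (Fin n) F) (f₁ : (Fin 2 → F) → (Fin 2 → F) → F) (f₂ : (Fin n₂ → F) → (Fin n₂ → F) → F) (hf₁ : Cfsg.Geo.IsSymplecticForm f₁) (hf₂ : Cfsg.Geo.IsSymplecticForm f₂) (hT : Cfsg.Geo.IsTensorFormStructure id (QuadraticMap.polar Q) f₁ f₂ e P) (hpure : (∀ (x₁ : Fin 2 → F) (x₂ : Fin n₂ → F),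 Q (Matrix.mulVec (P : Matrix (Fin n) (Fin n) F) ((fun a : Fin 2 × Fin n₂ => x₁ a.1 * x₂ a.2) ∘ e)) = 0)) : ∃ K : Subgroup (Matrix.GeneralLinearGroup (Fin n) F), Cfsg.Geo.tensorProductSubgroup 2 n₂ e P ⊓ Cfsg.Geo.omegaGL Q < K ∧ K < Cfsg.Geo.omegaGL Q := by
  obtain ⟨Q, rfl⟩ : ∃ Q' : QuadraticForm F (Fin n → F), ⇑Q' = Q := ⟨asForm hQ, rfl⟩
  have hN : Nondeg Q := fun x hx => by
    by_contra hne
    obtain ⟨y, hy⟩ := (hQ.nondegenerate x hne).2
    exact hy (hx y)
  have hF : ∀ t : F, t = 0 ∨ t = 1 := fun t => by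
    rcases eq_or_ne t 0 with h | h
    · exact Or.inl h
    · have := FiniteField.pow_card_sub_one_eq_one t h
      rw [hq] at this
      exact Or.inr (by simpa using this)
  have h20 : (2 : F) = 0 := by
    rcases hF 2 with h | h
    · exact h
    · exact absurd (by linear_combination h : (1 : F) = 0) one_ne_zero
  let β : (Fin n₂ → F) →ₗ[F] (Fin n₂ → F) →ₗ[F] F := LinearMap.mk₂ F f₂ hf₂.bilinear.add_left
    hf₂.bilinear.smul_left hf₂.bilinear.add_right hf₂.bilinear.smul_right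
  let Φ : ((Fin n₂ → F) × (Fin n₂ → F)) ≃ₗ[F] (Fin n → F) :=
    (LinearEquiv.finTwoArrow F (Fin n₂ → F)).symm.trans (tensorIso e P)
  have hΦ : ∀ a b, Φ (a, b) = tensorIso e P ![a, b] := fun a b => rfl
  obtain ⟨c, hc, hpol⟩ := tensor_polar hf₂.bilinear hT
  have hf00 : ∀ v, f₁ v v = 0 := hf₁.alternating
  have hg01 : Cfsg.Geo.gramMatrix f₁ 0 1 = 1 := by
    rcases hF (Cfsg.Geo.gramMatrix f₁ 0 1) with h | h
    · exfalso
      obtain ⟨x, hx⟩ := (hf₁.nondegenerate (Pi.single 0 1) (by simp)).2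
      apply hx
      have hs := sum_gram hf₁.bilinear (Pi.single 0 1) x
      rw [← hs]
      simp only [Cfsg.Geo.gramMatrix] at h
      simp [Fin.sum_univ_two, Cfsg.Geo.gramMatrix, hf00, h]
    · exact h
  have hc1 : c = 1 := (hF c).resolve_left hc
  have hsingle : ∀ (i : Fin 2) (a : Fin n₂ → F), Q (tensorIso e P (fun i' => (Pi.single i 1 : Fin 2 → F) i' • a)) = 0 :=
    fun i a => hpure (Pi.single i 1) a
  have h0 : ∀ a, Q (Φ (a, 0)) = 0 ∧ Q (Φ (0, a)) = 0 := fun a => by
    constructor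
    · convert hsingle 0 a using 2
      rw [hΦ]; congr 1; funext i; fin_cases i <;> simp
    · convert hsingle 1 a using 2
      rw [hΦ]; congr 1; funext i; fin_cases i <;> simp
  have hQΦ : ∀ a b, Q (Φ (a, b)) = β a b := fun a b => by
    have e1 : Φ (a, b) = Φ (a, 0) + Φ (0, b) := by rw [← map_add, Prod.mk_add_mk, add_zero, zero_add]
    rw [e1, map_add_polar, (h0 a).1, (h0 b).2, zero_add, zero_add, hΦ, hΦ, hpol, hc1, one_mul]
    have hz : ∀ v, f₂ v 0 = 0 := fun v => LinearMap.map_zero (β v)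
    have hz' : ∀ v, f₂ 0 v = 0 := fun v => LinearMap.map_zero₂ β v
    simp [Fin.sum_univ_two, hg01, hz, hz']
    rfl
  obtain ⟨y, hy⟩ : ∃ y : Fin n₂ → F, y ≠ 0 := ⟨Pi.single ⟨0, by omega⟩ 1, by simp⟩
  obtain ⟨y', hy'⟩ := (hf₂.nondegenerate y hy).2
  have hyy : β y y' = 1 := (hF _).resolve_left hy'
  obtain ⟨z, hz, hz0⟩ := Submodule.exists_mem_ne_zero_of_ne_bot
    (p := LinearMap.ker ((β.flip y).prod (β.flip y'))) fun h => by
      have := LinearMap.finrank_le_finrank_of_injective (LinearMap.ker_eq_bot.1 h)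
      rw [Module.finrank_fintype_fun_eq_card, Fintype.card_fin, Module.finrank_prod, Module.finrank_self] at this
      omega
  rw [LinearMap.mem_ker, Prod.ext_iff] at hz
  obtain ⟨X, hX1, ⟨g, hg, hgX, hgS⟩, hX3⟩ := tensor_half Φ hQΦ hN
    (by rw [Module.finrank_fintype_fun_eq_card, Fintype.card_fin]; omega) hF hf₂.alternating hyy hz.1 hz.2 hz0
  have key : ∀ x : O Q, om Q x ∈ Cfsg.Geo.tensorProductSubgroup 2 n₂ e P →
      ∃ (A : Matrix.GeneralLinearGroup (Fin 2) F) (B : (Fin n₂ → F) →ₗ[F] (Fin n₂ → F)), ∀ a b,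
        (x : (Fin n → F) ≃ₗ[F] (Fin n → F)) (Φ (a, b)) = Φ ((A : Matrix (Fin 2) (Fin 2) F) 0 0 • B a +
          (A : Matrix (Fin 2) (Fin 2) F) 0 1 • B b, (A : Matrix (Fin 2) (Fin 2) F) 1 0 • B a +
          (A : Matrix (Fin 2) (Fin 2) F) 1 1 • B b) := by
    intro x hx
    obtain ⟨A, B, hAB⟩ := exists_tensor_action hx
    refine ⟨A, Matrix.toLin' (B : Matrix (Fin n₂) (Fin n₂) F), fun a b => ?_⟩
    rw [← om_mulVec, hΦ, hΦ, hAB]
    congr 1
    funext i
    fin_cases i <;> simp [Fin.sum_univ_two]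
  refine exists_between Q _ X (fun x _ hx => ?_) ⟨g, hg, hgX, fun hmem => ?_⟩ hX3
  · obtain ⟨A, B, hAB⟩ := key x hx
    exact hX1 x _ B (Matrix.GeneralLinearGroup.det_ne_zero A) hAB
  · obtain ⟨A, B, hAB⟩ := key g hmem
    exact hgS _ B hAB

/-- A symmetric tensor product with a three-space over three elements, minus type. -/
theorem tensorSym_three_not_maximal {n : ℕ} (hn : 5 ≤ n) (Q : (Fin n → F) → F) (hQ : Cfsg.Geo.IsNondegenerateQuadraticForm Q) (hq : Fintype.card F = 3) (n₂ : ℕ) (h2 : 4 ≤ n₂) (e : (Fin n) ≃ Fin 3 × Fin n₂) (P : Matrix.GeneralLinearGroup (Fin n) F) (f₁ : (Fin 3 → F) → (Fin 3 → F) → F) (f₂ : (Fin n₂ → F) → (Fin n₂ → F) → F) (hf₁ : Cfsg.Geo.IsSymmetricForm f₁) (hf₂ : Cfsg.Geo.IsSymmetricForm f₂) (hf₂m : ¬ Cfsg.Geo.IsPlusTypeOn (fun v : Fin n₂ → F => f₂ v v) ⊤) (hT : Cfsg.Geo.IsTensorFormStructure id (QuadraticMap.polar Q) f₁ f₂ e P) : ∃ K : Subgroup (Matrix.GeneralLinearGroup (Fin n) F), Cfsg.Geo.tensorProductSubgroup 3 n₂ e P ⊓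 Cfsg.Geo.omegaGL Q < K ∧ K < Cfsg.Geo.omegaGL Q := by
  obtain ⟨Q, rfl⟩ : ∃ Q' : QuadraticForm F (Fin n → F), ⇑Q' = Q := ⟨asForm hQ, rfl⟩
  have hN : Nondeg Q := fun x hx => by
    by_contra hne
    obtain ⟨y, hy⟩ := (hQ.nondegenerate x hne).2
    exact hy (hx y)
  have hF : ∀ t : F, t = 0 ∨ t = 1 ∨ t = -1 := fun t => by
    rcases eq_or_ne t 0 with h | h
    · exact Or.inl h
    · have := FiniteField.pow_card_sub_one_eq_one t h
      rw [hq] at this
      exact Or.inr (sq_eq_one_iff.1 this)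
  have h3 : (3 : F) = 0 := by
    have := Nat.cast_card_eq_zero F
    rw [hq] at this
    exact_mod_cast this
  let β : (Fin n₂ → F) →ₗ[F] (Fin n₂ → F) →ₗ[F] F := LinearMap.mk₂ F f₂ hf₂.bilinear.add_left
    hf₂.bilinear.smul_left hf₂.bilinear.add_right hf₂.bilinear.smul_right
  obtain ⟨u, d, hd, hu⟩ := S5710.exists_frame_equal hF h3 hf₁
  let M : Matrix (Fin 3) (Fin 3) F := Matrix.of fun i j => u j i
  have hMGM : Matrix.transpose M * Cfsg.Geo.gramMatrix f₁ * M = d • 1 := by
    ext j k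
    rw [Matrix.smul_apply, Matrix.one_apply, smul_eq_mul, mul_ite, mul_one, mul_zero, ← hu j k,
      ← sum_gram hf₁.bilinear]
    simp only [Matrix.mul_apply, Finset.sum_mul, Matrix.transpose_apply]
    rw [Finset.sum_comm]
    rfl
  have hMdet : IsUnit M.det := by
    rw [isUnit_iff_ne_zero]
    intro h
    have := congrArg Matrix.det hMGM
    rw [Matrix.det_mul, h, mul_zero, Matrix.det_smul, Matrix.det_one, mul_one, eq_comm] at this
    exact hd ((pow_eq_zero_iff (by simp)).1 this)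
  have hM1 : M * M⁻¹ = 1 := Matrix.mul_nonsing_inv M hMdet
  have hM2 : M⁻¹ * M = 1 := Matrix.nonsing_inv_mul M hMdet
  let act : Matrix (Fin 3) (Fin 3) F → (Fin 3 → Fin n₂ → F) →ₗ[F] (Fin 3 → Fin n₂ → F) := fun A =>
    LinearMap.pi fun i => ∑ j, A i j • LinearMap.proj j
  have hact : ∀ A x i, act A x i = ∑ j, A i j • x j := fun A x i => by simp [act]
  have hmul : ∀ A B x, act A (act B x) = act (A * B) x := fun A B x => by
    funext i
    simp only [hact, Finset.smul_sum, smul_smul, Matrix.mul_apply, Finset.sum_smul]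
    exact Finset.sum_comm
  have hone : ∀ x, act 1 x = x := fun x => by
    funext i
    rw [hact, Finset.sum_eq_single i (fun k _ hk => by rw [Matrix.one_apply_ne (Ne.symm hk), zero_smul])
      (fun h => absurd (Finset.mem_univ _) h), Matrix.one_apply_eq, one_smul]
  let T : (Fin 3 → Fin n₂ → F) ≃ₗ[F] (Fin 3 → Fin n₂ → F) := LinearEquiv.ofLinearMap (act M) (act M⁻¹)
    (LinearMap.ext fun x => by rw [LinearMap.comp_apply, hmul, hM1, hone]; rfl)
    (LinearMap.ext fun x => by rw [LinearMap.comp_apply, hmul, hM2, hone]; rfl)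
  let Φ : (Fin 3 → Fin n₂ → F) ≃ₗ[F] (Fin n → F) := T.trans (tensorIso e P)
  obtain ⟨c, hc, hpol⟩ := tensor_polar hf₂.bilinear hT
  have hΦ : ∀ x y, polar Q (Φ x) (Φ y) = c * d * ∑ j, β (x j) (y j) := fun x y => by
    show polar Q (tensorIso e P (act M x)) (tensorIso e P (act M y)) = _
    rw [hpol, mul_assoc, Finset.mul_sum (a := d)]
    congr 1
    have : ∀ i i', f₂ (act M x i) (act M y i') = ∑ j, ∑ k, M i j * M i' k * β (x j) (y k) := fun i i' => by
      show β (act M x i) (act M y i') = _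
      simp only [hact, map_sum, map_smul, LinearMap.sum_apply, LinearMap.smul_apply, smul_eq_mul, Finset.mul_sum]
      rw [Finset.sum_comm]
      refine Finset.sum_congr rfl fun j _ => Finset.sum_congr rfl fun k _ => ?_
      ring
    simp only [this, Finset.mul_sum]
    have hent : ∀ j k, ∑ i, ∑ i', M i j * Cfsg.Geo.gramMatrix f₁ i i' * M i' k = if j = k then d else 0 := by
      intro j k
      rw [← hu j k, ← sum_gram hf₁.bilinear]
      rfl
    calc _ = ∑ i, ∑ i', ∑ j, ∑ k, Cfsg.Geo.gramMatrix f₁ i i' * (M i j * M i' k * β (x j) (y k)) := rfl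
      _ = ∑ j, ∑ k, (∑ i, ∑ i', M i j * Cfsg.Geo.gramMatrix f₁ i i' * M i' k) * β (x j) (y k) := by
        simp only [Finset.sum_mul]
        rw [Finset.sum_comm_cycle]
        refine Finset.sum_congr rfl fun j _ => ?_
        rw [Finset.sum_comm_cycle]
        refine Finset.sum_congr rfl fun k _ => ?_
        refine Finset.sum_congr rfl fun i _ => Finset.sum_congr rfl fun i' _ => ?_
        ring
      _ = _ := by simp only [hent, ite_mul, zero_mul, Finset.sum_ite_eq, Finset.mem_univ, if_true]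
  obtain ⟨h1, ⟨g, hg, hgX, hgS⟩, h3'⟩ := frame_three Φ (mul_ne_zero hc hd) hΦ hF h3 hf₂.symm
    (fun a ha => (hf₂.nondegenerate a ha).2) (by rw [Module.finrank_fintype_fun_eq_card, Fintype.card_fin]; omega)
  have key : ∀ x : O Q, om Q x ∈ Cfsg.Geo.tensorProductSubgroup 3 n₂ e P →
      ∃ (A : Matrix (Fin 3) (Fin 3) F) (B : (Fin n₂ → F) →ₗ[F] (Fin n₂ → F)), ∀ z,
        (x : (Fin n → F) ≃ₗ[F] (Fin n → F)) (Φ z) = Φ (fun j => ∑ j', A j j' • B (z j')) := by
    intro x hx
    obtain ⟨A, B, hAB⟩ := exists_tensor_action hx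
    refine ⟨M⁻¹ * (A : Matrix (Fin 3) (Fin 3) F) * M, Matrix.toLin' (B : Matrix (Fin n₂) (Fin n₂) F), fun z => ?_⟩
    show (x : (Fin n → F) ≃ₗ[F] (Fin n → F)) (tensorIso e P (act M z)) = tensorIso e P (act M _)
    rw [← om_mulVec, hAB]
    congr 1
    have e1 : (fun j => ∑ j', (M⁻¹ * (A : Matrix (Fin 3) (Fin 3) F) * M) j j' •
        Matrix.toLin' (B : Matrix (Fin n₂) (Fin n₂) F) (z j')) =
        act (M⁻¹ * (A : Matrix (Fin 3) (Fin 3) F) * M) (fun j' => Matrix.toLin' (B : Matrix (Fin n₂) (Fin n₂) F) (z j')) :=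
      funext fun j => (hact _ _ j).symm
    rw [e1, hmul, ← Matrix.mul_assoc, ← Matrix.mul_assoc, hM1, Matrix.one_mul, ← hmul]
    funext i
    rw [hact]
    refine Finset.sum_congr rfl fun i' _ => ?_
    congr 1
    rw [hact, hact, ← Matrix.toLin'_apply, map_sum]
    exact Finset.sum_congr rfl fun j _ => map_smul _ _ _
  let X := (Cfsg.Geo.decompositionStabilizer (piece Φ)).comap (om Q)
  have hX : ∀ x : O Q, x ∈ X ↔ ∃ σ : Equiv.Perm (Fin 3), ∀ j,
      (piece Φ j).map ((x : (Fin n → F) ≃ₗ[F] (Fin n → F)) : (Fin n → F) →ₗ[F] (Fin n → F)) = piece Φ (σ j) := by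
    intro x
    show (∃ σ : Equiv.Perm (Fin 3), ∀ j, (piece Φ j).map (Matrix.toLin' (om Q x : Matrix (Fin n) (Fin n) F)) = piece Φ (σ j)) ↔ _
    rw [om_toLin']
  refine exists_between Q _ X (fun x _ hx => ?_) ⟨g, hg, (hX g).2 hgX, fun hmem => ?_⟩ ?_
  · obtain ⟨A, B, hAB⟩ := key x hx
    exact (hX x).2 (h1 x A B hAB)
  · obtain ⟨A, B, hAB⟩ := key g hmem
    exact hgS A B hAB
  · obtain ⟨g', hg', hg''⟩ := h3'
    exact ⟨g', hg', fun h => hg'' ((hX g').1 h)⟩

end Cfsg.Agent.H96.EvenMax
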