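import Cfsg.Agent.H96.EvenMax.Cases

/-!
Small facts for the case analyses: fields with fewer than seven elements, and types of isometric pieces.
-/

set_option autoImplicit false

namespace Cfsg.Agent.H96.EvenMax

open Cfsg.Geo Module
open Cfsg.Agent.Orthogonal

variable {n : ℕ} {F : Type*} [Field F] [Fintype F] {Q : QuadraticForm F (Fin n → F)}

theorem card_le_six (h : ¬ 7 ≤ Fintype.card F) :
    Fintype.card F = 3 ∨ Fintype.card F = 2 ∨ Fintype.card F = 4 ∨ Fintype.card F = 5 := by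
  have := Fintype.one_lt_card (α := F)
  obtain ⟨p, k, hp, hk⟩ := (FiniteField.card' F).imp fun p h => by
    obtain ⟨_, m, hp, hm⟩ := h
    exact (⟨(m : ℕ), hp, hm⟩ : ∃ m : ℕ, p.Prime ∧ Fintype.card F = p ^ m)
  have h6 : Fintype.card F ≠ 6 := fun h6 => by
    rw [h6] at hk
    have h2 := (Nat.prime_dvd_prime_iff_eq Nat.prime_two hp).1 (Nat.prime_two.dvd_of_dvd_pow (⟨3, by omega⟩ : 2 ∣ p ^ k))
    have h3 := (Nat.prime_dvd_prime_iff_eq Nat.prime_three hp).1
      (Nat.prime_three.dvd_of_dvd_pow (⟨2, by omega⟩ : 3 ∣ p ^ k))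
    omega
  omega

/-- Isometric pieces share their type. -/
theorem plus_all_or_none {t k : ℕ} {D : Fin t → Submodule F (Fin n → F)}
    (hD : IsOrthogonalMDecomposition (⇑Q) k D) :
    (∀ i, IsPlusTypeOn (⇑Q) (D i)) ∨ ∀ i, ¬ IsPlusTypeOn (⇑Q) (D i) := by
  by_cases h : ∃ j, IsPlusTypeOn (⇑Q) (D j)
  · refine Or.inl fun i => ?_
    obtain ⟨j, U, hUW, hU, hUd⟩ := h
    obtain ⟨φ, hφ⟩ := hD.isometric j i
    refine ⟨((U.comap (D j).subtype).map (φ : D j →ₗ[F] D i)).map (D i).subtype, ?_, ?_, ?_⟩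
    · rintro _ ⟨x, -, rfl⟩; exact x.2
    · rintro _ ⟨_, ⟨x, hx, rfl⟩, rfl⟩
      exact (hφ x).trans (hU _ hx)
    · rw [Submodule.finrank_map_subtype_eq, LinearEquiv.finrank_map_eq,
        (Submodule.comapSubtypeEquivOfLe hUW).finrank_eq, hUd, φ.finrank_eq]
  · push Not at h; exact Or.inr h

end Cfsg.Agent.H96.EvenMax
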