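import Cfsg.Agent.H96.EvenMax.Small
import Cfsg.Agent.S5693

/-!
Symmetric tensor products of a three-space and a four-space: the type of the four-dimensional
factor, and in the plus case the refinement to a symplectic product of a plane and a six-space.
-/

set_option autoImplicit false
set_option linter.unusedSectionVars false

namespace Cfsg.Agent.H96.EvenMax

open scoped MatrixGroups Matrix Kronecker
open Cfsg.Geo Module
open QuadraticMap (polar polar_comm polar_add_left polar_add_right)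
open Cfsg.Agent.Orthogonal

variable {ι : Type} [Fintype ι] [DecidableEq ι] {F : Type*} [Field F] [Fintype F]
  {Q : QuadraticForm F (ι → F)} {e : ι ≃ Fin 3 × Fin 4} {P : GL ι F}
  {f₁ : (Fin 3 → F) → (Fin 3 → F) → F} {f₂ : (Fin 4 → F) → (Fin 4 → F) → F}

/-- The quadratic form of a symmetric bilinear form. -/
theorem exists_diag_form {n : ℕ} (hc2 : (2 : F) ≠ 0) {f : (Fin n → F) → (Fin n → F) → F}
    (hf : IsSymmetricForm f) :
    ∃ q : QuadraticForm F (Fin n → F), ⇑q = (fun v => f v v) ∧ (∀ a b, polar q a b = 2 * f a b) ∧ Nondeg q := by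
  let β : (Fin n → F) →ₗ[F] (Fin n → F) →ₗ[F] F := LinearMap.mk₂ F f hf.bilinear.add_left
    hf.bilinear.smul_left hf.bilinear.add_right hf.bilinear.smul_right
  have hqp : ∀ a b, polar (LinearMap.BilinMap.toQuadraticMap β) a b = 2 * f a b := fun a b => by
    rw [LinearMap.BilinMap.polar_toQuadraticMap]
    show f a b + f b a = _
    rw [hf.symm b a]; ring
  refine ⟨LinearMap.BilinMap.toQuadraticMap β, rfl, hqp, fun x hx => ?_⟩
  by_contra hne
  obtain ⟨b, hb⟩ := (hf.nondegenerate x hne).2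
  have := hx b
  rw [hqp, mul_eq_zero] at this
  exact hb (this.resolve_left hc2)

/-- A plus type four-dimensional factor makes the product of plus type. -/
theorem plus_of_plus_factor (hc2 : (2 : F) ≠ 0) (hf₁ : IsSymmetricForm f₁) (hf₂ : IsSymmetricForm f₂)
    (hs : IsTensorFormStructure id (polar ⇑Q) f₁ f₂ e P) (hcard : 3 * 4 = Fintype.card ι)
    (hp : IsPlusTypeOn (fun v : Fin 4 → F => f₂ v v) ⊤) : Plus Q ⊤ := by
  obtain ⟨U, -, hU, hUd⟩ := hp
  rw [finrank_top, finrank_fin_fun] at hUd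
  obtain ⟨c, -, hpol⟩ := tensor_polar hf₂.bilinear hs
  obtain ⟨q, hq, hqp, -⟩ := exists_diag_form hc2 hf₂
  have hU0 : ∀ a ∈ U, ∀ b ∈ U, f₂ a b = 0 := fun a ha b hb => by
    have hz : ∀ w ∈ U, q w = 0 := fun w hw => (congrFun hq w).trans (hU w hw)
    have := hqp a b
    rw [polar, hz _ (U.add_mem ha hb), hz _ ha, hz _ hb, sub_zero, sub_zero, eq_comm, mul_eq_zero] at this
    exact this.resolve_left hc2
  let L : (Fin 3 → U) →ₗ[F] (ι → F) := (tensorIso e P).toLinearMap ∘ₗ
    LinearMap.pi (fun i => U.subtype ∘ₗ LinearMap.proj i)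
  have hinj : Function.Injective L := fun a b hab => funext fun i =>
    Subtype.ext (congrFun ((tensorIso e P).injective hab) i)
  refine plus_top_of_totSing (U := LinearMap.range L) ?_ ?_
  · rintro _ ⟨a, rfl⟩
    refine mul_left_cancel₀ hc2 ?_
    rw [mul_zero, ← polar_self']
    refine (hpol _ _).trans ?_
    simp [hU0 _ (a _).2 _ (a _).2]
  · rw [LinearMap.finrank_range_of_inj hinj, finrank_pi_fintype, ← hcard]
    simp; omega

/-- A minus type four-dimensional factor makes the product of minus type. -/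
theorem not_plus_of_minus_factor (hQ : Nondeg Q) (hc2 : (2 : F) ≠ 0) (hf₁ : IsSymmetricForm f₁)
    (hf₂ : IsSymmetricForm f₂) (hs : IsTensorFormStructure id (polar ⇑Q) f₁ f₂ e P)
    (hm : ¬ IsPlusTypeOn (fun v : Fin 4 → F => f₂ v v) ⊤) : ¬ Plus Q ⊤ := by
  classical
  obtain ⟨c, hc, hpp⟩ := polar_pure hf₁.bilinear hf₂.bilinear hs
  obtain ⟨q, hq, hqp, hqn⟩ := exists_diag_form hc2 hf₂
  let φ : LinearMap.BilinForm F (Fin 3 → F) := LinearMap.mk₂ F f₁ hf₁.bilinear.add_left
    hf₁.bilinear.smul_left hf₁.bilinear.add_right hf₁.bilinear.smul_right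
  haveI : Invertible (2 : F) := invertibleOfNonzero hc2
  obtain ⟨b, hb⟩ := LinearMap.BilinForm.exists_orthogonal_basis (B := φ) ⟨fun x y => hf₁.symm x y⟩
  let u : Fin 3 → Fin 3 → F := fun i => b (Fin.cast (by simp) i)
  have huo : ∀ i j, i ≠ j → f₁ (u i) (u j) = 0 := fun i j hij =>
    hb (i := Fin.cast (by simp) i) (j := Fin.cast (by simp) j) (by simpa [Fin.ext_iff] using hij)
  have huspan : ∀ x : Fin 3 → F, x ∈ Submodule.span F (Set.range u) := fun x => by
    have : Set.range u = Set.range b := Set.ext fun y =>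
      ⟨fun ⟨i, hi⟩ => ⟨_, hi⟩, fun ⟨i, hi⟩ => ⟨Fin.cast (by simp) i, by simpa [u] using hi⟩⟩
    rw [this, b.span_eq]; trivial
  have hα : ∀ i, f₁ (u i) (u i) ≠ 0 := fun i h0 => by
    obtain ⟨y, hy⟩ := (hf₁.nondegenerate (u i) (b.ne_zero _)).2
    refine hy (Submodule.span_induction (p := fun y _ => f₁ (u i) y = 0) ?_ ?_ ?_ ?_ (huspan y))
    · rintro _ ⟨j, rfl⟩
      by_cases hij : i = j
      · rw [← hij]; exact h0
      · exact huo i j hij
    · exact LinearMap.map_zero (φ (u i))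
    · intro x y _ _ hx hy'; rw [hf₁.bilinear.add_right, hx, hy', add_zero]
    · intro r x _ hx; rw [hf₁.bilinear.smul_right, hx, mul_zero]
  let Λ : (Fin 3 → F) →ₗ[F] (Fin 4 → F) →ₗ[F] (ι → F) := LinearMap.mk₂ F (fun x y => pure e P x y)
    (fun x x' y => by rw [pure, pure, pure, ← map_add]; congr 1; funext i; simp [add_smul])
    (fun r x y => by rw [pure, pure, ← map_smul]; congr 1; funext i; simp [mul_smul])
    (fun x y y' => by rw [pure, pure, pure, ← map_add]; congr 1; funext i; simp)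
    (fun r x y => by rw [pure, pure, ← map_smul]; congr 1; funext i; simp [smul_smul, mul_comm])
  have hΛ : ∀ x y, Λ x y = pure e P x y := fun x y => rfl
  let D : Fin 3 → Submodule F (ι → F) := fun i => LinearMap.range (Λ (u i))
  have hval : ∀ i y, Q (Λ (u i) y) = c * f₁ (u i) (u i) / 2 * (2 * f₂ y y) / 2 := fun i y => by
    have := hpp (u i) y (u i) y
    rw [polar_self'] at this
    rw [hΛ]; field_simp; linear_combination this
  have hinj : ∀ i, Function.Injective (Λ (u i)) := fun i => by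
    rw [← LinearMap.ker_eq_bot, LinearMap.ker_eq_bot']
    intro y hy
    rw [hΛ, pure, LinearEquiv.map_eq_zero_iff] at hy
    obtain ⟨j, hj⟩ := Function.ne_iff.1 (b.ne_zero (Fin.cast (by simp) i) : u i ≠ 0)
    exact (smul_eq_zero.1 (congrFun hy j)).resolve_left hj
  have hnd : ∀ i, Nondeg (restr Q (D i)) := by
    rintro i ⟨x, hx⟩ hy
    obtain ⟨y, rfl⟩ := id hx
    have hy0 : y = 0 := hqn y fun z => by
      have hyz := hy ⟨Λ (u i) z, ⟨z, rfl⟩⟩
      rw [polar_restr] at hyz
      have this : polar Q (pure e P (u i) y) (pure e P (u i) z) = 0 := hyz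
      rw [hpp, mul_eq_zero, mul_eq_zero] at this
      rw [hqp, (this.resolve_left hc).resolve_left (hα i), mul_zero]
    exact Subtype.ext (show Λ (u i) y = 0 by rw [hy0, map_zero])
  have horth : ∀ i j, i ≠ j → Orth Q (D i) (D j) := by
    rintro i j hij _ ⟨y, rfl⟩ _ ⟨z, rfl⟩
    rw [hΛ, hΛ, hpp, huo i j hij, zero_mul, mul_zero]
  have hd : ∀ i, finrank F (D i) = 4 := fun i => by
    rw [LinearMap.finrank_range_of_inj (hinj i), finrank_fin_fun]
  have hmin : ∀ i, ¬ Plus Q (D i) := fun i ⟨U, hUD, hU, hUd⟩ => by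
    refine hm ⟨U.comap (Λ (u i)), le_top, fun y hy => ?_, ?_⟩
    · have := hU _ hy
      rw [hval] at this
      field_simp at this
      rw [mul_zero] at this
      exact (mul_eq_zero.1 this).resolve_left (mul_ne_zero hc (hα i))
    · have e1 : (U.comap (Λ (u i))).map (Λ (u i)) = U := Submodule.map_comap_eq_of_le hUD
      have e2 := (Submodule.equivMapOfInjective _ (hinj i) (U.comap (Λ (u i)))).finrank_eq
      rw [e1] at e2
      rw [hd] at hUd
      rw [finrank_top, finrank_fin_fun, e2]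
      exact hUd
  have hev : ∀ i, Even (finrank F (D i)) := fun i => by rw [hd]; decide
  have hfam : Fam Q D := ⟨hnd, horth, fun i j => iso_of_type (hnd i) (hnd j) (hev i) (by rw [hd, hd])
    (iff_of_false (hmin i) (hmin j))⟩
  have hsup : Finset.univ.sup D = ⊤ := by
    rw [eq_top_iff]
    intro v _
    obtain ⟨x, rfl⟩ := (tensorIso e P).surjective v
    have e1 : tensorIso e P x = ∑ i, Λ (Pi.single i 1) (x i) := by
      simp only [hΛ, pure, ← map_sum]
      congr 1
      funext i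
      rw [Finset.sum_apply, Finset.sum_eq_single i (fun j _ hj => by simp [Pi.single_eq_of_ne (Ne.symm hj)])
        (by simp)]
      simp
    rw [e1]
    refine Submodule.sum_mem _ fun i _ => ?_
    refine Submodule.span_induction (p := fun z _ => Λ z (x i) ∈ Finset.univ.sup D) ?_ ?_ ?_ ?_
      (huspan (Pi.single i 1))
    · rintro _ ⟨j, rfl⟩
      exact Finset.le_sup (f := D) (Finset.mem_univ j) ⟨_, rfl⟩
    · rw [map_zero, LinearMap.zero_apply]; exact Submodule.zero_mem _
    · intro a b' _ _ ha hb'; rw [map_add, LinearMap.add_apply]; exact Submodule.add_mem _ ha hb'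
    · intro r a _ ha; rw [map_smul, LinearMap.smul_apply]; exact Submodule.smul_mem _ _ ha
  rw [← hsup, hfam.plus_odd_iff hev Finset.univ (by decide) (Finset.mem_univ 0)]
  exact hmin 0

/-- The determinant pairing of two-by-two arrays. -/
def detPair (X Y : Fin 2 → Fin 2 → F) : F := X 0 0 * Y 1 1 + X 1 1 * Y 0 0 - X 0 1 * Y 1 0 - X 1 0 * Y 0 1

/-- Rank-one arrays with given column factor. -/
def colLine (v : Fin 2 → F) : (Fin 2 → F) →ₗ[F] (Fin 2 → Fin 2 → F) :=
  LinearMap.pi fun a => v a • LinearMap.id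

theorem colLine_apply (v w : Fin 2 → F) (a b : Fin 2) : colLine v w a b = v a * w b := rfl

theorem colLine_injective {v : Fin 2 → F} (hv : v ≠ 0) : Function.Injective (colLine v) := fun w w' h => by
  obtain ⟨a, ha⟩ := Function.ne_iff.1 hv
  funext b
  exact mul_left_cancel₀ ha (congrFun (congrFun h a) b)

theorem finrank_colLine {v : Fin 2 → F} (hv : v ≠ 0) : finrank F (LinearMap.range (colLine v)) = 2 := by
  rw [LinearMap.finrank_range_of_inj (colLine_injective hv), finrank_fin_fun]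

theorem detPair_colLine (v w w' : Fin 2 → F) : detPair (colLine v w) (colLine v w') = 0 := by
  simp only [detPair, colLine_apply]; ring

theorem inf_colLine (v : Fin 2 → F) :
    finrank F ↥(LinearMap.range (colLine (![1, 0] : Fin 2 → F)) ⊓ LinearMap.range (colLine v)) ≠ 1 := by
  have he : (![1, 0] : Fin 2 → F) ≠ 0 := fun h => one_ne_zero (α := F) (congrFun h 0)
  by_cases hv1 : v 1 = 0
  · by_cases hv0 : v 0 = 0
    · have hz : LinearMap.range (colLine v) = ⊥ := by
        rw [LinearMap.range_eq_bot]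
        ext w a b; fin_cases a <;> simp [colLine, hv0, hv1]
      rw [hz, inf_bot_eq, finrank_bot]; omega
    · have hle : LinearMap.range (colLine (![1, 0] : Fin 2 → F)) ≤ LinearMap.range (colLine v) := by
        rintro _ ⟨w, rfl⟩
        refine ⟨(v 0)⁻¹ • w, funext fun a => funext fun b => ?_⟩
        fin_cases a <;> simp [colLine_apply, hv0, hv1]
      rw [inf_eq_left.2 hle, finrank_colLine he]; omega
  · have : LinearMap.range (colLine (![1, 0] : Fin 2 → F)) ⊓ LinearMap.range (colLine v) = ⊥ := by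
      rw [eq_bot_iff]
      rintro _ ⟨⟨w, rfl⟩, w', hw'⟩
      have hz : w' = 0 := funext fun b => by
        have := congrFun (congrFun hw' 1) b
        simpa [colLine_apply, hv1] using this
      rw [← hw', hz, map_zero]; exact Submodule.zero_mem _
    rw [this, finrank_bot]; omega

/-- A totally singular plane of arrays meeting the first line evenly is a line of the same family. -/
theorem eq_colLine (hc2 : (2 : F) ≠ 0) {W : Submodule F (Fin 2 → Fin 2 → F)} (hd : finrank F W = 2)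
    (hW : ∀ X ∈ W, ∀ Y ∈ W, detPair X Y = 0)
    (h1 : finrank F ↥(LinearMap.range (colLine (![1, 0] : Fin 2 → F)) ⊓ W) ≠ 1) :
    ∃ v : Fin 2 → F, v ≠ 0 ∧ W = LinearMap.range (colLine v) := by
  have he : (![1, 0] : Fin 2 → F) ≠ 0 := fun h => one_ne_zero (α := F) (congrFun h 0)
  have h2 := Submodule.finrank_mono (inf_le_right : LinearMap.range (colLine (![1, 0] : Fin 2 → F)) ⊓ W ≤ W)
  rw [hd] at h2
  rcases (by omega : finrank F ↥(LinearMap.range (colLine (![1, 0] : Fin 2 → F)) ⊓ W) = 0 ∨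
    finrank F ↥(LinearMap.range (colLine (![1, 0] : Fin 2 → F)) ⊓ W) = 2) with h | h
  · let p : W →ₗ[F] (Fin 2 → F) := LinearMap.proj 1 ∘ₗ W.subtype
    have hp : Function.Injective p := by
      rw [← LinearMap.ker_eq_bot, LinearMap.ker_eq_bot']
      intro X hX
      have hmem : (X : Fin 2 → Fin 2 → F) ∈ LinearMap.range (colLine (![1, 0] : Fin 2 → F)) ⊓ W :=
        ⟨⟨(X : Fin 2 → Fin 2 → F) 0, funext fun a => funext fun b => by
          fin_cases a
          · simp [colLine_apply]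
          · simpa [colLine_apply, p] using (congrFun hX b).symm⟩, X.2⟩
      rw [Submodule.finrank_eq_zero.1 h, Submodule.mem_bot] at hmem
      exact Subtype.ext hmem
    let pe := LinearEquiv.ofBijective p ⟨hp,
      (LinearMap.injective_iff_surjective_of_finrank_eq_finrank (by rw [hd, finrank_fin_fun])).1 hp⟩
    let M : (Fin 2 → F) →ₗ[F] (Fin 2 → F) := LinearMap.proj 0 ∘ₗ W.subtype ∘ₗ pe.symm.toLinearMap
    have hrow : ∀ w, (pe.symm w : Fin 2 → Fin 2 → F) 1 = w := fun w => pe.apply_symm_apply w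
    have hdet : ∀ w, M w 0 * w 1 - M w 1 * w 0 = 0 := fun w => by
      have := hW _ (pe.symm w).2 _ (pe.symm w).2
      simp only [detPair, hrow] at this
      refine (mul_eq_zero.1 (?_ : (2 : F) * _ = 0)).resolve_left hc2
      simp only [M, LinearMap.comp_apply, LinearMap.proj_apply, LinearEquiv.coe_coe, Submodule.subtype_apply]
      linear_combination this
    have hM : ∀ w, M w = fun b => M ![1, 0] 0 * w b := by
      have d0 := hdet ![1, 0]
      have d1 := hdet ![0, 1]
      have d2 := hdet (![1, 0] + ![0, 1])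
      simp [map_add] at d0 d1 d2
      intro w
      have hw : w = w 0 • ![1, 0] + w 1 • ![0, 1] := by funext b; fin_cases b <;> simp
      have e : ∀ b, M w b = w 0 * M ![1, 0] b + w 1 * M ![0, 1] b := fun b => by
        conv_lhs => rw [hw, map_add, map_smul, map_smul]
        simp
      funext b
      fin_cases b
      · show M w 0 = M ![1, 0] 0 * w 0
        rw [e, d1]; ring
      · show M w 1 = M ![1, 0] 0 * w 1
        rw [e, d0]
        have d2' := hdet (![1, 0] + ![0, 1])
        simp only [map_add, Pi.add_apply, Matrix.cons_val_zero, Matrix.cons_val_one] at d2'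
        linear_combination -(w 1) * d2' + (w 1) * d1 - (w 1) * d0
    refine ⟨![M ![1, 0] 0, 1], fun hz => one_ne_zero (α := F) (congrFun hz 1), ?_⟩
    refine (Submodule.eq_of_le_of_finrank_eq ?_ ?_).symm
    · rintro _ ⟨w, rfl⟩
      have : (pe.symm w : Fin 2 → Fin 2 → F) = colLine ![M ![1, 0] 0, 1] w := by
        funext a b
        fin_cases a
        · simpa [colLine_apply, M] using congrFun (hM w) b
        · simp [colLine_apply, hrow]
      rw [← this]; exact (pe.symm w).2
    · rw [finrank_colLine (fun hz => one_ne_zero (α := F) (congrFun hz 1)), hd]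
  · refine ⟨![1, 0], he, ?_⟩
    have e1 := Submodule.eq_of_le_of_finrank_eq inf_le_right (h.trans hd.symm)
    exact (Submodule.eq_of_le_of_finrank_eq (inf_eq_right.1 e1) (hd.trans (finrank_colLine he).symm))

/-- An injective linear map preserving the lines of one family is a tensor product. -/
theorem exists_split (T : (Fin 2 → Fin 2 → F) →ₗ[F] (Fin 2 → Fin 2 → F)) (hT : Function.Injective T)
    (hline : ∀ v, v ≠ 0 → ∃ v', v' ≠ 0 ∧ (LinearMap.range (colLine v)).map T = LinearMap.range (colLine v')) :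
    ∃ (A : Matrix (Fin 2) (Fin 2) F) (U : (Fin 2 → F) →ₗ[F] (Fin 2 → F)), A.det ≠ 0 ∧ Function.Injective U ∧
      ∀ X i j, T X i j = ∑ k, A i k * U (X k) j := by
  classical
  have hdef : ∀ v v', (LinearMap.range (colLine v)).map T = LinearMap.range (colLine v') → v' ≠ 0 →
      ∃ S : (Fin 2 → F) →ₗ[F] (Fin 2 → F), ∀ w, T (colLine v w) = colLine v' (S w) := fun v v' h hv' => by
    let E := LinearEquiv.ofInjective (colLine v') (colLine_injective hv')
    let C := LinearMap.codRestrict (LinearMap.range (colLine v')) (T ∘ₗ colLine v)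
      (fun w => h ▸ Submodule.mem_map_of_mem ⟨w, rfl⟩)
    refine ⟨E.symm.toLinearMap ∘ₗ C, fun w => ?_⟩
    have e1 := congrArg Subtype.val (E.apply_symm_apply (C w))
    exact e1.symm
  have n0 : (![1, 0] : Fin 2 → F) ≠ 0 := fun h => one_ne_zero (α := F) (congrFun h 0)
  have n1 : (![0, 1] : Fin 2 → F) ≠ 0 := fun h => one_ne_zero (α := F) (congrFun h 1)
  have n2 : (![1, 1] : Fin 2 → F) ≠ 0 := fun h => one_ne_zero (α := F) (congrFun h 0)
  obtain ⟨a, ha, hLa⟩ := hline _ n0
  obtain ⟨b, hb, hLb⟩ := hline _ n1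
  obtain ⟨c, hc, hLc⟩ := hline _ n2
  obtain ⟨S, hS⟩ := hdef _ _ hLa ha
  obtain ⟨R, hR⟩ := hdef _ _ hLb hb
  obtain ⟨U, hU⟩ := hdef _ _ hLc hc
  have hind : LinearIndependent F ![a, b] := by
    rw [LinearIndependent.pair_iff' ha]
    intro k hk
    have hle : LinearMap.range (colLine b) ≤ LinearMap.range (colLine a) := by
      rintro _ ⟨w, rfl⟩
      exact ⟨k • w, funext fun i => funext fun j => by simp [colLine_apply, ← hk]; ring⟩
    rw [← hLa, ← hLb, Submodule.map_le_map_iff_of_injective hT] at hle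
    obtain ⟨w, hw⟩ := hle (LinearMap.mem_range_self (colLine (![0, 1] : Fin 2 → F)) ![1, 0])
    simpa [colLine_apply] using congrFun (congrFun hw 1) 0
  obtain ⟨s, t, hst⟩ : ∃ s t : F, s • a + t • b = c := by
    have hmem : c ∈ Submodule.span F (Set.range ![a, b]) := by
      rw [hind.span_eq_top_of_card_eq_finrank (by simp)]; trivial
    rw [Matrix.range_cons, Matrix.range_cons, Matrix.range_empty, Set.union_empty, Set.singleton_union] at hmem
    exact Submodule.mem_span_pair.1 hmem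
  have hsplit : ∀ w, S w = s • U w ∧ R w = t • U w := fun w => by
    have h0 : colLine (![1, 1] : Fin 2 → F) w = colLine ![1, 0] w + colLine ![0, 1] w := by
      funext i j; fin_cases i <;> simp [colLine_apply]
    have h1 := hU w
    rw [h0, map_add, hS, hR] at h1
    have key : ∀ j, S w j = s * U w j ∧ R w j = t * U w j := fun j => by
      have := LinearIndependent.pair_iff.1 hind (S w j - s * U w j) (R w j - t * U w j) (by
        funext i
        have h2 := congrFun (congrFun h1 i) j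
        simp only [Pi.add_apply, colLine_apply, ← hst, Pi.smul_apply, smul_eq_mul] at h2 ⊢
        simp only [Pi.zero_apply]
        linear_combination h2)
      exact ⟨sub_eq_zero.1 this.1, sub_eq_zero.1 this.2⟩
    exact ⟨funext fun j => (key j).1, funext fun j => (key j).2⟩
  have hzero : ∀ v : Fin 2 → F, v ≠ 0 → ∀ w, w ≠ 0 → T (colLine v w) ≠ 0 := fun v hv w hw h =>
    hw (colLine_injective hv (by rw [hT (h.trans (map_zero T).symm), map_zero]))
  have hs0 : s ≠ 0 := fun h => hzero _ n0 _ n0 (by rw [hS, (hsplit _).1, h, zero_smul, map_zero])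
  have ht0 : t ≠ 0 := fun h => hzero _ n1 _ n0 (by rw [hR, (hsplit _).2, h, zero_smul, map_zero])
  have hU1 : Function.Injective U := by
    rw [← LinearMap.ker_eq_bot, LinearMap.ker_eq_bot']
    intro w hw
    by_contra h
    exact hzero _ n0 _ h (by rw [hS, (hsplit _).1, hw, smul_zero, map_zero])
  refine ⟨!![s * a 0, t * b 0; s * a 1, t * b 1], U, ?_, hU1, fun X i j => ?_⟩
  · rw [Matrix.det_fin_two_of]
    intro hd
    have hdd : a 0 * b 1 - b 0 * a 1 = 0 :=
      (mul_eq_zero.1 (show (s * t) * (a 0 * b 1 - b 0 * a 1) = 0 by linear_combination hd)).resolve_left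
        (mul_ne_zero hs0 ht0)
    have p0 := LinearIndependent.pair_iff.1 hind (b 1) (-a 1) (by
      funext i; fin_cases i <;> simp <;> first | linear_combination hdd | linear_combination -hdd | ring)
    have p1 := LinearIndependent.pair_iff.1 hind (b 0) (-a 0) (by
      funext i; fin_cases i <;> simp <;> first | linear_combination hdd | linear_combination -hdd | ring)
    exact ha (funext fun i => by fin_cases i <;> simp [neg_eq_zero.1 p0.2, neg_eq_zero.1 p1.2])
  · have hX : X = colLine ![1, 0] (X 0) + colLine ![0, 1] (X 1) := by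
      funext i j; fin_cases i <;> simp [colLine_apply]
    conv_lhs => rw [hX, map_add, hS, hR, (hsplit _).1, (hsplit _).2]
    fin_cases i <;> simp [colLine_apply, Fin.sum_univ_two] <;> ring

/-- The lift of a subspace of arrays. -/
noncomputable def liftSub (Ψ : (Fin 3 → Fin 2 → Fin 2 → F) ≃ₗ[F] (ι → F))
    (W : Submodule F (Fin 2 → Fin 2 → F)) : Submodule F (ι → F) :=
  LinearMap.range (Ψ.toLinearMap ∘ₗ LinearMap.pi (fun i => W.subtype ∘ₗ LinearMap.proj i))

theorem mem_liftSub {Ψ : (Fin 3 → Fin 2 → Fin 2 → F) ≃ₗ[F] (ι → F)} {W : Submodule F (Fin 2 → Fin 2 → F)}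
    {x : Fin 3 → Fin 2 → Fin 2 → F} : Ψ x ∈ liftSub Ψ W ↔ ∀ i, x i ∈ W :=
  ⟨fun ⟨a, ha⟩ i => by rw [← Ψ.injective ha]; exact (a i).2,
    fun h => ⟨fun i => ⟨x i, h i⟩, rfl⟩⟩

theorem finrank_liftSub (Ψ : (Fin 3 → Fin 2 → Fin 2 → F) ≃ₗ[F] (ι → F))
    (W : Submodule F (Fin 2 → Fin 2 → F)) : finrank F (liftSub Ψ W) = 3 * finrank F W := by
  rw [liftSub, LinearMap.finrank_range_of_inj, finrank_pi_fintype]
  · simp
  · exact fun a b hab => funext fun i => Subtype.ext (congrFun (Ψ.injective hab) i)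

theorem liftSub_inf (Ψ : (Fin 3 → Fin 2 → Fin 2 → F) ≃ₗ[F] (ι → F))
    (W W' : Submodule F (Fin 2 → Fin 2 → F)) : liftSub Ψ W ⊓ liftSub Ψ W' = liftSub Ψ (W ⊓ W') := by
  ext v
  obtain ⟨x, rfl⟩ := Ψ.surjective v
  simp only [Submodule.mem_inf, mem_liftSub, forall_and]

/-- Six coordinates as three pairs. -/
def sixEquiv : Fin 6 ≃ Fin 3 × Fin 2 := (finProdFinEquiv : Fin 3 × Fin 2 ≃ Fin (3 * 2)).symm

/-- The alternating form on six coordinates built from a symmetric form on three. -/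
def sixForm (f : (Fin 3 → F) → (Fin 3 → F) → F) (x y : Fin 6 → F) : F :=
  f (fun i => x (sixEquiv.symm (i, 0))) (fun i => y (sixEquiv.symm (i, 1))) -
    f (fun i => x (sixEquiv.symm (i, 1))) (fun i => y (sixEquiv.symm (i, 0)))

theorem sixForm_symplectic {f : (Fin 3 → F) → (Fin 3 → F) → F} (hf : IsSymmetricForm f) :
    IsSymplecticForm (sixForm f) := by
  have hskew : ∀ x y, sixForm f x y = - sixForm f y x := fun x y => by
    simp only [sixForm]
    rw [hf.symm (fun i => x (sixEquiv.symm (i, 0))), hf.symm (fun i => x (sixEquiv.symm (i, 1)))]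
    ring
  have hbil : IsBilinearForm (sixForm f) := by
    refine ⟨fun x y v => ?_, fun r x v => ?_, fun x y v => ?_, fun r x v => ?_⟩ <;> simp only [sixForm, Pi.add_apply,
      Pi.smul_apply, smul_eq_mul]
    · rw [show ∀ k, (fun i => x (sixEquiv.symm (i, k)) + y (sixEquiv.symm (i, k))) =
        (fun i => x (sixEquiv.symm (i, k))) + fun i => y (sixEquiv.symm (i, k)) from fun k => rfl,
        show (fun i => x (sixEquiv.symm (i, 1)) + y (sixEquiv.symm (i, 1))) =
        (fun i => x (sixEquiv.symm (i, 1))) + fun i => y (sixEquiv.symm (i, 1)) from rfl,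
        hf.bilinear.add_left, hf.bilinear.add_left]
      ring
    · rw [show (fun i => r * x (sixEquiv.symm (i, 0))) = r • fun i => x (sixEquiv.symm (i, 0)) from rfl,
        show (fun i => r * x (sixEquiv.symm (i, 1))) = r • fun i => x (sixEquiv.symm (i, 1)) from rfl,
        hf.bilinear.smul_left, hf.bilinear.smul_left]
      ring
    · rw [show (fun i => y (sixEquiv.symm (i, 0)) + v (sixEquiv.symm (i, 0))) =
        (fun i => y (sixEquiv.symm (i, 0))) + fun i => v (sixEquiv.symm (i, 0)) from rfl,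
        show (fun i => y (sixEquiv.symm (i, 1)) + v (sixEquiv.symm (i, 1))) =
        (fun i => y (sixEquiv.symm (i, 1))) + fun i => v (sixEquiv.symm (i, 1)) from rfl,
        hf.bilinear.add_right, hf.bilinear.add_right]
      ring
    · rw [show (fun i => r * v (sixEquiv.symm (i, 0))) = r • fun i => v (sixEquiv.symm (i, 0)) from rfl,
        show (fun i => r * v (sixEquiv.symm (i, 1))) = r • fun i => v (sixEquiv.symm (i, 1)) from rfl,
        hf.bilinear.smul_right, hf.bilinear.smul_right]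
      ring
  have hz : ∀ z, f z 0 = 0 := fun z => by
    have := hf.bilinear.smul_right 0 z 0
    simpa using this
  have hnd : ∀ x, x ≠ 0 → ∃ y, sixForm f x y ≠ 0 := by
    intro x hx
    obtain ⟨p, hp⟩ := Function.ne_iff.1 hx
    obtain ⟨⟨i, k⟩, rfl⟩ := sixEquiv.symm.surjective p
    obtain ⟨z, hz'⟩ := (hf.nondegenerate (fun i => x (sixEquiv.symm (i, k))) fun h => hp (congrFun h i)).2
    refine ⟨fun q => if (sixEquiv q).2 = k then 0 else z (sixEquiv q).1, ?_⟩
    simp only [sixForm, Equiv.apply_symm_apply]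
    fin_cases k
    · simpa [hz, show (fun _ : Fin 3 => (0 : F)) = 0 from rfl] using hz'
    · simpa [hz, show (fun _ : Fin 3 => (0 : F)) = 0 from rfl] using hz'
  refine ⟨hbil, hskew, fun x => ?_, fun x hx => ?_⟩
  · simp only [sixForm]
    rw [hf.symm]; ring
  · obtain ⟨y, hy⟩ := hnd x hx
    exact ⟨⟨y, by rw [hskew]; simpa using hy⟩, ⟨y, hy⟩⟩

/-- The alternating form on two coordinates. -/
def twoForm (x y : Fin 2 → F) : F := x 0 * y 1 - x 1 * y 0

theorem twoForm_symplectic : IsSymplecticForm (twoForm (F := F)) := by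
  refine ⟨⟨?_, ?_, ?_, ?_⟩, ?_, ?_, fun x hx => ?_⟩
  iterate 4 (intro a b c; simp [twoForm]; ring)
  · intro a b; simp [twoForm]; ring
  · intro a; simp [twoForm]; ring
  · have hd : ∃ y, twoForm x y ≠ 0 := by
      by_contra hcon
      push Not at hcon
      refine hx (funext fun i => ?_)
      fin_cases i
      · simpa [twoForm] using hcon ![0, 1]
      · simpa [twoForm] using hcon ![1, 0]
    obtain ⟨y, hy⟩ := hd
    exact ⟨⟨y, fun h => hy (by simp [twoForm] at h ⊢; linear_combination -h)⟩, ⟨y, hy⟩⟩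

theorem sum_single {κ M : Type*} [Fintype κ] [DecidableEq κ] [AddCommGroup M] [Module F M]
    {N : Type*} [AddCommGroup N] [Module F N] (a : κ → F) (T : M →ₗ[F] N) (k : κ) (X : M) :
    ∑ i, a i • T ((Pi.single k X : κ → M) i) = a k • T X := by
  rw [Finset.sum_eq_single k (fun j _ hj => by rw [Pi.single_eq_of_ne hj, map_zero, smul_zero]) (by simp),
    Pi.single_eq_same]

/-- An isometry in tensor coordinates keeps the orthogonality of arrays. -/
theorem detPair_act (hf₁ : IsSymmetricForm f₁) (Ψ : (Fin 3 → Fin 2 → Fin 2 → F) ≃ₗ[F] (ι → F)) {c : F}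
    (hc : c ≠ 0) (hΨ : ∀ x y, polar Q (Ψ x) (Ψ y) = c * ∑ i, ∑ i', gramMatrix f₁ i i' * detPair (x i) (y i'))
    {x : O Q} {g : GL ι F} (hxg : om Q x = g) {A : Matrix (Fin 3) (Fin 3) F}
    {T : (Fin 2 → Fin 2 → F) →ₗ[F] (Fin 2 → Fin 2 → F)}
    (hact : ∀ z, (g : Matrix ι ι F) *ᵥ Ψ z = Ψ (fun i => ∑ i', A i i' • T (z i')))
    {X Y : Fin 2 → Fin 2 → F} (hXY : detPair X Y = 0) : detPair (T X) (T Y) = 0 := by
  classical
  obtain ⟨k, l, hkl⟩ : ∃ k l, gramMatrix f₁ k l ≠ 0 := by
    by_contra hcon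
    push Not at hcon
    obtain ⟨y, hy⟩ := (hf₁.nondegenerate (Pi.single 0 1) (by simp)).2
    refine hy ?_
    rw [← sum_gram hf₁.bilinear]
    simp [hcon]
  have hz : ∀ Z : Fin 2 → Fin 2 → F, detPair 0 Z = 0 ∧ detPair Z 0 = 0 := fun Z => by simp [detPair]
  have hgen : ∀ X Y, (∑ i, ∑ i', gramMatrix f₁ i i' * (A i k * A i' l)) * detPair (T X) (T Y) =
      gramMatrix f₁ k l * detPair X Y := by
    intro X Y
    have h1 := O.polar_app x (Ψ (Pi.single k X)) (Ψ (Pi.single l Y))
    rw [← om_mulVec, ← om_mulVec, hxg, hact, hact, hΨ, hΨ, mul_eq_mul_left_iff] at h1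
    replace h1 := h1.resolve_right hc
    simp only [sum_single] at h1
    have e1 : ∑ i, ∑ i', gramMatrix f₁ i i' * detPair ((Pi.single k X : Fin 3 → _) i) ((Pi.single l Y : Fin 3 → _) i') =
        gramMatrix f₁ k l * detPair X Y := by
      rw [Finset.sum_eq_single k (fun i _ hi => Finset.sum_eq_zero fun i' _ => by
          rw [Pi.single_eq_of_ne hi, (hz _).1, mul_zero]) (by simp),
        Finset.sum_eq_single l (fun i' _ hi => by rw [Pi.single_eq_of_ne hi, (hz _).2, mul_zero]) (by simp),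
        Pi.single_eq_same, Pi.single_eq_same]
    rw [← e1, ← h1, Finset.sum_mul]
    refine Finset.sum_congr rfl fun i _ => ?_
    rw [Finset.sum_mul]
    refine Finset.sum_congr rfl fun i' _ => ?_
    simp only [detPair, Pi.smul_apply, smul_eq_mul]; ring
  have hne : (∑ i, ∑ i', gramMatrix f₁ i i' * (A i k * A i' l)) ≠ 0 := fun h0 => by
    have := hgen (fun a b => if a = 0 ∧ b = 0 then 1 else 0) (fun a b => if a = 1 ∧ b = 1 then 1 else 0)
    rw [h0, zero_mul] at this
    simp [detPair] at this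
    exact hkl this.symm
  exact (mul_eq_zero.1 ((hgen X Y).trans (by rw [hXY, mul_zero]))).resolve_left hne

set_option maxHeartbeats 400000 in
/-- An element of Ω in tensor coordinates keeps a family of lines. -/
theorem colLine_act (hQ : Nondeg Q) (hc2 : (2 : F) ≠ 0) (hn : Fintype.card ι = 12)
    (hf₁ : IsSymmetricForm f₁) (Ψ : (Fin 3 → Fin 2 → Fin 2 → F) ≃ₗ[F] (ι → F)) {c : F}
    (hc : c ≠ 0) (hΨ : ∀ x y, polar Q (Ψ x) (Ψ y) = c * ∑ i, ∑ i', gramMatrix f₁ i i' * detPair (x i) (y i'))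
    {x : O Q} (hx : x ∈ commutator (O Q)) {g : GL ι F} (hxg : om Q x = g) {A : Matrix (Fin 3) (Fin 3) F}
    {T : (Fin 2 → Fin 2 → F) →ₗ[F] (Fin 2 → Fin 2 → F)} (hT : Function.Injective T)
    (hact : ∀ z, (g : Matrix ι ι F) *ᵥ Ψ z = Ψ (fun i => ∑ i', A i i' • T (z i'))) :
    ∀ w, w ≠ 0 → ∃ w', w' ≠ 0 ∧
      (LinearMap.range (colLine w)).map T = LinearMap.range (colLine (F := F) w') := by
  classical
  have horth : ∀ X Y, detPair X Y = 0 → detPair (T X) (T Y) = 0 := fun X Y h =>
    detPair_act hf₁ Ψ hc hΨ hxg hact h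
  intro w hw
  set Lw := LinearMap.range (colLine w)
  set L0 := LinearMap.range (colLine (![1, 0] : Fin 2 → F))
  have d0 : finrank F L0 = 2 := finrank_colLine fun h => one_ne_zero (α := F) (congrFun h 0)
  have dw : finrank F Lw = 2 := finrank_colLine hw
  have dT : finrank F (Lw.map T) = 2 := by
    rw [← (Submodule.equivMapOfInjective T hT Lw).finrank_eq, dw]
  have hTS : ∀ W : Submodule F (Fin 2 → Fin 2 → F), (∀ X ∈ W, ∀ Y ∈ W, detPair X Y = 0) →
      TotSing Q (liftSub Ψ W) := fun W hW y hy => by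
    obtain ⟨z, rfl⟩ := Ψ.surjective y
    rw [mem_liftSub] at hy
    refine mul_left_cancel₀ hc2 ?_
    rw [mul_zero, ← polar_self', hΨ]
    simp [hW _ (hy _) _ (hy _)]
  have hW0 : ∀ X ∈ L0, ∀ Y ∈ L0, detPair X Y = 0 := by
    rintro _ ⟨a, rfl⟩ _ ⟨b, rfl⟩; exact detPair_colLine _ a b
  have hWw : ∀ X ∈ Lw, ∀ Y ∈ Lw, detPair X Y = 0 := by
    rintro _ ⟨a, rfl⟩ _ ⟨b, rfl⟩; exact detPair_colLine _ a b
  have hWT : ∀ X ∈ Lw.map T, ∀ Y ∈ Lw.map T, detPair X Y = 0 := by
    rintro _ ⟨X, hX, rfl⟩ _ ⟨Y, hY, rfl⟩; exact horth _ _ (hWw X hX Y hY)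
  have hV : finrank F (ι → F) = 2 * 6 := by rw [finrank_fintype_fun_eq_card, hn]
  have r0 : finrank F (liftSub Ψ L0) = 6 := by rw [finrank_liftSub, d0]
  have rw' : finrank F (liftSub Ψ Lw) = 6 := by rw [finrank_liftSub, dw]
  have rT : finrank F (liftSub Ψ (Lw.map T)) = 6 := by rw [finrank_liftSub, dT]
  have hmap : (liftSub Ψ Lw).map ((x : (ι → F) ≃ₗ[F] (ι → F)) : (ι → F) →ₗ[F] (ι → F)) =
      liftSub Ψ (Lw.map T) := by
    refine Submodule.eq_of_le_of_finrank_eq ?_ (by rw [LinearEquiv.finrank_map_eq, rw', rT])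
    rintro _ ⟨y, hy, rfl⟩
    obtain ⟨z, rfl⟩ := Ψ.surjective y
    rw [SetLike.mem_coe, mem_liftSub] at hy
    rw [LinearEquiv.coe_coe, ← om_mulVec, hxg, hact, mem_liftSub]
    exact fun i => Submodule.sum_mem _ fun i' _ =>
      Submodule.smul_mem _ _ (Submodule.mem_map_of_mem (hy i'))
  have hsign : familySign hQ hV (hTS _ hWw) rw' x = 1 := Abelianization.commutator_subset_ker _ hx
  rw [familySign_apply, hmap, liftSub_inf, finrank_liftSub] at hsign
  have hev := even_codim_sum hQ hV (hTS _ hW0) (hTS _ hWw) (hTS _ hWT) r0 rw' rT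
  rw [liftSub_inf, liftSub_inf, liftSub_inf, finrank_liftSub, finrank_liftSub, finrank_liftSub,
    Nat.even_iff] at hev
  have he : (6 - 3 * finrank F ↥(Lw ⊓ Lw.map T)) % 2 = 0 := by
    rcases Nat.even_or_odd (6 - 3 * finrank F ↥(Lw ⊓ Lw.map T)) with h | h
    · exact Nat.even_iff.1 h
    · rw [h.neg_one_pow] at hsign; exact absurd hsign (by decide)
  have b1 : finrank F ↥(L0 ⊓ Lw) ≤ 2 := (Submodule.finrank_mono (inf_le_left : L0 ⊓ Lw ≤ L0)).trans d0.le
  have b2 : finrank F ↥(Lw ⊓ Lw.map T) ≤ 2 := (Submodule.finrank_mono (inf_le_left : Lw ⊓ Lw.map T ≤ Lw)).trans dw.le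
  have n1 := inf_colLine (F := F) w
  exact eq_colLine hc2 dT hWT (fun h1 => by
    change finrank F ↥(L0 ⊓ Lw.map T) = 1 at h1
    change finrank F ↥(L0 ⊓ Lw) ≠ 1 at n1
    omega)

set_option maxHeartbeats 800000 in
/-- A symmetric 3 × 4 product of plus type refines to a symplectic 2 × 6 product. -/
theorem exists_two_six (hQ : Nondeg Q) (hc2 : (2 : F) ≠ 0) (hn : Fintype.card ι = 12)
    (hf₁ : IsSymmetricForm f₁) (hf₂ : IsSymmetricForm f₂)
    (hs : IsTensorFormStructure id (polar ⇑Q) f₁ f₂ e P) (hp : IsPlusTypeOn (fun v : Fin 4 → F => f₂ v v) ⊤)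
    {H : Subgroup (GL ι F)} (hH : H ≤ omegaGL ⇑Q) (hle : H ≤ tensorProductSubgroup 3 4 e P) :
    ∃ (e' : ι ≃ Fin 2 × Fin 6) (P' : GL ι F) (g₁ : (Fin 2 → F) → (Fin 2 → F) → F)
      (g₂ : (Fin 6 → F) → (Fin 6 → F) → F), IsSymplecticForm g₁ ∧ IsSymplecticForm g₂ ∧
      IsTensorFormStructure id (polar ⇑Q) g₁ g₂ e' P' ∧
      (∀ (x₁ : Fin 2 → F) (x₂ : Fin 6 → F),
        Q ((P' : Matrix ι ι F) *ᵥ ((fun a : Fin 2 × Fin 6 => x₁ a.1 * x₂ a.2) ∘ e')) = 0) ∧
      H ≤ tensorProductSubgroup 2 6 e' P' := by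
  classical
  obtain ⟨q, hq, hqp, hqn⟩ := exists_diag_form hc2 hf₂
  rw [← hq] at hp
  obtain ⟨u, v, -, hfr, hspan⟩ := S5693.plus_frame (W := ⊤) (nondeg_restr_top hqn) (m := 2)
    (by rw [finrank_top, finrank_fin_fun]) hp
  let ψ₀ : (Fin 2 → Fin 2 → F) →ₗ[F] (Fin 4 → F) :=
    { toFun := fun X => X 0 0 • u 0 + (2 * X 1 1) • v 0 + (X 0 1 • u 1 + (-(2 * X 1 0)) • v 1)
      map_add' := fun X Y => by simp only [Pi.add_apply]; module
      map_smul' := fun r X => by simp only [Pi.smul_apply, smul_eq_mul, RingHom.id_apply]; module }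
  have hψs : Function.Surjective ψ₀ := fun w => by
    obtain ⟨a, b, hw⟩ := hspan w trivial
    refine ⟨![![a 0, a 1], ![-(b 1 / 2), b 0 / 2]], ?_⟩
    simp only [ψ₀, LinearMap.coe_mk, AddHom.coe_mk, hw, Fin.sum_univ_two]
    simp only [Matrix.cons_val_zero, Matrix.cons_val_one]
    rw [mul_div_cancel₀ _ hc2, mul_neg, mul_div_cancel₀ _ hc2, neg_neg]
    module
  have hψi : Function.Injective ψ₀ :=
    (LinearMap.injective_iff_surjective_of_finrank_eq_finrank (by simp [finrank_pi_fintype])).2 hψs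
  let ψ := LinearEquiv.ofBijective ψ₀ ⟨hψi, hψs⟩
  have hψ : ∀ X Y, f₂ (ψ X) (ψ Y) = detPair X Y := fun X Y => by
    refine mul_left_cancel₀ hc2 ?_
    rw [← hqp]
    show polar q (ψ₀ X) (ψ₀ Y) = _
    simp [ψ₀, detPair, polar_add_left, polar_add_right, polar_smul_left', polar_smul_right', hfr.ef, hfr.ee,
      hfr.ff, hfr.fe]
    ring
  obtain ⟨c, hc, hpol⟩ := tensor_polar hf₂.bilinear hs
  let Ψ : (Fin 3 → Fin 2 → Fin 2 → F) ≃ₗ[F] (ι → F) :=
    (LinearEquiv.piCongrRight fun _ => ψ).trans (tensorIso e P)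
  have hΨ : ∀ x y, polar Q (Ψ x) (Ψ y) = c * ∑ i, ∑ i', gramMatrix f₁ i i' * detPair (x i) (y i') := fun x y => by
    refine (hpol (fun i => ψ (x i)) (fun i => ψ (y i))).trans ?_
    simp only [hψ]
  -- the new coordinates
  let R : ((Fin 2 × Fin 6) → F) ≃ₗ[F] (Fin 3 → Fin 2 → Fin 2 → F) :=
    { toFun := fun x i a b => x (a, sixEquiv.symm (i, b))
      invFun := fun y p => y (sixEquiv p.2).1 p.1 (sixEquiv p.2).2
      left_inv := fun x => funext fun p => by simp
      right_inv := fun y => funext fun i => funext fun a => funext fun b => by simp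
      map_add' := fun x y => rfl
      map_smul' := fun r x => rfl }
  let e' : ι ≃ Fin 2 × Fin 6 := Fintype.equivOfCardEq (by simp [hn])
  let Λ : (ι → F) ≃ₗ[F] (ι → F) := ((LinearEquiv.funCongrLeft F F e'.symm).trans R).trans Ψ
  let P' : GL ι F := glEquiv.symm Λ
  have hP' : ∀ x : Fin 2 × Fin 6 → F, (P' : Matrix ι ι F) *ᵥ (x ∘ e') = Ψ (R x) := fun x => by
    rw [← glEquiv_apply, show glEquiv P' = Λ from glEquiv.apply_symm_apply Λ]
    show Ψ (R ((x ∘ e') ∘ e'.symm)) = _
    rw [Function.comp_assoc, Equiv.self_comp_symm, Function.comp_id]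
  have hpolar : ∀ x y, polar Q ((P' : Matrix ι ι F) *ᵥ (x ∘ e')) ((P' : Matrix ι ι F) *ᵥ (y ∘ e')) =
      c * ∑ a, ∑ a', gramMatrix (twoForm (F := F)) a a' *
        sixForm f₁ (fun p => x (a, p)) (fun p => y (a', p)) := fun x y => by
    rw [hP', hP', hΨ]
    congr 1
    simp only [sixForm, ← sum_gram hf₁.bilinear]
    simp only [gramMatrix, twoForm, detPair, Fin.sum_univ_two, R, LinearEquiv.coe_mk, LinearMap.coe_mk,
      AddHom.coe_mk, Fin.sum_univ_three]
    simp
    ring
  refine ⟨e', P', twoForm, sixForm f₁, twoForm_symplectic, sixForm_symplectic hf₁, ⟨c, hc, fun x y => ?_⟩,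
    fun x₁ x₂ => ?_, fun g hg => ?_⟩
  · rw [hpolar]
    congr 1
    simp only [formOfGram, id_eq, Fintype.sum_prod_type, Matrix.kroneckerMap_apply]
    refine Finset.sum_congr rfl fun a _ => ?_
    rw [Finset.sum_comm]
    refine Finset.sum_congr rfl fun a' _ => ?_
    rw [← sum_gram (sixForm_symplectic hf₁).bilinear, Finset.mul_sum]
    refine Finset.sum_congr rfl fun p _ => ?_
    rw [Finset.mul_sum]
    refine Finset.sum_congr rfl fun p' _ => ?_
    ring
  · refine mul_left_cancel₀ hc2 ?_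
    rw [mul_zero, ← polar_self', hpolar]
    have hsm := (sixForm_symplectic hf₁).bilinear
    simp only [show ∀ a, (fun p => x₁ a * x₂ p) = x₁ a • x₂ from fun a => rfl, hsm.smul_left, hsm.smul_right,
      (sixForm_symplectic hf₁).alternating, mul_zero, Finset.sum_const_zero]
  -- the action
  obtain ⟨x, hx, hxg⟩ := (mem_omegaGL_iff Q g).1 (hH hg)
  obtain ⟨A, B, hAB⟩ := exists_tensor_action (hle hg)
  let Bl : (Fin 4 → F) →ₗ[F] (Fin 4 → F) := Matrix.toLin' (B : Matrix (Fin 4) (Fin 4) F)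
  let T : (Fin 2 → Fin 2 → F) →ₗ[F] (Fin 2 → Fin 2 → F) :=
    ψ.symm.toLinearMap ∘ₗ Bl ∘ₗ ψ.toLinearMap
  have hT : Function.Injective T :=
    ψ.symm.injective.comp ((show Function.Injective Bl from fun a b h =>
      Matrix.mulVec_injective_iff_isUnit.2 B.isUnit (by simpa [Bl] using h)).comp ψ.injective)
  have hψT : ∀ X, ψ (T X) = (B : Matrix (Fin 4) (Fin 4) F) *ᵥ ψ X := fun X => by simp [T, Bl]
  have hact : ∀ z, (g : Matrix ι ι F) *ᵥ Ψ z =
      Ψ (fun i => ∑ i', (A : Matrix (Fin 3) (Fin 3) F) i i' • T (z i')) := fun z => by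
    refine (hAB _).trans ?_
    show tensorIso e P _ = tensorIso e P _
    congr 1
    funext i
    show _ = ψ (∑ i', (A : Matrix (Fin 3) (Fin 3) F) i i' • T (z i'))
    simp [map_sum, hψT]
  have hline := colLine_act hQ hc2 hn hf₁ Ψ hc hΨ hx hxg hT hact
  obtain ⟨A', U, hA', hU, hsplit⟩ := exists_split T hT hline
  let U' := LinearMap.toMatrix' U
  have hU' : U'.det ≠ 0 := fun h => by
    obtain ⟨w, hw, hw'⟩ := Matrix.exists_mulVec_eq_zero_iff.2 h
    exact hw (hU ((LinearMap.toMatrix'_mulVec U w).symm.trans (hw'.trans (map_zero U).symm)))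
  let B6 : Matrix (Fin 6) (Fin 6) F :=
    Matrix.reindex sixEquiv.symm sixEquiv.symm ((A : Matrix (Fin 3) (Fin 3) F) ⊗ₖ U')
  have hB6 : B6.det ≠ 0 := by
    rw [Matrix.det_reindex_self, Matrix.det_kronecker]
    exact mul_ne_zero (pow_ne_zero _ (Matrix.GeneralLinearGroup.det_ne_zero A)) (pow_ne_zero _ hU')
  let GA := Matrix.GeneralLinearGroup.mkOfDetNeZero A' hA'
  let GB := Matrix.GeneralLinearGroup.mkOfDetNeZero B6 hB6
  have hk : (A' ⊗ₖ B6).det ≠ 0 := by
    rw [Matrix.det_kronecker]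
    exact mul_ne_zero (pow_ne_zero _ hA') (pow_ne_zero _ hB6)
  refine ⟨glReindex e'.symm (Matrix.GeneralLinearGroup.mkOfDetNeZero _ hk),
    ⟨_, ⟨GA, GB, rfl⟩, rfl⟩, ?_⟩
  rw [MulEquiv.coe_toMonoidHom, MulAut.conj_apply, mul_inv_eq_iff_eq_mul]
  refine Units.ext (matrix_ext' fun y => ?_)
  obtain ⟨z, rfl⟩ : ∃ z, z ∘ e' = y := ⟨y ∘ e'.symm, by funext i; simp⟩
  rw [Units.val_mul, Units.val_mul, ← Matrix.mulVec_mulVec, ← Matrix.mulVec_mulVec]
  have e1 : ((glReindex e'.symm (Matrix.GeneralLinearGroup.mkOfDetNeZero _ hk) : GL ι F) : Matrix ι ι F) *ᵥ (z ∘ e') =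
      ((A' ⊗ₖ B6) *ᵥ z) ∘ e' := by
    show (Matrix.reindex e'.symm e'.symm (A' ⊗ₖ B6)) *ᵥ (z ∘ e') = _
    rw [Matrix.reindex_apply, Equiv.symm_symm, Matrix.submatrix_mulVec_equiv, Function.comp_assoc,
      Equiv.self_comp_symm, Function.comp_id]
  rw [e1, hP', hP', hact]
  congr 1
  funext i a b
  simp only [R, LinearEquiv.coe_mk, LinearMap.coe_mk, AddHom.coe_mk, Finset.sum_apply, Pi.smul_apply, smul_eq_mul,
    hsplit]
  simp only [Matrix.mulVec, dotProduct, Fintype.sum_prod_type, Matrix.kroneckerMap_apply, B6, Matrix.reindex_apply,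
    Matrix.submatrix_apply, Equiv.symm_symm, Equiv.apply_symm_apply]
  rw [eq_comm]
  simp only [show ∀ w j, U w j = ∑ j', U' j j' * w j' from fun w j => by
    rw [← LinearMap.toMatrix'_mulVec U w]; rfl, Finset.mul_sum]
  rw [Finset.sum_comm]
  refine Finset.sum_congr rfl fun k _ => ?_
  rw [← Equiv.sum_comp sixEquiv.symm, Fintype.sum_prod_type]
  simp only [Equiv.apply_symm_apply]
  refine Finset.sum_congr rfl fun i' _ => Finset.sum_congr rfl fun j' _ => ?_
  ring
where
  matrix_ext' {κ : Type} [Fintype κ] [DecidableEq κ] {X Y : Matrix κ κ F} (h : ∀ x, X *ᵥ x = Y *ᵥ x) : X = Y :=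
    Matrix.toLin'.injective (LinearMap.ext fun x => by rw [Matrix.toLin'_apply, Matrix.toLin'_apply, h])

end Cfsg.Agent.H96.EvenMax
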