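import Cfsg.Agent.H96.EvenMax.Proper
import Cfsg.Agent.Aschbacher.EvenOrthBase

/-!
A quadratic field of similarities makes a space of dimension twice an odd number one of minus type.
-/

set_option autoImplicit false
set_option linter.unusedSectionVars false

namespace Cfsg.Agent.H96.EvenMax

open scoped MatrixGroups Matrix
open Cfsg.Geo Module
open QuadraticMap (polar polar_comm polar_add_left polar_add_right)
open Cfsg.Agent.Orthogonal

variable {ι : Type} [Fintype ι] [DecidableEq ι] {F : Type*} [Field F] [Fintype F]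
  {Q : QuadraticForm F (ι → F)} {K : Subalgebra F (Matrix ι ι F)}

/-- Invariance under a subalgebra. -/
def Stable (K : Subalgebra F (Matrix ι ι F)) (W : Submodule F (ι → F)) : Prop :=
  ∀ k ∈ K, ∀ w ∈ W, k *ᵥ w ∈ W

/-- The evaluation line of a vector. -/
noncomputable def orbitPlane (K : Subalgebra F (Matrix ι ι F)) (v : ι → F) : Submodule F (ι → F) :=
  LinearMap.range
    ({ toFun := fun k => (k : Matrix ι ι F) *ᵥ v
       map_add' := fun x y => Matrix.add_mulVec _ _ v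
       map_smul' := fun c x => Matrix.smul_mulVec c (x : Matrix ι ι F) v } : K →ₗ[F] (ι → F))

theorem mem_orbitPlane {v x : ι → F} : x ∈ orbitPlane K v ↔ ∃ k ∈ K, k *ᵥ v = x :=
  ⟨fun ⟨k, hk⟩ => ⟨k, k.2, hk⟩, fun ⟨k, hk, e⟩ => ⟨⟨k, hk⟩, e⟩⟩

theorem stable_orbitPlane (v : ι → F) : Stable K (orbitPlane K v) := fun k hk x hx => by
  obtain ⟨l, hl, rfl⟩ := mem_orbitPlane.1 hx
  exact mem_orbitPlane.2 ⟨k * l, K.mul_mem hk hl, by rw [Matrix.mulVec_mulVec]⟩

variable (hK : IsFieldSubalgebra 2 K) (hsim : ∀ k ∈ K, ∃ c : F, ∀ v, Q (k *ᵥ v) = c * Q v)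

include hK hsim

theorem field_anisotropic (hQ : Nondeg Q) {v : ι → F} (hv : Q v ≠ 0) {k : Matrix ι ι F} (hk : k ∈ K)
    (h : Q (k *ᵥ v) = 0) : k = 0 := by
  by_contra hk0
  obtain ⟨c, hc⟩ := hsim k hk
  obtain ⟨y, hy, hky⟩ := hK.inv k hk hk0
  rw [hc] at h
  have hc0 : c = 0 := (mul_eq_zero.1 h).resolve_right hv
  refine hv ?_
  have := hc (y *ᵥ v)
  rwa [Matrix.mulVec_mulVec, hky, Matrix.one_mulVec, hc0, zero_mul] at this

theorem orbitPlane_facts (hQ : Nondeg Q) {v : ι → F} (hv : Q v ≠ 0) :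
    finrank F (orbitPlane K v) = 2 ∧ ¬ Plus Q (orbitPlane K v) ∧ Nondeg (restr Q (orbitPlane K v)) := by
  have hd : finrank F (orbitPlane K v) = 2 := by
    rw [orbitPlane, LinearMap.finrank_range_of_inj, hK.finrank_eq]
    intro a b hab
    refine Subtype.ext (sub_eq_zero.1 (field_anisotropic hK hsim hQ hv (K.sub_mem a.2 b.2) ?_))
    rw [Matrix.sub_mulVec, show (a : Matrix ι ι F) *ᵥ v = (b : Matrix ι ι F) *ᵥ v from hab, sub_self,
      QuadraticMap.map_zero]
  have hani : ∀ x ∈ orbitPlane K v, Q x = 0 → x = 0 := fun x hx hQx => by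
    obtain ⟨k, hk, rfl⟩ := mem_orbitPlane.1 hx
    rw [field_anisotropic hK hsim hQ hv hk hQx, Matrix.zero_mulVec]
  refine ⟨hd, ?_, ?_⟩
  · rintro ⟨U, hUW, hU, hUd⟩
    obtain ⟨u, hu, hu0⟩ := U.exists_mem_ne_zero_of_ne_bot fun h => by
      rw [h, finrank_bot, hd] at hUd; omega
    exact hu0 (hani u (hUW hu) (hU u hu))
  rintro ⟨r, hr⟩ hrad
  by_contra hne
  have hr0 : r ≠ 0 := fun h => hne (Subtype.ext h)
  have hQr : Q r ≠ 0 := fun h => hr0 (hani r hr h)
  have hrr := hrad ⟨r, hr⟩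
  rw [polar_restr, polar_self'] at hrr
  have h2 : (2 : F) = 0 := (mul_eq_zero.1 hrr).resolve_right hQr
  obtain ⟨y, hy, hyr⟩ : ∃ y ∈ orbitPlane K v, y ∉ Submodule.span F {r} := SetLike.not_le_iff_exists.1 fun hle => by
    have := Submodule.finrank_mono hle
    rw [hd, finrank_span_singleton hr0] at this
    omega
  obtain ⟨s, hs⟩ := Aschbacher.exists_sqrt_two h2 (Q y / Q r)
  have h0 : Q (s • r + y) = 0 := by
    have hp := hrad ⟨y, hy⟩
    rw [polar_restr] at hp
    rw [map_add_polar, qmap_smul, polar_smul_left', hp, hs, div_mul_cancel₀ _ hQr, mul_zero, add_zero,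
      ← two_mul, h2, zero_mul]
  have := hani _ (Submodule.add_mem _ (Submodule.smul_mem _ s hr) hy) h0
  exact hyr (Submodule.mem_span_singleton.2 ⟨-s, by
    rw [neg_smul, eq_comm, ← add_eq_zero_iff_eq_neg, add_comm]; exact this⟩)

theorem exists_peel (hQ : Nondeg Q) {W : Submodule F (ι → F)} (hW : Nondeg (restr Q W)) (hs : Stable K W)
    (h0 : W ≠ ⊥) :
    ∃ P W' : Submodule F (ι → F), Orth Q P W' ∧ P ⊔ W' = W ∧ Nondeg (restr Q P) ∧ Nondeg (restr Q W') ∧
      Stable K W' ∧ finrank F P = 2 ∧ ¬ Plus Q P := by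
  obtain ⟨v, hvW, hv⟩ : ∃ v ∈ W, Q v ≠ 0 := by
    by_contra hcon
    push Not at hcon
    obtain ⟨x, hx, hx0⟩ := W.exists_mem_ne_zero_of_ne_bot h0
    refine hx0 (congrArg Subtype.val (hW ⟨x, hx⟩ fun y => ?_))
    rw [polar_restr]
    simp [polar, hcon _ hx, hcon _ y.2, hcon _ (W.add_mem hx y.2)]
  obtain ⟨hd, hm, hP⟩ := orbitPlane_facts hK hsim hQ hv
  set P := orbitPlane K v with hPdef
  have hPW : P ≤ W := fun x hx => by
    obtain ⟨k, hk, rfl⟩ := mem_orbitPlane.1 hx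
    exact hs k hk v hvW
  have horth : Orth Q P (W ⊓ perp Q P) := fun u hu w hw => hw.2 u hu
  have hsup : P ⊔ (W ⊓ perp Q P) = W := by
    refine le_antisymm (sup_le hPW inf_le_left) fun w hw => ?_
    obtain ⟨a, ha, b, hb, rfl⟩ := Submodule.mem_sup.1 ((hQ.isCompl_perp hP).sup_eq_top.symm ▸ Submodule.mem_top (x := w))
    exact Submodule.add_mem_sup ha ⟨by simpa using W.sub_mem hw (hPW ha), hb⟩
  refine ⟨P, W ⊓ perp Q P, horth, hsup, hP, ?_, ?_, hd, hm⟩
  · intro x hx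
    refine Subtype.ext (congrArg Subtype.val (hW ⟨x, x.2.1⟩ fun y => ?_) :)
    rw [polar_restr]
    obtain ⟨a, ha, b, hb, hab⟩ := Submodule.mem_sup.1 (hsup.symm ▸ y.2 : (y : ι → F) ∈ P ⊔ (W ⊓ perp Q P))
    have := hx ⟨b, hb⟩
    rw [polar_restr] at this
    rw [← hab, polar_add_right, this, polar_comm, horth a ha x x.2, add_zero]
  · intro k hk w hw
    refine ⟨hs k hk w hw.1, fun u hu => ?_⟩
    by_cases hk0 : k = 0
    · rw [hk0, Matrix.zero_mulVec, QuadraticMap.polar_zero_right]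
    obtain ⟨k', hk', hkk⟩ := hK.inv k hk hk0
    obtain ⟨c, hc⟩ := hsim k hk
    have hu' : u = k *ᵥ (k' *ᵥ u) := by rw [Matrix.mulVec_mulVec, hkk, Matrix.one_mulVec]
    have := hw.2 _ (stable_orbitPlane v k' hk' u hu)
    rw [hu']
    simp only [polar, ← Matrix.mulVec_add, hc] at this ⊢
    linear_combination c * this

theorem plus_iff_even_of_stable (hQ : Nondeg Q) : ∀ (d : ℕ) (W : Submodule F (ι → F)), Nondeg (restr Q W) →
    Stable K W → finrank F W = 2 * d → (Plus Q W ↔ Even d) := by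
  intro d
  induction d using Nat.strong_induction_on with
  | _ d ih =>
    intro W hW hs hd
    rcases Nat.eq_zero_or_pos d with rfl | hpos
    · exact iff_of_true ⟨⊥, bot_le, fun x hx => by rw [(Submodule.mem_bot F).1 hx]; exact QuadraticMap.map_zero Q,
        by rw [finrank_bot, hd]⟩ Even.zero
    obtain ⟨P, W₁, ho, hsup, hP, hW₁, hs₁, hPd, hPm⟩ := exists_peel hK hsim hQ hW hs fun h => by
      rw [h, finrank_bot] at hd; omega
    have hd₁ := finrank_sup_orth ho hP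
    rw [hsup, hd, hPd] at hd₁
    rcases Nat.lt_or_ge d 2 with h1 | h2
    · obtain rfl : d = 1 := by omega
      have : W₁ = ⊥ := Submodule.finrank_eq_zero.1 (by omega)
      rw [← hsup, this, sup_bot_eq]
      exact iff_of_false hPm (by decide)
    obtain ⟨P', W₂, ho', hsup', hP', hW₂, hs₂, hP'd, hP'm⟩ := exists_peel hK hsim hQ hW₁ hs₁ fun h => by
      rw [h, finrank_bot] at hd₁; omega
    have hd₂ := finrank_sup_orth ho' hP'
    rw [hsup', hP'd] at hd₂
    have hPP : Orth Q P P' := fun u hu w hw => ho u hu w (hsup' ▸ Submodule.mem_sup_left hw)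
    have hP2 : Orth Q P W₂ := fun u hu w hw => ho u hu w (hsup' ▸ Submodule.mem_sup_right hw)
    obtain ⟨φ, hφ⟩ := iso_of_type hP hP' ⟨1, by rw [hPd]⟩ (by rw [hPd, hP'd]) (iff_of_false hPm hP'm)
    have hplus : Plus Q (P ⊔ P') := plus_pair hPP hP ⟨1, by rw [hPd]⟩ φ hφ
    have he : W = (P ⊔ P') ⊔ W₂ := by rw [sup_assoc, hsup', hsup]
    have hor : Orth Q (P ⊔ P') W₂ := hP2.sup_left ho'
    have hn4 : Nondeg (restr Q (P ⊔ P')) := nondeg_sup hPP hP hP'
    have key := ih (d - 2) (by omega) W₂ hW₂ hs₂ (by omega)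
    have hev : Even d ↔ Even (d - 2) := by rw [Nat.even_sub h2]; simp
    rw [he, hev]
    refine ⟨fun hp => by_contra fun hn => ?_, fun h => hplus.sup hor hn4 (key.2 h)⟩
    rw [sup_comm] at hp
    exact not_plus_sup hor.symm hW₂ hn4 (mt key.1 hn) hplus hp

/-- In dimension twice an odd number a quadratic field of similarities forces minus type. -/
theorem not_plus_of_unitary (hQ : Nondeg Q) {j : ℕ} (hn : Fintype.card ι = 2 * j) (hj : Odd j) :
    ¬ Plus Q ⊤ := fun h =>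
  Nat.not_even_iff_odd.2 hj ((plus_iff_even_of_stable hK hsim hQ j ⊤ (nondeg_restr_top hQ)
    (fun _ _ _ _ => trivial) (by rw [finrank_top, finrank_fintype_fun_eq_card, hn])).1 h)

end Cfsg.Agent.H96.EvenMax
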